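import Cfsg.Agent.H15.TC3
import Cfsg.Agent.H15.F24a.T0
import Cfsg.Agent.H15.F24a.T1
import Cfsg.Agent.H15.F24a.T2
import Cfsg.Agent.H15.F24a.T3
import Cfsg.Agent.H15.F24a.T4
import Cfsg.Agent.H15.F24a.T5
import Cfsg.Agent.H15.F24a.T6
import Cfsg.Agent.H15.F24a.T7
set_option autoImplicit false
set_option maxRecDepth 100000

namespace Cfsg.Agent.H15.F24a
open Cfsg.Agent.H15 Cfsg.Agent.H14

noncomputable def t1_0 (i : ℕ) : ℕ := (Bool.rec (Bool.rec (Bool.rec (t0_0 i) (t0_8 i) (Nat.ble (nat_lit 8) i)) (Bool.rec (t0_16 i) (t0_24 i) (Nat.ble (nat_lit 24) i)) (Nat.ble (nat_lit 16) i)) (Bool.rec (Bool.rec (t0_32 i) (t0_40 i) (Nat.ble (nat_lit 40) i)) (Bool.rec (t0_48 i) (t0_56 i) (Nat.ble (nat_lit 56) i)) (Nat.ble (nat_lit 48) i)) (Nat.ble (nat_lit 32) i))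
noncomputable def t1_8 (i : ℕ) : ℕ := (Bool.rec (Bool.rec (Bool.rec (t0_64 i) (t0_72 i) (Nat.ble (nat_lit 72) i)) (Bool.rec (t0_80 i) (t0_88 i) (Nat.ble (nat_lit 88) i)) (Nat.ble (nat_lit 80) i)) (Bool.rec (Bool.rec (t0_96 i) (t0_104 i) (Nat.ble (nat_lit 104) i)) (Bool.rec (t0_112 i) (t0_120 i) (Nat.ble (nat_lit 120) i)) (Nat.ble (nat_lit 112) i)) (Nat.ble (nat_lit 96) i))
noncomputable def t1_16 (i : ℕ) : ℕ := (Bool.rec (Bool.rec (Bool.rec (t0_128 i) (t0_136 i) (Nat.ble (nat_lit 136) i)) (Bool.rec (t0_144 i) (t0_152 i) (Nat.ble (nat_lit 152) i)) (Nat.ble (nat_lit 144) i)) (Bool.rec (Bool.rec (t0_160 i) (t0_168 i) (Nat.ble (nat_lit 168) i)) (Bool.rec (t0_176 i) (t0_184 i) (Nat.ble (nat_lit 184) i)) (Nat.ble (nat_lit 176) i)) (Nat.ble (nat_lit 160) i))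
noncomputable def t1_24 (i : ℕ) : ℕ := (Bool.rec (Bool.rec (Bool.rec (t0_192 i) (t0_200 i) (Nat.ble (nat_lit 200) i)) (Bool.rec (t0_208 i) (t0_216 i) (Nat.ble (nat_lit 216) i)) (Nat.ble (nat_lit 208) i)) (Bool.rec (Bool.rec (t0_224 i) (t0_232 i) (Nat.ble (nat_lit 232) i)) (Bool.rec (t0_240 i) (t0_248 i) (Nat.ble (nat_lit 248) i)) (Nat.ble (nat_lit 240) i)) (Nat.ble (nat_lit 224) i))
noncomputable def t1_32 (i : ℕ) : ℕ := (Bool.rec (Bool.rec (Bool.rec (t0_256 i) (t0_264 i) (Nat.ble (nat_lit 264) i)) (Bool.rec (t0_272 i) (t0_280 i) (Nat.ble (nat_lit 280) i)) (Nat.ble (nat_lit 272) i)) (Bool.rec (Bool.rec (t0_288 i) (t0_296 i) (Nat.ble (nat_lit 296) i)) (Bool.rec (t0_304 i) (t0_312 i) (Nat.ble (nat_lit 312) i)) (Nat.ble (nat_lit 304) i)) (Nat.ble (nat_lit 288) i))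
noncomputable def t1_40 (i : ℕ) : ℕ := (Bool.rec (Bool.rec (Bool.rec (t0_320 i) (t0_328 i) (Nat.ble (nat_lit 328) i)) (Bool.rec (t0_336 i) (t0_344 i) (Nat.ble (nat_lit 344) i)) (Nat.ble (nat_lit 336) i)) (Bool.rec (Bool.rec (t0_352 i) (t0_360 i) (Nat.ble (nat_lit 360) i)) (Bool.rec (t0_368 i) (t0_376 i) (Nat.ble (nat_lit 376) i)) (Nat.ble (nat_lit 368) i)) (Nat.ble (nat_lit 352) i))
noncomputable def t1_48 (i : ℕ) : ℕ := (Bool.rec (Bool.rec (Bool.rec (t0_384 i) (t0_392 i) (Nat.ble (nat_lit 392) i)) (Bool.rec (t0_400 i) (t0_408 i) (Nat.ble (nat_lit 408) i)) (Nat.ble (nat_lit 400) i)) (Bool.rec (Bool.rec (t0_416 i) (t0_424 i) (Nat.ble (nat_lit 424) i)) (Bool.rec (t0_432 i) (t0_440 i) (Nat.ble (nat_lit 440) i)) (Nat.ble (nat_lit 432) i)) (Nat.ble (nat_lit 416) i))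
noncomputable def t1_56 (i : ℕ) : ℕ := (Bool.rec (Bool.rec (Bool.rec (t0_448 i) (t0_456 i) (Nat.ble (nat_lit 456) i)) (Bool.rec (t0_464 i) (t0_472 i) (Nat.ble (nat_lit 472) i)) (Nat.ble (nat_lit 464) i)) (Bool.rec (Bool.rec (t0_480 i) (t0_488 i) (Nat.ble (nat_lit 488) i)) (Bool.rec (t0_496 i) (t0_504 i) (Nat.ble (nat_lit 504) i)) (Nat.ble (nat_lit 496) i)) (Nat.ble (nat_lit 480) i))
noncomputable def t1_64 (i : ℕ) : ℕ := (Bool.rec (Bool.rec (Bool.rec (t0_512 i) (t0_520 i) (Nat.ble (nat_lit 520) i)) (Bool.rec (t0_528 i) (t0_536 i) (Nat.ble (nat_lit 536) i)) (Nat.ble (nat_lit 528) i)) (Bool.rec (Bool.rec (t0_544 i) (t0_552 i) (Nat.ble (nat_lit 552) i)) (Bool.rec (t0_560 i) (t0_568 i) (Nat.ble (nat_lit 568) i)) (Nat.ble (nat_lit 560) i)) (Nat.ble (nat_lit 544) i))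
noncomputable def t1_72 (i : ℕ) : ℕ := (Bool.rec (Bool.rec (Bool.rec (t0_576 i) (t0_584 i) (Nat.ble (nat_lit 584) i)) (Bool.rec (t0_592 i) (t0_600 i) (Nat.ble (nat_lit 600) i)) (Nat.ble (nat_lit 592) i)) (Bool.rec (Bool.rec (t0_608 i) (t0_616 i) (Nat.ble (nat_lit 616) i)) (Bool.rec (t0_624 i) (t0_632 i) (Nat.ble (nat_lit 632) i)) (Nat.ble (nat_lit 624) i)) (Nat.ble (nat_lit 608) i))
noncomputable def t1_80 (i : ℕ) : ℕ := (Bool.rec (Bool.rec (Bool.rec (t0_640 i) (t0_648 i) (Nat.ble (nat_lit 648) i)) (Bool.rec (t0_656 i) (t0_664 i) (Nat.ble (nat_lit 664) i)) (Nat.ble (nat_lit 656) i)) (Bool.rec (Bool.rec (t0_672 i) (t0_680 i) (Nat.ble (nat_lit 680) i)) (Bool.rec (t0_688 i) (t0_696 i) (Nat.ble (nat_lit 696) i)) (Nat.ble (nat_lit 688) i)) (Nat.ble (nat_lit 672) i))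
noncomputable def t1_88 (i : ℕ) : ℕ := (Bool.rec (Bool.rec (Bool.rec (t0_704 i) (t0_712 i) (Nat.ble (nat_lit 712) i)) (Bool.rec (t0_720 i) (t0_728 i) (Nat.ble (nat_lit 728) i)) (Nat.ble (nat_lit 720) i)) (Bool.rec (Bool.rec (t0_736 i) (t0_744 i) (Nat.ble (nat_lit 744) i)) (Bool.rec (t0_752 i) (t0_760 i) (Nat.ble (nat_lit 760) i)) (Nat.ble (nat_lit 752) i)) (Nat.ble (nat_lit 736) i))
noncomputable def t1_96 (i : ℕ) : ℕ := (Bool.rec (Bool.rec (Bool.rec (t0_768 i) (t0_776 i) (Nat.ble (nat_lit 776) i)) (Bool.rec (t0_784 i) (t0_792 i) (Nat.ble (nat_lit 792) i)) (Nat.ble (nat_lit 784) i)) (Bool.rec (Bool.rec (t0_800 i) (t0_808 i) (Nat.ble (nat_lit 808) i)) (Bool.rec (t0_816 i) (t0_824 i) (Nat.ble (nat_lit 824) i)) (Nat.ble (nat_lit 816) i)) (Nat.ble (nat_lit 800) i))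
noncomputable def t1_104 (i : ℕ) : ℕ := (Bool.rec (Bool.rec (Bool.rec (t0_832 i) (t0_840 i) (Nat.ble (nat_lit 840) i)) (Bool.rec (t0_848 i) (t0_856 i) (Nat.ble (nat_lit 856) i)) (Nat.ble (nat_lit 848) i)) (Bool.rec (Bool.rec (t0_864 i) (t0_872 i) (Nat.ble (nat_lit 872) i)) (Bool.rec (t0_880 i) (t0_888 i) (Nat.ble (nat_lit 888) i)) (Nat.ble (nat_lit 880) i)) (Nat.ble (nat_lit 864) i))
noncomputable def t1_112 (i : ℕ) : ℕ := (Bool.rec (Bool.rec (Bool.rec (t0_896 i) (t0_904 i) (Nat.ble (nat_lit 904) i)) (Bool.rec (t0_912 i) (t0_920 i) (Nat.ble (nat_lit 920) i)) (Nat.ble (nat_lit 912) i)) (Bool.rec (Bool.rec (t0_928 i) (t0_936 i) (Nat.ble (nat_lit 936) i)) (Bool.rec (t0_944 i) (t0_952 i) (Nat.ble (nat_lit 952) i)) (Nat.ble (nat_lit 944) i)) (Nat.ble (nat_lit 928) i))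
noncomputable def t1_120 (i : ℕ) : ℕ := (Bool.rec (Bool.rec (Bool.rec (t0_960 i) (t0_968 i) (Nat.ble (nat_lit 968) i)) (Bool.rec (t0_976 i) (t0_984 i) (Nat.ble (nat_lit 984) i)) (Nat.ble (nat_lit 976) i)) (Bool.rec (Bool.rec (t0_992 i) (t0_1000 i) (Nat.ble (nat_lit 1000) i)) (Bool.rec (t0_1008 i) (t0_1016 i) (Nat.ble (nat_lit 1016) i)) (Nat.ble (nat_lit 1008) i)) (Nat.ble (nat_lit 992) i))
noncomputable def t1_128 (i : ℕ) : ℕ := (Bool.rec (Bool.rec (Bool.rec (t0_1024 i) (t0_1032 i) (Nat.ble (nat_lit 1032) i)) (Bool.rec (t0_1040 i) (t0_1048 i) (Nat.ble (nat_lit 1048) i)) (Nat.ble (nat_lit 1040) i)) (Bool.rec (Bool.rec (t0_1056 i) (t0_1064 i) (Nat.ble (nat_lit 1064) i)) (Bool.rec (t0_1072 i) (t0_1080 i) (Nat.ble (nat_lit 1080) i)) (Nat.ble (nat_lit 1072) i)) (Nat.ble (nat_lit 1056) i))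
noncomputable def t1_136 (i : ℕ) : ℕ := (Bool.rec (Bool.rec (Bool.rec (t0_1088 i) (t0_1096 i) (Nat.ble (nat_lit 1096) i)) (Bool.rec (t0_1104 i) (t0_1112 i) (Nat.ble (nat_lit 1112) i)) (Nat.ble (nat_lit 1104) i)) (Bool.rec (Bool.rec (t0_1120 i) (t0_1128 i) (Nat.ble (nat_lit 1128) i)) (Bool.rec (t0_1136 i) (t0_1144 i) (Nat.ble (nat_lit 1144) i)) (Nat.ble (nat_lit 1136) i)) (Nat.ble (nat_lit 1120) i))
noncomputable def t1_144 (i : ℕ) : ℕ := (Bool.rec (Bool.rec (Bool.rec (t0_1152 i) (t0_1160 i) (Nat.ble (nat_lit 1160) i)) (Bool.rec (t0_1168 i) (t0_1176 i) (Nat.ble (nat_lit 1176) i)) (Nat.ble (nat_lit 1168) i)) (Bool.rec (Bool.rec (t0_1184 i) (t0_1192 i) (Nat.ble (nat_lit 1192) i)) (Bool.rec (t0_1200 i) (t0_1208 i) (Nat.ble (nat_lit 1208) i)) (Nat.ble (nat_lit 1200) i)) (Nat.ble (nat_lit 1184) i))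
noncomputable def t1_152 (i : ℕ) : ℕ := (Bool.rec (Bool.rec (Bool.rec (t0_1216 i) (t0_1224 i) (Nat.ble (nat_lit 1224) i)) (Bool.rec (t0_1232 i) (t0_1240 i) (Nat.ble (nat_lit 1240) i)) (Nat.ble (nat_lit 1232) i)) (Bool.rec (Bool.rec (t0_1248 i) (t0_1256 i) (Nat.ble (nat_lit 1256) i)) (Bool.rec (t0_1264 i) (t0_1272 i) (Nat.ble (nat_lit 1272) i)) (Nat.ble (nat_lit 1264) i)) (Nat.ble (nat_lit 1248) i))
noncomputable def t1_160 (i : ℕ) : ℕ := (Bool.rec (Bool.rec (Bool.rec (t0_1280 i) (t0_1288 i) (Nat.ble (nat_lit 1288) i)) (Bool.rec (t0_1296 i) (t0_1304 i) (Nat.ble (nat_lit 1304) i)) (Nat.ble (nat_lit 1296) i)) (Bool.rec (Bool.rec (t0_1312 i) (t0_1320 i) (Nat.ble (nat_lit 1320) i)) (Bool.rec (t0_1328 i) (t0_1336 i) (Nat.ble (nat_lit 1336) i)) (Nat.ble (nat_lit 1328) i)) (Nat.ble (nat_lit 1312) i))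
noncomputable def t1_168 (i : ℕ) : ℕ := (Bool.rec (Bool.rec (Bool.rec (t0_1344 i) (t0_1352 i) (Nat.ble (nat_lit 1352) i)) (Bool.rec (t0_1360 i) (t0_1368 i) (Nat.ble (nat_lit 1368) i)) (Nat.ble (nat_lit 1360) i)) (Bool.rec (Bool.rec (t0_1376 i) (t0_1384 i) (Nat.ble (nat_lit 1384) i)) (Bool.rec (t0_1392 i) (t0_1400 i) (Nat.ble (nat_lit 1400) i)) (Nat.ble (nat_lit 1392) i)) (Nat.ble (nat_lit 1376) i))
noncomputable def t1_176 (i : ℕ) : ℕ := (Bool.rec (Bool.rec (Bool.rec (t0_1408 i) (t0_1416 i) (Nat.ble (nat_lit 1416) i)) (Bool.rec (t0_1424 i) (t0_1432 i) (Nat.ble (nat_lit 1432) i)) (Nat.ble (nat_lit 1424) i)) (Bool.rec (Bool.rec (t0_1440 i) (t0_1448 i) (Nat.ble (nat_lit 1448) i)) (Bool.rec (t0_1456 i) (t0_1464 i) (Nat.ble (nat_lit 1464) i)) (Nat.ble (nat_lit 1456) i)) (Nat.ble (nat_lit 1440) i))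
noncomputable def t1_184 (i : ℕ) : ℕ := (Bool.rec (Bool.rec (Bool.rec (t0_1472 i) (t0_1480 i) (Nat.ble (nat_lit 1480) i)) (Bool.rec (t0_1488 i) (t0_1496 i) (Nat.ble (nat_lit 1496) i)) (Nat.ble (nat_lit 1488) i)) (Bool.rec (Bool.rec (t0_1504 i) (t0_1512 i) (Nat.ble (nat_lit 1512) i)) (Bool.rec (t0_1520 i) (t0_1528 i) (Nat.ble (nat_lit 1528) i)) (Nat.ble (nat_lit 1520) i)) (Nat.ble (nat_lit 1504) i))
noncomputable def t1_192 (i : ℕ) : ℕ := (Bool.rec (Bool.rec (Bool.rec (t0_1536 i) (t0_1544 i) (Nat.ble (nat_lit 1544) i)) (Bool.rec (t0_1552 i) (t0_1560 i) (Nat.ble (nat_lit 1560) i)) (Nat.ble (nat_lit 1552) i)) (Bool.rec (Bool.rec (t0_1568 i) (t0_1576 i) (Nat.ble (nat_lit 1576) i)) (Bool.rec (t0_1584 i) (t0_1592 i) (Nat.ble (nat_lit 1592) i)) (Nat.ble (nat_lit 1584) i)) (Nat.ble (nat_lit 1568) i))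
noncomputable def t1_200 (i : ℕ) : ℕ := (Bool.rec (Bool.rec (Bool.rec (t0_1600 i) (t0_1608 i) (Nat.ble (nat_lit 1608) i)) (Bool.rec (t0_1616 i) (t0_1624 i) (Nat.ble (nat_lit 1624) i)) (Nat.ble (nat_lit 1616) i)) (Bool.rec (Bool.rec (t0_1632 i) (t0_1640 i) (Nat.ble (nat_lit 1640) i)) (Bool.rec (t0_1648 i) (t0_1656 i) (Nat.ble (nat_lit 1656) i)) (Nat.ble (nat_lit 1648) i)) (Nat.ble (nat_lit 1632) i))
noncomputable def t1_208 (i : ℕ) : ℕ := (Bool.rec (Bool.rec (Bool.rec (t0_1664 i) (t0_1672 i) (Nat.ble (nat_lit 1672) i)) (Bool.rec (t0_1680 i) (t0_1688 i) (Nat.ble (nat_lit 1688) i)) (Nat.ble (nat_lit 1680) i)) (Bool.rec (Bool.rec (t0_1696 i) (t0_1704 i) (Nat.ble (nat_lit 1704) i)) (Bool.rec (t0_1712 i) (t0_1720 i) (Nat.ble (nat_lit 1720) i)) (Nat.ble (nat_lit 1712) i)) (Nat.ble (nat_lit 1696) i))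
noncomputable def t1_216 (i : ℕ) : ℕ := (Bool.rec (Bool.rec (Bool.rec (t0_1728 i) (t0_1736 i) (Nat.ble (nat_lit 1736) i)) (Bool.rec (t0_1744 i) (t0_1752 i) (Nat.ble (nat_lit 1752) i)) (Nat.ble (nat_lit 1744) i)) (Bool.rec (Bool.rec (t0_1760 i) (t0_1768 i) (Nat.ble (nat_lit 1768) i)) (Bool.rec (t0_1776 i) (t0_1784 i) (Nat.ble (nat_lit 1784) i)) (Nat.ble (nat_lit 1776) i)) (Nat.ble (nat_lit 1760) i))
noncomputable def t1_224 (i : ℕ) : ℕ := (Bool.rec (Bool.rec (Bool.rec (t0_1792 i) (t0_1800 i) (Nat.ble (nat_lit 1800) i)) (Bool.rec (t0_1808 i) (t0_1816 i) (Nat.ble (nat_lit 1816) i)) (Nat.ble (nat_lit 1808) i)) (Bool.rec (Bool.rec (t0_1824 i) (t0_1832 i) (Nat.ble (nat_lit 1832) i)) (Bool.rec (t0_1840 i) (t0_1848 i) (Nat.ble (nat_lit 1848) i)) (Nat.ble (nat_lit 1840) i)) (Nat.ble (nat_lit 1824) i))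
noncomputable def t1_232 (i : ℕ) : ℕ := (Bool.rec (Bool.rec (Bool.rec (t0_1856 i) (t0_1864 i) (Nat.ble (nat_lit 1864) i)) (Bool.rec (t0_1872 i) (t0_1880 i) (Nat.ble (nat_lit 1880) i)) (Nat.ble (nat_lit 1872) i)) (Bool.rec (Bool.rec (t0_1888 i) (t0_1896 i) (Nat.ble (nat_lit 1896) i)) (Bool.rec (t0_1904 i) (t0_1912 i) (Nat.ble (nat_lit 1912) i)) (Nat.ble (nat_lit 1904) i)) (Nat.ble (nat_lit 1888) i))
noncomputable def t1_240 (i : ℕ) : ℕ := (Bool.rec (Bool.rec (Bool.rec (t0_1920 i) (t0_1928 i) (Nat.ble (nat_lit 1928) i)) (Bool.rec (t0_1936 i) (t0_1944 i) (Nat.ble (nat_lit 1944) i)) (Nat.ble (nat_lit 1936) i)) (Bool.rec (Bool.rec (t0_1952 i) (t0_1960 i) (Nat.ble (nat_lit 1960) i)) (Bool.rec (t0_1968 i) (t0_1976 i) (Nat.ble (nat_lit 1976) i)) (Nat.ble (nat_lit 1968) i)) (Nat.ble (nat_lit 1952) i))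
noncomputable def t1_248 (i : ℕ) : ℕ := (Bool.rec (Bool.rec (Bool.rec (t0_1984 i) (t0_1992 i) (Nat.ble (nat_lit 1992) i)) (Bool.rec (t0_2000 i) (t0_2008 i) (Nat.ble (nat_lit 2008) i)) (Nat.ble (nat_lit 2000) i)) (Bool.rec (Bool.rec (t0_2016 i) (t0_2024 i) (Nat.ble (nat_lit 2024) i)) (Bool.rec (t0_2032 i) (t0_2040 i) (Nat.ble (nat_lit 2040) i)) (Nat.ble (nat_lit 2032) i)) (Nat.ble (nat_lit 2016) i))
noncomputable def t1_256 (i : ℕ) : ℕ := (Bool.rec (Bool.rec (Bool.rec (t0_2048 i) (t0_2056 i) (Nat.ble (nat_lit 2056) i)) (Bool.rec (t0_2064 i) (t0_2072 i) (Nat.ble (nat_lit 2072) i)) (Nat.ble (nat_lit 2064) i)) (Bool.rec (Bool.rec (t0_2080 i) (t0_2088 i) (Nat.ble (nat_lit 2088) i)) (Bool.rec (t0_2096 i) (t0_2104 i) (Nat.ble (nat_lit 2104) i)) (Nat.ble (nat_lit 2096) i)) (Nat.ble (nat_lit 2080) i))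
noncomputable def t1_264 (i : ℕ) : ℕ := (Bool.rec (Bool.rec (Bool.rec (t0_2112 i) (t0_2120 i) (Nat.ble (nat_lit 2120) i)) (Bool.rec (t0_2128 i) (t0_2136 i) (Nat.ble (nat_lit 2136) i)) (Nat.ble (nat_lit 2128) i)) (Bool.rec (Bool.rec (t0_2144 i) (t0_2152 i) (Nat.ble (nat_lit 2152) i)) (Bool.rec (t0_2160 i) (t0_2168 i) (Nat.ble (nat_lit 2168) i)) (Nat.ble (nat_lit 2160) i)) (Nat.ble (nat_lit 2144) i))
noncomputable def t1_272 (i : ℕ) : ℕ := (Bool.rec (Bool.rec (Bool.rec (t0_2176 i) (t0_2184 i) (Nat.ble (nat_lit 2184) i)) (Bool.rec (t0_2192 i) (t0_2200 i) (Nat.ble (nat_lit 2200) i)) (Nat.ble (nat_lit 2192) i)) (Bool.rec (Bool.rec (t0_2208 i) (t0_2216 i) (Nat.ble (nat_lit 2216) i)) (Bool.rec (t0_2224 i) (t0_2232 i) (Nat.ble (nat_lit 2232) i)) (Nat.ble (nat_lit 2224) i)) (Nat.ble (nat_lit 2208) i))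
noncomputable def t1_280 (i : ℕ) : ℕ := (Bool.rec (Bool.rec (Bool.rec (t0_2240 i) (t0_2248 i) (Nat.ble (nat_lit 2248) i)) (Bool.rec (t0_2256 i) (t0_2264 i) (Nat.ble (nat_lit 2264) i)) (Nat.ble (nat_lit 2256) i)) (Bool.rec (Bool.rec (t0_2272 i) (t0_2280 i) (Nat.ble (nat_lit 2280) i)) (Bool.rec (t0_2288 i) (t0_2296 i) (Nat.ble (nat_lit 2296) i)) (Nat.ble (nat_lit 2288) i)) (Nat.ble (nat_lit 2272) i))
noncomputable def t1_288 (i : ℕ) : ℕ := (Bool.rec (Bool.rec (Bool.rec (t0_2304 i) (t0_2312 i) (Nat.ble (nat_lit 2312) i)) (Bool.rec (t0_2320 i) (t0_2328 i) (Nat.ble (nat_lit 2328) i)) (Nat.ble (nat_lit 2320) i)) (Bool.rec (Bool.rec (t0_2336 i) (t0_2344 i) (Nat.ble (nat_lit 2344) i)) (Bool.rec (t0_2352 i) (t0_2360 i) (Nat.ble (nat_lit 2360) i)) (Nat.ble (nat_lit 2352) i)) (Nat.ble (nat_lit 2336) i))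
noncomputable def t1_296 (i : ℕ) : ℕ := (Bool.rec (Bool.rec (Bool.rec (t0_2368 i) (t0_2376 i) (Nat.ble (nat_lit 2376) i)) (Bool.rec (t0_2384 i) (t0_2392 i) (Nat.ble (nat_lit 2392) i)) (Nat.ble (nat_lit 2384) i)) (Bool.rec (Bool.rec (t0_2400 i) (t0_2408 i) (Nat.ble (nat_lit 2408) i)) (Bool.rec (t0_2416 i) (t0_2424 i) (Nat.ble (nat_lit 2424) i)) (Nat.ble (nat_lit 2416) i)) (Nat.ble (nat_lit 2400) i))
noncomputable def t1_304 (i : ℕ) : ℕ := (Bool.rec (Bool.rec (Bool.rec (t0_2432 i) (t0_2440 i) (Nat.ble (nat_lit 2440) i)) (Bool.rec (t0_2448 i) (t0_2456 i) (Nat.ble (nat_lit 2456) i)) (Nat.ble (nat_lit 2448) i)) (Bool.rec (Bool.rec (t0_2464 i) (t0_2472 i) (Nat.ble (nat_lit 2472) i)) (Bool.rec (t0_2480 i) (t0_2488 i) (Nat.ble (nat_lit 2488) i)) (Nat.ble (nat_lit 2480) i)) (Nat.ble (nat_lit 2464) i))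
noncomputable def t1_312 (i : ℕ) : ℕ := (Bool.rec (Bool.rec (Bool.rec (t0_2496 i) (t0_2504 i) (Nat.ble (nat_lit 2504) i)) (Bool.rec (t0_2512 i) (t0_2520 i) (Nat.ble (nat_lit 2520) i)) (Nat.ble (nat_lit 2512) i)) (Bool.rec (Bool.rec (t0_2528 i) (t0_2536 i) (Nat.ble (nat_lit 2536) i)) (Bool.rec (t0_2544 i) (t0_2552 i) (Nat.ble (nat_lit 2552) i)) (Nat.ble (nat_lit 2544) i)) (Nat.ble (nat_lit 2528) i))
noncomputable def t1_320 (i : ℕ) : ℕ := (Bool.rec (Bool.rec (Bool.rec (t0_2560 i) (t0_2568 i) (Nat.ble (nat_lit 2568) i)) (Bool.rec (t0_2576 i) (t0_2584 i) (Nat.ble (nat_lit 2584) i)) (Nat.ble (nat_lit 2576) i)) (Bool.rec (Bool.rec (t0_2592 i) (t0_2600 i) (Nat.ble (nat_lit 2600) i)) (Bool.rec (t0_2608 i) (t0_2616 i) (Nat.ble (nat_lit 2616) i)) (Nat.ble (nat_lit 2608) i)) (Nat.ble (nat_lit 2592) i))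
noncomputable def t1_328 (i : ℕ) : ℕ := (Bool.rec (Bool.rec (Bool.rec (t0_2624 i) (t0_2632 i) (Nat.ble (nat_lit 2632) i)) (Bool.rec (t0_2640 i) (t0_2648 i) (Nat.ble (nat_lit 2648) i)) (Nat.ble (nat_lit 2640) i)) (Bool.rec (Bool.rec (t0_2656 i) (t0_2664 i) (Nat.ble (nat_lit 2664) i)) (Bool.rec (t0_2672 i) (t0_2680 i) (Nat.ble (nat_lit 2680) i)) (Nat.ble (nat_lit 2672) i)) (Nat.ble (nat_lit 2656) i))
noncomputable def t1_336 (i : ℕ) : ℕ := (Bool.rec (Bool.rec (Bool.rec (t0_2688 i) (t0_2696 i) (Nat.ble (nat_lit 2696) i)) (Bool.rec (t0_2704 i) (t0_2712 i) (Nat.ble (nat_lit 2712) i)) (Nat.ble (nat_lit 2704) i)) (Bool.rec (Bool.rec (t0_2720 i) (t0_2728 i) (Nat.ble (nat_lit 2728) i)) (Bool.rec (t0_2736 i) (t0_2744 i) (Nat.ble (nat_lit 2744) i)) (Nat.ble (nat_lit 2736) i)) (Nat.ble (nat_lit 2720) i))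
noncomputable def t1_344 (i : ℕ) : ℕ := (Bool.rec (Bool.rec (Bool.rec (t0_2752 i) (t0_2760 i) (Nat.ble (nat_lit 2760) i)) (Bool.rec (t0_2768 i) (t0_2776 i) (Nat.ble (nat_lit 2776) i)) (Nat.ble (nat_lit 2768) i)) (Bool.rec (Bool.rec (t0_2784 i) (t0_2792 i) (Nat.ble (nat_lit 2792) i)) (Bool.rec (t0_2800 i) (t0_2808 i) (Nat.ble (nat_lit 2808) i)) (Nat.ble (nat_lit 2800) i)) (Nat.ble (nat_lit 2784) i))
noncomputable def t1_352 (i : ℕ) : ℕ := (Bool.rec (Bool.rec (Bool.rec (t0_2816 i) (t0_2824 i) (Nat.ble (nat_lit 2824) i)) (Bool.rec (t0_2832 i) (t0_2840 i) (Nat.ble (nat_lit 2840) i)) (Nat.ble (nat_lit 2832) i)) (Bool.rec (Bool.rec (t0_2848 i) (t0_2856 i) (Nat.ble (nat_lit 2856) i)) (Bool.rec (t0_2864 i) (t0_2872 i) (Nat.ble (nat_lit 2872) i)) (Nat.ble (nat_lit 2864) i)) (Nat.ble (nat_lit 2848) i))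
noncomputable def t1_360 (i : ℕ) : ℕ := (Bool.rec (Bool.rec (Bool.rec (t0_2880 i) (t0_2888 i) (Nat.ble (nat_lit 2888) i)) (Bool.rec (t0_2896 i) (t0_2904 i) (Nat.ble (nat_lit 2904) i)) (Nat.ble (nat_lit 2896) i)) (Bool.rec (Bool.rec (t0_2912 i) (t0_2920 i) (Nat.ble (nat_lit 2920) i)) (Bool.rec (t0_2928 i) (t0_2936 i) (Nat.ble (nat_lit 2936) i)) (Nat.ble (nat_lit 2928) i)) (Nat.ble (nat_lit 2912) i))
noncomputable def t1_368 (i : ℕ) : ℕ := (Bool.rec (Bool.rec (Bool.rec (t0_2944 i) (t0_2952 i) (Nat.ble (nat_lit 2952) i)) (Bool.rec (t0_2960 i) (t0_2968 i) (Nat.ble (nat_lit 2968) i)) (Nat.ble (nat_lit 2960) i)) (Bool.rec (Bool.rec (t0_2976 i) (t0_2984 i) (Nat.ble (nat_lit 2984) i)) (Bool.rec (t0_2992 i) (t0_3000 i) (Nat.ble (nat_lit 3000) i)) (Nat.ble (nat_lit 2992) i)) (Nat.ble (nat_lit 2976) i))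
noncomputable def t1_376 (i : ℕ) : ℕ := (Bool.rec (Bool.rec (Bool.rec (t0_3008 i) (t0_3016 i) (Nat.ble (nat_lit 3016) i)) (Bool.rec (t0_3024 i) (t0_3032 i) (Nat.ble (nat_lit 3032) i)) (Nat.ble (nat_lit 3024) i)) (Bool.rec (Bool.rec (t0_3040 i) (t0_3048 i) (Nat.ble (nat_lit 3048) i)) (Bool.rec (t0_3056 i) (t0_3064 i) (Nat.ble (nat_lit 3064) i)) (Nat.ble (nat_lit 3056) i)) (Nat.ble (nat_lit 3040) i))
noncomputable def t1_384 (i : ℕ) : ℕ := (Bool.rec (Bool.rec (Bool.rec (t0_3072 i) (t0_3080 i) (Nat.ble (nat_lit 3080) i)) (Bool.rec (t0_3088 i) (t0_3096 i) (Nat.ble (nat_lit 3096) i)) (Nat.ble (nat_lit 3088) i)) (Bool.rec (Bool.rec (t0_3104 i) (t0_3112 i) (Nat.ble (nat_lit 3112) i)) (Bool.rec (t0_3120 i) (t0_3128 i) (Nat.ble (nat_lit 3128) i)) (Nat.ble (nat_lit 3120) i)) (Nat.ble (nat_lit 3104) i))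
noncomputable def t1_392 (i : ℕ) : ℕ := (Bool.rec (Bool.rec (Bool.rec (t0_3136 i) (t0_3144 i) (Nat.ble (nat_lit 3144) i)) (Bool.rec (t0_3152 i) (t0_3160 i) (Nat.ble (nat_lit 3160) i)) (Nat.ble (nat_lit 3152) i)) (Bool.rec (Bool.rec (t0_3168 i) (t0_3176 i) (Nat.ble (nat_lit 3176) i)) (Bool.rec (t0_3184 i) (t0_3192 i) (Nat.ble (nat_lit 3192) i)) (Nat.ble (nat_lit 3184) i)) (Nat.ble (nat_lit 3168) i))
noncomputable def t1_400 (i : ℕ) : ℕ := (Bool.rec (Bool.rec (Bool.rec (t0_3200 i) (t0_3208 i) (Nat.ble (nat_lit 3208) i)) (Bool.rec (t0_3216 i) (t0_3224 i) (Nat.ble (nat_lit 3224) i)) (Nat.ble (nat_lit 3216) i)) (Bool.rec (Bool.rec (t0_3232 i) (t0_3240 i) (Nat.ble (nat_lit 3240) i)) (Bool.rec (t0_3248 i) (t0_3256 i) (Nat.ble (nat_lit 3256) i)) (Nat.ble (nat_lit 3248) i)) (Nat.ble (nat_lit 3232) i))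
noncomputable def t1_408 (i : ℕ) : ℕ := (Bool.rec (Bool.rec (Bool.rec (t0_3264 i) (t0_3272 i) (Nat.ble (nat_lit 3272) i)) (Bool.rec (t0_3280 i) (t0_3288 i) (Nat.ble (nat_lit 3288) i)) (Nat.ble (nat_lit 3280) i)) (Bool.rec (Bool.rec (t0_3296 i) (t0_3304 i) (Nat.ble (nat_lit 3304) i)) (Bool.rec (t0_3312 i) (t0_3320 i) (Nat.ble (nat_lit 3320) i)) (Nat.ble (nat_lit 3312) i)) (Nat.ble (nat_lit 3296) i))
noncomputable def t1_416 (i : ℕ) : ℕ := (Bool.rec (Bool.rec (Bool.rec (t0_3328 i) (t0_3336 i) (Nat.ble (nat_lit 3336) i)) (Bool.rec (t0_3344 i) (t0_3352 i) (Nat.ble (nat_lit 3352) i)) (Nat.ble (nat_lit 3344) i)) (Bool.rec (Bool.rec (t0_3360 i) (t0_3368 i) (Nat.ble (nat_lit 3368) i)) (Bool.rec (t0_3376 i) (t0_3384 i) (Nat.ble (nat_lit 3384) i)) (Nat.ble (nat_lit 3376) i)) (Nat.ble (nat_lit 3360) i))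
noncomputable def t1_424 (i : ℕ) : ℕ := (Bool.rec (Bool.rec (Bool.rec (t0_3392 i) (t0_3400 i) (Nat.ble (nat_lit 3400) i)) (Bool.rec (t0_3408 i) (t0_3416 i) (Nat.ble (nat_lit 3416) i)) (Nat.ble (nat_lit 3408) i)) (Bool.rec (Bool.rec (t0_3424 i) (t0_3432 i) (Nat.ble (nat_lit 3432) i)) (Bool.rec (t0_3440 i) (t0_3448 i) (Nat.ble (nat_lit 3448) i)) (Nat.ble (nat_lit 3440) i)) (Nat.ble (nat_lit 3424) i))
noncomputable def t1_432 (i : ℕ) : ℕ := (Bool.rec (Bool.rec (Bool.rec (t0_3456 i) (t0_3464 i) (Nat.ble (nat_lit 3464) i)) (Bool.rec (t0_3472 i) (t0_3480 i) (Nat.ble (nat_lit 3480) i)) (Nat.ble (nat_lit 3472) i)) (Bool.rec (Bool.rec (t0_3488 i) (t0_3496 i) (Nat.ble (nat_lit 3496) i)) (Bool.rec (t0_3504 i) (t0_3512 i) (Nat.ble (nat_lit 3512) i)) (Nat.ble (nat_lit 3504) i)) (Nat.ble (nat_lit 3488) i))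
noncomputable def t1_440 (i : ℕ) : ℕ := (Bool.rec (Bool.rec (Bool.rec (t0_3520 i) (t0_3528 i) (Nat.ble (nat_lit 3528) i)) (Bool.rec (t0_3536 i) (t0_3544 i) (Nat.ble (nat_lit 3544) i)) (Nat.ble (nat_lit 3536) i)) (Bool.rec (Bool.rec (t0_3552 i) (t0_3560 i) (Nat.ble (nat_lit 3560) i)) (Bool.rec (t0_3568 i) (t0_3576 i) (Nat.ble (nat_lit 3576) i)) (Nat.ble (nat_lit 3568) i)) (Nat.ble (nat_lit 3552) i))
noncomputable def t1_448 (i : ℕ) : ℕ := (Bool.rec (Bool.rec (Bool.rec (t0_3584 i) (t0_3592 i) (Nat.ble (nat_lit 3592) i)) (Bool.rec (t0_3600 i) (t0_3608 i) (Nat.ble (nat_lit 3608) i)) (Nat.ble (nat_lit 3600) i)) (Bool.rec (Bool.rec (t0_3616 i) (t0_3624 i) (Nat.ble (nat_lit 3624) i)) (Bool.rec (t0_3632 i) (t0_3640 i) (Nat.ble (nat_lit 3640) i)) (Nat.ble (nat_lit 3632) i)) (Nat.ble (nat_lit 3616) i))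
noncomputable def t1_456 (i : ℕ) : ℕ := (Bool.rec (Bool.rec (Bool.rec (t0_3648 i) (t0_3656 i) (Nat.ble (nat_lit 3656) i)) (Bool.rec (t0_3664 i) (t0_3672 i) (Nat.ble (nat_lit 3672) i)) (Nat.ble (nat_lit 3664) i)) (Bool.rec (Bool.rec (t0_3680 i) (t0_3688 i) (Nat.ble (nat_lit 3688) i)) (Bool.rec (t0_3696 i) (t0_3704 i) (Nat.ble (nat_lit 3704) i)) (Nat.ble (nat_lit 3696) i)) (Nat.ble (nat_lit 3680) i))
noncomputable def t1_464 (i : ℕ) : ℕ := (Bool.rec (Bool.rec (Bool.rec (t0_3712 i) (t0_3720 i) (Nat.ble (nat_lit 3720) i)) (Bool.rec (t0_3728 i) (t0_3736 i) (Nat.ble (nat_lit 3736) i)) (Nat.ble (nat_lit 3728) i)) (Bool.rec (Bool.rec (t0_3744 i) (t0_3752 i) (Nat.ble (nat_lit 3752) i)) (Bool.rec (t0_3760 i) (t0_3768 i) (Nat.ble (nat_lit 3768) i)) (Nat.ble (nat_lit 3760) i)) (Nat.ble (nat_lit 3744) i))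
noncomputable def t1_472 (i : ℕ) : ℕ := (Bool.rec (Bool.rec (Bool.rec (t0_3776 i) (t0_3784 i) (Nat.ble (nat_lit 3784) i)) (Bool.rec (t0_3792 i) (t0_3800 i) (Nat.ble (nat_lit 3800) i)) (Nat.ble (nat_lit 3792) i)) (Bool.rec (Bool.rec (t0_3808 i) (t0_3816 i) (Nat.ble (nat_lit 3816) i)) (Bool.rec (t0_3824 i) (t0_3832 i) (Nat.ble (nat_lit 3832) i)) (Nat.ble (nat_lit 3824) i)) (Nat.ble (nat_lit 3808) i))
noncomputable def t1_480 (i : ℕ) : ℕ := (Bool.rec (Bool.rec (Bool.rec (t0_3840 i) (t0_3848 i) (Nat.ble (nat_lit 3848) i)) (Bool.rec (t0_3856 i) (t0_3864 i) (Nat.ble (nat_lit 3864) i)) (Nat.ble (nat_lit 3856) i)) (Bool.rec (Bool.rec (t0_3872 i) (t0_3880 i) (Nat.ble (nat_lit 3880) i)) (Bool.rec (t0_3888 i) (t0_3896 i) (Nat.ble (nat_lit 3896) i)) (Nat.ble (nat_lit 3888) i)) (Nat.ble (nat_lit 3872) i))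
noncomputable def t1_488 (i : ℕ) : ℕ := (Bool.rec (Bool.rec (Bool.rec (t0_3904 i) (t0_3912 i) (Nat.ble (nat_lit 3912) i)) (Bool.rec (t0_3920 i) (t0_3928 i) (Nat.ble (nat_lit 3928) i)) (Nat.ble (nat_lit 3920) i)) (Bool.rec (Bool.rec (t0_3936 i) (t0_3944 i) (Nat.ble (nat_lit 3944) i)) (Bool.rec (t0_3952 i) (t0_3960 i) (Nat.ble (nat_lit 3960) i)) (Nat.ble (nat_lit 3952) i)) (Nat.ble (nat_lit 3936) i))
noncomputable def t1_496 (i : ℕ) : ℕ := (Bool.rec (Bool.rec (Bool.rec (t0_3968 i) (t0_3976 i) (Nat.ble (nat_lit 3976) i)) (Bool.rec (t0_3984 i) (t0_3992 i) (Nat.ble (nat_lit 3992) i)) (Nat.ble (nat_lit 3984) i)) (Bool.rec (Bool.rec (t0_4000 i) (t0_4008 i) (Nat.ble (nat_lit 4008) i)) (Bool.rec (t0_4016 i) (t0_4024 i) (Nat.ble (nat_lit 4024) i)) (Nat.ble (nat_lit 4016) i)) (Nat.ble (nat_lit 4000) i))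
noncomputable def t1_504 (i : ℕ) : ℕ := (Bool.rec (Bool.rec (Bool.rec (t0_4032 i) (t0_4040 i) (Nat.ble (nat_lit 4040) i)) (Bool.rec (t0_4048 i) (t0_4056 i) (Nat.ble (nat_lit 4056) i)) (Nat.ble (nat_lit 4048) i)) (Bool.rec (Bool.rec (t0_4064 i) (t0_4072 i) (Nat.ble (nat_lit 4072) i)) (Bool.rec (t0_4080 i) (t0_4088 i) (Nat.ble (nat_lit 4088) i)) (Nat.ble (nat_lit 4080) i)) (Nat.ble (nat_lit 4064) i))
noncomputable def t1_512 (i : ℕ) : ℕ := (Bool.rec (Bool.rec (Bool.rec (t0_4096 i) (t0_4104 i) (Nat.ble (nat_lit 4104) i)) (Bool.rec (t0_4112 i) (t0_4120 i) (Nat.ble (nat_lit 4120) i)) (Nat.ble (nat_lit 4112) i)) (Bool.rec (Bool.rec (t0_4128 i) (t0_4136 i) (Nat.ble (nat_lit 4136) i)) (Bool.rec (t0_4144 i) (t0_4152 i) (Nat.ble (nat_lit 4152) i)) (Nat.ble (nat_lit 4144) i)) (Nat.ble (nat_lit 4128) i))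
noncomputable def t1_520 (i : ℕ) : ℕ := (Bool.rec (Bool.rec (Bool.rec (t0_4160 i) (t0_4168 i) (Nat.ble (nat_lit 4168) i)) (Bool.rec (t0_4176 i) (t0_4184 i) (Nat.ble (nat_lit 4184) i)) (Nat.ble (nat_lit 4176) i)) (Bool.rec (Bool.rec (t0_4192 i) (t0_4200 i) (Nat.ble (nat_lit 4200) i)) (Bool.rec (t0_4208 i) (t0_4216 i) (Nat.ble (nat_lit 4216) i)) (Nat.ble (nat_lit 4208) i)) (Nat.ble (nat_lit 4192) i))
noncomputable def t1_528 (i : ℕ) : ℕ := (Bool.rec (Bool.rec (Bool.rec (t0_4224 i) (t0_4232 i) (Nat.ble (nat_lit 4232) i)) (Bool.rec (t0_4240 i) (t0_4248 i) (Nat.ble (nat_lit 4248) i)) (Nat.ble (nat_lit 4240) i)) (Bool.rec (Bool.rec (t0_4256 i) (t0_4264 i) (Nat.ble (nat_lit 4264) i)) (Bool.rec (t0_4272 i) (t0_4280 i) (Nat.ble (nat_lit 4280) i)) (Nat.ble (nat_lit 4272) i)) (Nat.ble (nat_lit 4256) i))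
noncomputable def t1_536 (i : ℕ) : ℕ := (Bool.rec (Bool.rec (Bool.rec (t0_4288 i) (t0_4296 i) (Nat.ble (nat_lit 4296) i)) (Bool.rec (t0_4304 i) (t0_4312 i) (Nat.ble (nat_lit 4312) i)) (Nat.ble (nat_lit 4304) i)) (Bool.rec (Bool.rec (t0_4320 i) (t0_4328 i) (Nat.ble (nat_lit 4328) i)) (Bool.rec (t0_4336 i) (t0_4344 i) (Nat.ble (nat_lit 4344) i)) (Nat.ble (nat_lit 4336) i)) (Nat.ble (nat_lit 4320) i))
noncomputable def t1_544 (i : ℕ) : ℕ := (Bool.rec (Bool.rec (Bool.rec (t0_4352 i) (t0_4360 i) (Nat.ble (nat_lit 4360) i)) (Bool.rec (t0_4368 i) (t0_4376 i) (Nat.ble (nat_lit 4376) i)) (Nat.ble (nat_lit 4368) i)) (Bool.rec (Bool.rec (t0_4384 i) (t0_4392 i) (Nat.ble (nat_lit 4392) i)) (Bool.rec (t0_4400 i) (t0_4408 i) (Nat.ble (nat_lit 4408) i)) (Nat.ble (nat_lit 4400) i)) (Nat.ble (nat_lit 4384) i))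
noncomputable def t1_552 (i : ℕ) : ℕ := (Bool.rec (Bool.rec (Bool.rec (t0_4416 i) (t0_4424 i) (Nat.ble (nat_lit 4424) i)) (Bool.rec (t0_4432 i) (t0_4440 i) (Nat.ble (nat_lit 4440) i)) (Nat.ble (nat_lit 4432) i)) (Bool.rec (Bool.rec (t0_4448 i) (t0_4456 i) (Nat.ble (nat_lit 4456) i)) (Bool.rec (t0_4464 i) (t0_4472 i) (Nat.ble (nat_lit 4472) i)) (Nat.ble (nat_lit 4464) i)) (Nat.ble (nat_lit 4448) i))
noncomputable def t1_560 (i : ℕ) : ℕ := (Bool.rec (Bool.rec (Bool.rec (t0_4480 i) (t0_4488 i) (Nat.ble (nat_lit 4488) i)) (Bool.rec (t0_4496 i) (t0_4504 i) (Nat.ble (nat_lit 4504) i)) (Nat.ble (nat_lit 4496) i)) (Bool.rec (Bool.rec (t0_4512 i) (t0_4520 i) (Nat.ble (nat_lit 4520) i)) (Bool.rec (t0_4528 i) (t0_4536 i) (Nat.ble (nat_lit 4536) i)) (Nat.ble (nat_lit 4528) i)) (Nat.ble (nat_lit 4512) i))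
noncomputable def t1_568 (i : ℕ) : ℕ := (Bool.rec (Bool.rec (Bool.rec (t0_4544 i) (t0_4552 i) (Nat.ble (nat_lit 4552) i)) (Bool.rec (t0_4560 i) (t0_4568 i) (Nat.ble (nat_lit 4568) i)) (Nat.ble (nat_lit 4560) i)) (Bool.rec (Bool.rec (t0_4576 i) (t0_4584 i) (Nat.ble (nat_lit 4584) i)) (Bool.rec (t0_4592 i) (t0_4600 i) (Nat.ble (nat_lit 4600) i)) (Nat.ble (nat_lit 4592) i)) (Nat.ble (nat_lit 4576) i))
noncomputable def t1_576 (i : ℕ) : ℕ := (Bool.rec (Bool.rec (Bool.rec (t0_4608 i) (t0_4616 i) (Nat.ble (nat_lit 4616) i)) (Bool.rec (t0_4624 i) (t0_4632 i) (Nat.ble (nat_lit 4632) i)) (Nat.ble (nat_lit 4624) i)) (Bool.rec (Bool.rec (t0_4640 i) (t0_4648 i) (Nat.ble (nat_lit 4648) i)) (Bool.rec (t0_4656 i) (t0_4664 i) (Nat.ble (nat_lit 4664) i)) (Nat.ble (nat_lit 4656) i)) (Nat.ble (nat_lit 4640) i))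
noncomputable def t1_584 (i : ℕ) : ℕ := (Bool.rec (Bool.rec (Bool.rec (t0_4672 i) (t0_4680 i) (Nat.ble (nat_lit 4680) i)) (Bool.rec (t0_4688 i) (t0_4696 i) (Nat.ble (nat_lit 4696) i)) (Nat.ble (nat_lit 4688) i)) (Bool.rec (Bool.rec (t0_4704 i) (t0_4712 i) (Nat.ble (nat_lit 4712) i)) (Bool.rec (t0_4720 i) (t0_4728 i) (Nat.ble (nat_lit 4728) i)) (Nat.ble (nat_lit 4720) i)) (Nat.ble (nat_lit 4704) i))
noncomputable def t1_592 (i : ℕ) : ℕ := (Bool.rec (Bool.rec (Bool.rec (t0_4736 i) (t0_4744 i) (Nat.ble (nat_lit 4744) i)) (Bool.rec (t0_4752 i) (t0_4760 i) (Nat.ble (nat_lit 4760) i)) (Nat.ble (nat_lit 4752) i)) (Bool.rec (Bool.rec (t0_4768 i) (t0_4776 i) (Nat.ble (nat_lit 4776) i)) (Bool.rec (t0_4784 i) (t0_4792 i) (Nat.ble (nat_lit 4792) i)) (Nat.ble (nat_lit 4784) i)) (Nat.ble (nat_lit 4768) i))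
noncomputable def t1_600 (i : ℕ) : ℕ := (Bool.rec (Bool.rec (Bool.rec (t0_4800 i) (t0_4808 i) (Nat.ble (nat_lit 4808) i)) (Bool.rec (t0_4816 i) (t0_4824 i) (Nat.ble (nat_lit 4824) i)) (Nat.ble (nat_lit 4816) i)) (Bool.rec (Bool.rec (t0_4832 i) (t0_4840 i) (Nat.ble (nat_lit 4840) i)) (Bool.rec (t0_4848 i) (t0_4856 i) (Nat.ble (nat_lit 4856) i)) (Nat.ble (nat_lit 4848) i)) (Nat.ble (nat_lit 4832) i))
noncomputable def t1_608 (i : ℕ) : ℕ := (Bool.rec (Bool.rec (Bool.rec (t0_4864 i) (t0_4872 i) (Nat.ble (nat_lit 4872) i)) (Bool.rec (t0_4880 i) (t0_4888 i) (Nat.ble (nat_lit 4888) i)) (Nat.ble (nat_lit 4880) i)) (Bool.rec (Bool.rec (t0_4896 i) (t0_4904 i) (Nat.ble (nat_lit 4904) i)) (Bool.rec (t0_4912 i) (t0_4920 i) (Nat.ble (nat_lit 4920) i)) (Nat.ble (nat_lit 4912) i)) (Nat.ble (nat_lit 4896) i))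
noncomputable def t1_616 (i : ℕ) : ℕ := (Bool.rec (Bool.rec (Bool.rec (t0_4928 i) (t0_4936 i) (Nat.ble (nat_lit 4936) i)) (Bool.rec (t0_4944 i) (t0_4952 i) (Nat.ble (nat_lit 4952) i)) (Nat.ble (nat_lit 4944) i)) (Bool.rec (Bool.rec (t0_4960 i) (t0_4968 i) (Nat.ble (nat_lit 4968) i)) (Bool.rec (t0_4976 i) (t0_4984 i) (Nat.ble (nat_lit 4984) i)) (Nat.ble (nat_lit 4976) i)) (Nat.ble (nat_lit 4960) i))
noncomputable def t1_624 (i : ℕ) : ℕ := (Bool.rec (Bool.rec (Bool.rec (t0_4992 i) (t0_5000 i) (Nat.ble (nat_lit 5000) i)) (Bool.rec (t0_5008 i) (t0_5016 i) (Nat.ble (nat_lit 5016) i)) (Nat.ble (nat_lit 5008) i)) (Bool.rec (Bool.rec (t0_5024 i) (t0_5032 i) (Nat.ble (nat_lit 5032) i)) (Bool.rec (t0_5040 i) (t0_5048 i) (Nat.ble (nat_lit 5048) i)) (Nat.ble (nat_lit 5040) i)) (Nat.ble (nat_lit 5024) i))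
noncomputable def t1_632 (i : ℕ) : ℕ := (Bool.rec (Bool.rec (Bool.rec (t0_5056 i) (t0_5064 i) (Nat.ble (nat_lit 5064) i)) (Bool.rec (t0_5072 i) (t0_5080 i) (Nat.ble (nat_lit 5080) i)) (Nat.ble (nat_lit 5072) i)) (Bool.rec (Bool.rec (t0_5088 i) (t0_5096 i) (Nat.ble (nat_lit 5096) i)) (Bool.rec (t0_5104 i) (t0_5112 i) (Nat.ble (nat_lit 5112) i)) (Nat.ble (nat_lit 5104) i)) (Nat.ble (nat_lit 5088) i))
noncomputable def t1_640 (i : ℕ) : ℕ := (Bool.rec (Bool.rec (Bool.rec (t0_5120 i) (t0_5128 i) (Nat.ble (nat_lit 5128) i)) (Bool.rec (t0_5136 i) (t0_5144 i) (Nat.ble (nat_lit 5144) i)) (Nat.ble (nat_lit 5136) i)) (Bool.rec (Bool.rec (t0_5152 i) (t0_5160 i) (Nat.ble (nat_lit 5160) i)) (Bool.rec (t0_5168 i) (t0_5176 i) (Nat.ble (nat_lit 5176) i)) (Nat.ble (nat_lit 5168) i)) (Nat.ble (nat_lit 5152) i))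
noncomputable def t1_648 (i : ℕ) : ℕ := (Bool.rec (Bool.rec (Bool.rec (t0_5184 i) (t0_5192 i) (Nat.ble (nat_lit 5192) i)) (Bool.rec (t0_5200 i) (t0_5208 i) (Nat.ble (nat_lit 5208) i)) (Nat.ble (nat_lit 5200) i)) (Bool.rec (Bool.rec (t0_5216 i) (t0_5224 i) (Nat.ble (nat_lit 5224) i)) (Bool.rec (t0_5232 i) (t0_5240 i) (Nat.ble (nat_lit 5240) i)) (Nat.ble (nat_lit 5232) i)) (Nat.ble (nat_lit 5216) i))
noncomputable def t1_656 (i : ℕ) : ℕ := (Bool.rec (Bool.rec (Bool.rec (t0_5248 i) (t0_5256 i) (Nat.ble (nat_lit 5256) i)) (Bool.rec (t0_5264 i) (t0_5272 i) (Nat.ble (nat_lit 5272) i)) (Nat.ble (nat_lit 5264) i)) (Bool.rec (Bool.rec (t0_5280 i) (t0_5288 i) (Nat.ble (nat_lit 5288) i)) (Bool.rec (t0_5296 i) (t0_5304 i) (Nat.ble (nat_lit 5304) i)) (Nat.ble (nat_lit 5296) i)) (Nat.ble (nat_lit 5280) i))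
noncomputable def t1_664 (i : ℕ) : ℕ := (Bool.rec (Bool.rec (Bool.rec (t0_5312 i) (t0_5320 i) (Nat.ble (nat_lit 5320) i)) (Bool.rec (t0_5328 i) (t0_5336 i) (Nat.ble (nat_lit 5336) i)) (Nat.ble (nat_lit 5328) i)) (Bool.rec (Bool.rec (t0_5344 i) (t0_5352 i) (Nat.ble (nat_lit 5352) i)) (Bool.rec (t0_5360 i) (t0_5368 i) (Nat.ble (nat_lit 5368) i)) (Nat.ble (nat_lit 5360) i)) (Nat.ble (nat_lit 5344) i))
noncomputable def t1_672 (i : ℕ) : ℕ := (Bool.rec (Bool.rec (Bool.rec (t0_5376 i) (t0_5384 i) (Nat.ble (nat_lit 5384) i)) (Bool.rec (t0_5392 i) (t0_5400 i) (Nat.ble (nat_lit 5400) i)) (Nat.ble (nat_lit 5392) i)) (Bool.rec (Bool.rec (t0_5408 i) (t0_5416 i) (Nat.ble (nat_lit 5416) i)) (Bool.rec (t0_5424 i) (t0_5432 i) (Nat.ble (nat_lit 5432) i)) (Nat.ble (nat_lit 5424) i)) (Nat.ble (nat_lit 5408) i))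
noncomputable def t1_680 (i : ℕ) : ℕ := (Bool.rec (Bool.rec (Bool.rec (t0_5440 i) (t0_5448 i) (Nat.ble (nat_lit 5448) i)) (Bool.rec (t0_5456 i) (t0_5464 i) (Nat.ble (nat_lit 5464) i)) (Nat.ble (nat_lit 5456) i)) (Bool.rec (Bool.rec (t0_5472 i) (t0_5480 i) (Nat.ble (nat_lit 5480) i)) (Bool.rec (t0_5488 i) (t0_5496 i) (Nat.ble (nat_lit 5496) i)) (Nat.ble (nat_lit 5488) i)) (Nat.ble (nat_lit 5472) i))
noncomputable def t1_688 (i : ℕ) : ℕ := (Bool.rec (Bool.rec (Bool.rec (t0_5504 i) (t0_5512 i) (Nat.ble (nat_lit 5512) i)) (Bool.rec (t0_5520 i) (t0_5528 i) (Nat.ble (nat_lit 5528) i)) (Nat.ble (nat_lit 5520) i)) (Bool.rec (Bool.rec (t0_5536 i) (t0_5544 i) (Nat.ble (nat_lit 5544) i)) (Bool.rec (t0_5552 i) (t0_5560 i) (Nat.ble (nat_lit 5560) i)) (Nat.ble (nat_lit 5552) i)) (Nat.ble (nat_lit 5536) i))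
noncomputable def t1_696 (i : ℕ) : ℕ := (Bool.rec (Bool.rec (Bool.rec (t0_5568 i) (t0_5576 i) (Nat.ble (nat_lit 5576) i)) (Bool.rec (t0_5584 i) (t0_5592 i) (Nat.ble (nat_lit 5592) i)) (Nat.ble (nat_lit 5584) i)) (Bool.rec (Bool.rec (t0_5600 i) (t0_5608 i) (Nat.ble (nat_lit 5608) i)) (Bool.rec (t0_5616 i) (t0_5624 i) (Nat.ble (nat_lit 5624) i)) (Nat.ble (nat_lit 5616) i)) (Nat.ble (nat_lit 5600) i))
noncomputable def t1_704 (i : ℕ) : ℕ := (Bool.rec (Bool.rec (Bool.rec (t0_5632 i) (t0_5640 i) (Nat.ble (nat_lit 5640) i)) (Bool.rec (t0_5648 i) (t0_5656 i) (Nat.ble (nat_lit 5656) i)) (Nat.ble (nat_lit 5648) i)) (Bool.rec (Bool.rec (t0_5664 i) (t0_5672 i) (Nat.ble (nat_lit 5672) i)) (Bool.rec (t0_5680 i) (t0_5688 i) (Nat.ble (nat_lit 5688) i)) (Nat.ble (nat_lit 5680) i)) (Nat.ble (nat_lit 5664) i))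
noncomputable def t1_712 (i : ℕ) : ℕ := (Bool.rec (Bool.rec (Bool.rec (t0_5696 i) (t0_5704 i) (Nat.ble (nat_lit 5704) i)) (Bool.rec (t0_5712 i) (t0_5720 i) (Nat.ble (nat_lit 5720) i)) (Nat.ble (nat_lit 5712) i)) (Bool.rec (Bool.rec (t0_5728 i) (t0_5736 i) (Nat.ble (nat_lit 5736) i)) (Bool.rec (t0_5744 i) (t0_5752 i) (Nat.ble (nat_lit 5752) i)) (Nat.ble (nat_lit 5744) i)) (Nat.ble (nat_lit 5728) i))
noncomputable def t1_720 (i : ℕ) : ℕ := (Bool.rec (Bool.rec (Bool.rec (t0_5760 i) (t0_5768 i) (Nat.ble (nat_lit 5768) i)) (Bool.rec (t0_5776 i) (t0_5784 i) (Nat.ble (nat_lit 5784) i)) (Nat.ble (nat_lit 5776) i)) (Bool.rec (Bool.rec (t0_5792 i) (t0_5800 i) (Nat.ble (nat_lit 5800) i)) (Bool.rec (t0_5808 i) (t0_5816 i) (Nat.ble (nat_lit 5816) i)) (Nat.ble (nat_lit 5808) i)) (Nat.ble (nat_lit 5792) i))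
noncomputable def t1_728 (i : ℕ) : ℕ := (Bool.rec (Bool.rec (Bool.rec (t0_5824 i) (t0_5832 i) (Nat.ble (nat_lit 5832) i)) (Bool.rec (t0_5840 i) (t0_5848 i) (Nat.ble (nat_lit 5848) i)) (Nat.ble (nat_lit 5840) i)) (Bool.rec (Bool.rec (t0_5856 i) (t0_5864 i) (Nat.ble (nat_lit 5864) i)) (Bool.rec (t0_5872 i) (t0_5880 i) (Nat.ble (nat_lit 5880) i)) (Nat.ble (nat_lit 5872) i)) (Nat.ble (nat_lit 5856) i))
noncomputable def t1_736 (i : ℕ) : ℕ := (Bool.rec (Bool.rec (Bool.rec (t0_5888 i) (t0_5896 i) (Nat.ble (nat_lit 5896) i)) (Bool.rec (t0_5904 i) (t0_5912 i) (Nat.ble (nat_lit 5912) i)) (Nat.ble (nat_lit 5904) i)) (Bool.rec (Bool.rec (t0_5920 i) (t0_5928 i) (Nat.ble (nat_lit 5928) i)) (Bool.rec (t0_5936 i) (t0_5944 i) (Nat.ble (nat_lit 5944) i)) (Nat.ble (nat_lit 5936) i)) (Nat.ble (nat_lit 5920) i))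
noncomputable def t1_744 (i : ℕ) : ℕ := (Bool.rec (Bool.rec (Bool.rec (t0_5952 i) (t0_5960 i) (Nat.ble (nat_lit 5960) i)) (Bool.rec (t0_5968 i) (t0_5976 i) (Nat.ble (nat_lit 5976) i)) (Nat.ble (nat_lit 5968) i)) (Bool.rec (Bool.rec (t0_5984 i) (t0_5992 i) (Nat.ble (nat_lit 5992) i)) (Bool.rec (t0_6000 i) (t0_6008 i) (Nat.ble (nat_lit 6008) i)) (Nat.ble (nat_lit 6000) i)) (Nat.ble (nat_lit 5984) i))
noncomputable def t1_752 (i : ℕ) : ℕ := (Bool.rec (Bool.rec (Bool.rec (t0_6016 i) (t0_6024 i) (Nat.ble (nat_lit 6024) i)) (Bool.rec (t0_6032 i) (t0_6040 i) (Nat.ble (nat_lit 6040) i)) (Nat.ble (nat_lit 6032) i)) (Bool.rec (Bool.rec (t0_6048 i) (t0_6056 i) (Nat.ble (nat_lit 6056) i)) (Bool.rec (t0_6064 i) (t0_6072 i) (Nat.ble (nat_lit 6072) i)) (Nat.ble (nat_lit 6064) i)) (Nat.ble (nat_lit 6048) i))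
noncomputable def t1_760 (i : ℕ) : ℕ := (Bool.rec (Bool.rec (Bool.rec (t0_6080 i) (t0_6088 i) (Nat.ble (nat_lit 6088) i)) (Bool.rec (t0_6096 i) (t0_6104 i) (Nat.ble (nat_lit 6104) i)) (Nat.ble (nat_lit 6096) i)) (Bool.rec (Bool.rec (t0_6112 i) (t0_6120 i) (Nat.ble (nat_lit 6120) i)) (Bool.rec (t0_6128 i) (t0_6136 i) (Nat.ble (nat_lit 6136) i)) (Nat.ble (nat_lit 6128) i)) (Nat.ble (nat_lit 6112) i))
noncomputable def t1_768 (i : ℕ) : ℕ := (Bool.rec (Bool.rec (Bool.rec (t0_6144 i) (t0_6152 i) (Nat.ble (nat_lit 6152) i)) (Bool.rec (t0_6160 i) (t0_6168 i) (Nat.ble (nat_lit 6168) i)) (Nat.ble (nat_lit 6160) i)) (Bool.rec (Bool.rec (t0_6176 i) (t0_6184 i) (Nat.ble (nat_lit 6184) i)) (Bool.rec (t0_6192 i) (t0_6200 i) (Nat.ble (nat_lit 6200) i)) (Nat.ble (nat_lit 6192) i)) (Nat.ble (nat_lit 6176) i))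
noncomputable def t1_776 (i : ℕ) : ℕ := (Bool.rec (Bool.rec (Bool.rec (t0_6208 i) (t0_6216 i) (Nat.ble (nat_lit 6216) i)) (Bool.rec (t0_6224 i) (t0_6232 i) (Nat.ble (nat_lit 6232) i)) (Nat.ble (nat_lit 6224) i)) (Bool.rec (Bool.rec (t0_6240 i) (t0_6248 i) (Nat.ble (nat_lit 6248) i)) (Bool.rec (t0_6256 i) (t0_6264 i) (Nat.ble (nat_lit 6264) i)) (Nat.ble (nat_lit 6256) i)) (Nat.ble (nat_lit 6240) i))
noncomputable def t1_784 (i : ℕ) : ℕ := (Bool.rec (Bool.rec (Bool.rec (t0_6272 i) (t0_6280 i) (Nat.ble (nat_lit 6280) i)) (Bool.rec (t0_6288 i) (t0_6296 i) (Nat.ble (nat_lit 6296) i)) (Nat.ble (nat_lit 6288) i)) (Bool.rec (Bool.rec (t0_6304 i) (t0_6312 i) (Nat.ble (nat_lit 6312) i)) (Bool.rec (t0_6320 i) (t0_6328 i) (Nat.ble (nat_lit 6328) i)) (Nat.ble (nat_lit 6320) i)) (Nat.ble (nat_lit 6304) i))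
noncomputable def t1_792 (i : ℕ) : ℕ := (Bool.rec (Bool.rec (Bool.rec (t0_6336 i) (t0_6344 i) (Nat.ble (nat_lit 6344) i)) (Bool.rec (t0_6352 i) (t0_6360 i) (Nat.ble (nat_lit 6360) i)) (Nat.ble (nat_lit 6352) i)) (Bool.rec (Bool.rec (t0_6368 i) (t0_6376 i) (Nat.ble (nat_lit 6376) i)) (Bool.rec (t0_6384 i) (t0_6392 i) (Nat.ble (nat_lit 6392) i)) (Nat.ble (nat_lit 6384) i)) (Nat.ble (nat_lit 6368) i))
noncomputable def t1_800 (i : ℕ) : ℕ := (Bool.rec (Bool.rec (Bool.rec (t0_6400 i) (t0_6408 i) (Nat.ble (nat_lit 6408) i)) (Bool.rec (t0_6416 i) (t0_6424 i) (Nat.ble (nat_lit 6424) i)) (Nat.ble (nat_lit 6416) i)) (Bool.rec (Bool.rec (t0_6432 i) (t0_6440 i) (Nat.ble (nat_lit 6440) i)) (Bool.rec (t0_6448 i) (t0_6456 i) (Nat.ble (nat_lit 6456) i)) (Nat.ble (nat_lit 6448) i)) (Nat.ble (nat_lit 6432) i))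
noncomputable def t1_808 (i : ℕ) : ℕ := (Bool.rec (Bool.rec (Bool.rec (t0_6464 i) (t0_6472 i) (Nat.ble (nat_lit 6472) i)) (Bool.rec (t0_6480 i) (t0_6488 i) (Nat.ble (nat_lit 6488) i)) (Nat.ble (nat_lit 6480) i)) (Bool.rec (Bool.rec (t0_6496 i) (t0_6504 i) (Nat.ble (nat_lit 6504) i)) (Bool.rec (t0_6512 i) (t0_6520 i) (Nat.ble (nat_lit 6520) i)) (Nat.ble (nat_lit 6512) i)) (Nat.ble (nat_lit 6496) i))
noncomputable def t1_816 (i : ℕ) : ℕ := (Bool.rec (Bool.rec (Bool.rec (t0_6528 i) (t0_6536 i) (Nat.ble (nat_lit 6536) i)) (Bool.rec (t0_6544 i) (t0_6552 i) (Nat.ble (nat_lit 6552) i)) (Nat.ble (nat_lit 6544) i)) (Bool.rec (Bool.rec (t0_6560 i) (t0_6568 i) (Nat.ble (nat_lit 6568) i)) (Bool.rec (t0_6576 i) (t0_6584 i) (Nat.ble (nat_lit 6584) i)) (Nat.ble (nat_lit 6576) i)) (Nat.ble (nat_lit 6560) i))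
noncomputable def t1_824 (i : ℕ) : ℕ := (Bool.rec (Bool.rec (Bool.rec (t0_6592 i) (t0_6600 i) (Nat.ble (nat_lit 6600) i)) (Bool.rec (t0_6608 i) (t0_6616 i) (Nat.ble (nat_lit 6616) i)) (Nat.ble (nat_lit 6608) i)) (Bool.rec (Bool.rec (t0_6624 i) (t0_6632 i) (Nat.ble (nat_lit 6632) i)) (Bool.rec (t0_6640 i) (t0_6648 i) (Nat.ble (nat_lit 6648) i)) (Nat.ble (nat_lit 6640) i)) (Nat.ble (nat_lit 6624) i))
noncomputable def t1_832 (i : ℕ) : ℕ := (Bool.rec (Bool.rec (Bool.rec (t0_6656 i) (t0_6664 i) (Nat.ble (nat_lit 6664) i)) (Bool.rec (t0_6672 i) (t0_6680 i) (Nat.ble (nat_lit 6680) i)) (Nat.ble (nat_lit 6672) i)) (Bool.rec (Bool.rec (t0_6688 i) (t0_6696 i) (Nat.ble (nat_lit 6696) i)) (Bool.rec (t0_6704 i) (t0_6712 i) (Nat.ble (nat_lit 6712) i)) (Nat.ble (nat_lit 6704) i)) (Nat.ble (nat_lit 6688) i))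
noncomputable def t1_840 (i : ℕ) : ℕ := (Bool.rec (Bool.rec (Bool.rec (t0_6720 i) (t0_6728 i) (Nat.ble (nat_lit 6728) i)) (Bool.rec (t0_6736 i) (t0_6744 i) (Nat.ble (nat_lit 6744) i)) (Nat.ble (nat_lit 6736) i)) (Bool.rec (Bool.rec (t0_6752 i) (t0_6760 i) (Nat.ble (nat_lit 6760) i)) (Bool.rec (t0_6768 i) (t0_6776 i) (Nat.ble (nat_lit 6776) i)) (Nat.ble (nat_lit 6768) i)) (Nat.ble (nat_lit 6752) i))
noncomputable def t1_848 (i : ℕ) : ℕ := (Bool.rec (Bool.rec (Bool.rec (t0_6784 i) (t0_6792 i) (Nat.ble (nat_lit 6792) i)) (Bool.rec (t0_6800 i) (t0_6808 i) (Nat.ble (nat_lit 6808) i)) (Nat.ble (nat_lit 6800) i)) (Bool.rec (Bool.rec (t0_6816 i) (t0_6824 i) (Nat.ble (nat_lit 6824) i)) (Bool.rec (t0_6832 i) (t0_6840 i) (Nat.ble (nat_lit 6840) i)) (Nat.ble (nat_lit 6832) i)) (Nat.ble (nat_lit 6816) i))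
noncomputable def t1_856 (i : ℕ) : ℕ := (Bool.rec (Bool.rec (Bool.rec (t0_6848 i) (t0_6856 i) (Nat.ble (nat_lit 6856) i)) (Bool.rec (t0_6864 i) (t0_6872 i) (Nat.ble (nat_lit 6872) i)) (Nat.ble (nat_lit 6864) i)) (Bool.rec (Bool.rec (t0_6880 i) (t0_6888 i) (Nat.ble (nat_lit 6888) i)) (Bool.rec (t0_6896 i) (t0_6904 i) (Nat.ble (nat_lit 6904) i)) (Nat.ble (nat_lit 6896) i)) (Nat.ble (nat_lit 6880) i))
noncomputable def t1_864 (i : ℕ) : ℕ := (Bool.rec (Bool.rec (Bool.rec (t0_6912 i) (t0_6920 i) (Nat.ble (nat_lit 6920) i)) (Bool.rec (t0_6928 i) (t0_6936 i) (Nat.ble (nat_lit 6936) i)) (Nat.ble (nat_lit 6928) i)) (Bool.rec (Bool.rec (t0_6944 i) (t0_6952 i) (Nat.ble (nat_lit 6952) i)) (Bool.rec (t0_6960 i) (t0_6968 i) (Nat.ble (nat_lit 6968) i)) (Nat.ble (nat_lit 6960) i)) (Nat.ble (nat_lit 6944) i))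
noncomputable def t1_872 (i : ℕ) : ℕ := (Bool.rec (Bool.rec (Bool.rec (t0_6976 i) (t0_6984 i) (Nat.ble (nat_lit 6984) i)) (Bool.rec (t0_6992 i) (t0_7000 i) (Nat.ble (nat_lit 7000) i)) (Nat.ble (nat_lit 6992) i)) (Bool.rec (Bool.rec (t0_7008 i) (t0_7016 i) (Nat.ble (nat_lit 7016) i)) (Bool.rec (t0_7024 i) (t0_7032 i) (Nat.ble (nat_lit 7032) i)) (Nat.ble (nat_lit 7024) i)) (Nat.ble (nat_lit 7008) i))
noncomputable def t1_880 (i : ℕ) : ℕ := (Bool.rec (Bool.rec (Bool.rec (t0_7040 i) (t0_7048 i) (Nat.ble (nat_lit 7048) i)) (Bool.rec (t0_7056 i) (t0_7064 i) (Nat.ble (nat_lit 7064) i)) (Nat.ble (nat_lit 7056) i)) (Bool.rec (Bool.rec (t0_7072 i) (t0_7080 i) (Nat.ble (nat_lit 7080) i)) (Bool.rec (t0_7088 i) (t0_7096 i) (Nat.ble (nat_lit 7096) i)) (Nat.ble (nat_lit 7088) i)) (Nat.ble (nat_lit 7072) i))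
noncomputable def t1_888 (i : ℕ) : ℕ := (Bool.rec (Bool.rec (Bool.rec (t0_7104 i) (t0_7112 i) (Nat.ble (nat_lit 7112) i)) (Bool.rec (t0_7120 i) (t0_7128 i) (Nat.ble (nat_lit 7128) i)) (Nat.ble (nat_lit 7120) i)) (Bool.rec (Bool.rec (t0_7136 i) (t0_7144 i) (Nat.ble (nat_lit 7144) i)) (Bool.rec (t0_7152 i) (t0_7160 i) (Nat.ble (nat_lit 7160) i)) (Nat.ble (nat_lit 7152) i)) (Nat.ble (nat_lit 7136) i))
noncomputable def t1_896 (i : ℕ) : ℕ := (Bool.rec (Bool.rec (Bool.rec (t0_7168 i) (t0_7176 i) (Nat.ble (nat_lit 7176) i)) (Bool.rec (t0_7184 i) (t0_7192 i) (Nat.ble (nat_lit 7192) i)) (Nat.ble (nat_lit 7184) i)) (Bool.rec (Bool.rec (t0_7200 i) (t0_7208 i) (Nat.ble (nat_lit 7208) i)) (Bool.rec (t0_7216 i) (t0_7224 i) (Nat.ble (nat_lit 7224) i)) (Nat.ble (nat_lit 7216) i)) (Nat.ble (nat_lit 7200) i))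
noncomputable def t1_904 (i : ℕ) : ℕ := (Bool.rec (Bool.rec (Bool.rec (t0_7232 i) (t0_7240 i) (Nat.ble (nat_lit 7240) i)) (Bool.rec (t0_7248 i) (t0_7256 i) (Nat.ble (nat_lit 7256) i)) (Nat.ble (nat_lit 7248) i)) (Bool.rec (Bool.rec (t0_7264 i) (t0_7272 i) (Nat.ble (nat_lit 7272) i)) (Bool.rec (t0_7280 i) (t0_7288 i) (Nat.ble (nat_lit 7288) i)) (Nat.ble (nat_lit 7280) i)) (Nat.ble (nat_lit 7264) i))
noncomputable def t1_912 (i : ℕ) : ℕ := (Bool.rec (Bool.rec (Bool.rec (t0_7296 i) (t0_7304 i) (Nat.ble (nat_lit 7304) i)) (Bool.rec (t0_7312 i) (t0_7320 i) (Nat.ble (nat_lit 7320) i)) (Nat.ble (nat_lit 7312) i)) (Bool.rec (Bool.rec (t0_7328 i) (t0_7336 i) (Nat.ble (nat_lit 7336) i)) (Bool.rec (t0_7344 i) (t0_7352 i) (Nat.ble (nat_lit 7352) i)) (Nat.ble (nat_lit 7344) i)) (Nat.ble (nat_lit 7328) i))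
noncomputable def t1_920 (i : ℕ) : ℕ := (Bool.rec (Bool.rec (Bool.rec (t0_7360 i) (t0_7368 i) (Nat.ble (nat_lit 7368) i)) (Bool.rec (t0_7376 i) (t0_7384 i) (Nat.ble (nat_lit 7384) i)) (Nat.ble (nat_lit 7376) i)) (Bool.rec (Bool.rec (t0_7392 i) (t0_7400 i) (Nat.ble (nat_lit 7400) i)) (Bool.rec (t0_7408 i) (t0_7416 i) (Nat.ble (nat_lit 7416) i)) (Nat.ble (nat_lit 7408) i)) (Nat.ble (nat_lit 7392) i))
noncomputable def t1_928 (i : ℕ) : ℕ := (Bool.rec (Bool.rec (Bool.rec (t0_7424 i) (t0_7432 i) (Nat.ble (nat_lit 7432) i)) (Bool.rec (t0_7440 i) (t0_7448 i) (Nat.ble (nat_lit 7448) i)) (Nat.ble (nat_lit 7440) i)) (Bool.rec (Bool.rec (t0_7456 i) (t0_7464 i) (Nat.ble (nat_lit 7464) i)) (Bool.rec (t0_7472 i) (t0_7480 i) (Nat.ble (nat_lit 7480) i)) (Nat.ble (nat_lit 7472) i)) (Nat.ble (nat_lit 7456) i))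
noncomputable def t1_936 (i : ℕ) : ℕ := (Bool.rec (Bool.rec (Bool.rec (t0_7488 i) (t0_7496 i) (Nat.ble (nat_lit 7496) i)) (Bool.rec (t0_7504 i) (t0_7512 i) (Nat.ble (nat_lit 7512) i)) (Nat.ble (nat_lit 7504) i)) (Bool.rec (Bool.rec (t0_7520 i) (t0_7528 i) (Nat.ble (nat_lit 7528) i)) (Bool.rec (t0_7536 i) (t0_7544 i) (Nat.ble (nat_lit 7544) i)) (Nat.ble (nat_lit 7536) i)) (Nat.ble (nat_lit 7520) i))
noncomputable def t1_944 (i : ℕ) : ℕ := (Bool.rec (Bool.rec (Bool.rec (t0_7552 i) (t0_7560 i) (Nat.ble (nat_lit 7560) i)) (Bool.rec (t0_7568 i) (t0_7576 i) (Nat.ble (nat_lit 7576) i)) (Nat.ble (nat_lit 7568) i)) (Bool.rec (Bool.rec (t0_7584 i) (t0_7592 i) (Nat.ble (nat_lit 7592) i)) (Bool.rec (t0_7600 i) (t0_7608 i) (Nat.ble (nat_lit 7608) i)) (Nat.ble (nat_lit 7600) i)) (Nat.ble (nat_lit 7584) i))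
noncomputable def t1_952 (i : ℕ) : ℕ := (Bool.rec (Bool.rec (Bool.rec (t0_7616 i) (t0_7624 i) (Nat.ble (nat_lit 7624) i)) (Bool.rec (t0_7632 i) (t0_7640 i) (Nat.ble (nat_lit 7640) i)) (Nat.ble (nat_lit 7632) i)) (Bool.rec (Bool.rec (t0_7648 i) (t0_7656 i) (Nat.ble (nat_lit 7656) i)) (Bool.rec (t0_7664 i) (t0_7672 i) (Nat.ble (nat_lit 7672) i)) (Nat.ble (nat_lit 7664) i)) (Nat.ble (nat_lit 7648) i))
noncomputable def t1_960 (i : ℕ) : ℕ := (Bool.rec (Bool.rec (Bool.rec (t0_7680 i) (t0_7688 i) (Nat.ble (nat_lit 7688) i)) (Bool.rec (t0_7696 i) (t0_7704 i) (Nat.ble (nat_lit 7704) i)) (Nat.ble (nat_lit 7696) i)) (Bool.rec (Bool.rec (t0_7712 i) (t0_7720 i) (Nat.ble (nat_lit 7720) i)) (Bool.rec (t0_7728 i) (t0_7736 i) (Nat.ble (nat_lit 7736) i)) (Nat.ble (nat_lit 7728) i)) (Nat.ble (nat_lit 7712) i))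
noncomputable def t1_968 (i : ℕ) : ℕ := (Bool.rec (Bool.rec (Bool.rec (t0_7744 i) (t0_7752 i) (Nat.ble (nat_lit 7752) i)) (Bool.rec (t0_7760 i) (t0_7768 i) (Nat.ble (nat_lit 7768) i)) (Nat.ble (nat_lit 7760) i)) (Bool.rec (Bool.rec (t0_7776 i) (t0_7784 i) (Nat.ble (nat_lit 7784) i)) (Bool.rec (t0_7792 i) (t0_7800 i) (Nat.ble (nat_lit 7800) i)) (Nat.ble (nat_lit 7792) i)) (Nat.ble (nat_lit 7776) i))
noncomputable def t1_976 (i : ℕ) : ℕ := (Bool.rec (Bool.rec (Bool.rec (t0_7808 i) (t0_7816 i) (Nat.ble (nat_lit 7816) i)) (Bool.rec (t0_7824 i) (t0_7832 i) (Nat.ble (nat_lit 7832) i)) (Nat.ble (nat_lit 7824) i)) (Bool.rec (Bool.rec (t0_7840 i) (t0_7848 i) (Nat.ble (nat_lit 7848) i)) (Bool.rec (t0_7856 i) (t0_7864 i) (Nat.ble (nat_lit 7864) i)) (Nat.ble (nat_lit 7856) i)) (Nat.ble (nat_lit 7840) i))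
noncomputable def t1_984 (i : ℕ) : ℕ := (Bool.rec (Bool.rec (Bool.rec (t0_7872 i) (t0_7880 i) (Nat.ble (nat_lit 7880) i)) (Bool.rec (t0_7888 i) (t0_7896 i) (Nat.ble (nat_lit 7896) i)) (Nat.ble (nat_lit 7888) i)) (Bool.rec (Bool.rec (t0_7904 i) (t0_7912 i) (Nat.ble (nat_lit 7912) i)) (Bool.rec (t0_7920 i) (t0_7928 i) (Nat.ble (nat_lit 7928) i)) (Nat.ble (nat_lit 7920) i)) (Nat.ble (nat_lit 7904) i))
noncomputable def t1_992 (i : ℕ) : ℕ := (Bool.rec (Bool.rec (Bool.rec (t0_7936 i) (t0_7944 i) (Nat.ble (nat_lit 7944) i)) (Bool.rec (t0_7952 i) (t0_7960 i) (Nat.ble (nat_lit 7960) i)) (Nat.ble (nat_lit 7952) i)) (Bool.rec (Bool.rec (t0_7968 i) (t0_7976 i) (Nat.ble (nat_lit 7976) i)) (Bool.rec (t0_7984 i) (t0_7992 i) (Nat.ble (nat_lit 7992) i)) (Nat.ble (nat_lit 7984) i)) (Nat.ble (nat_lit 7968) i))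
noncomputable def t1_1000 (i : ℕ) : ℕ := (Bool.rec (Bool.rec (Bool.rec (t0_8000 i) (t0_8008 i) (Nat.ble (nat_lit 8008) i)) (Bool.rec (t0_8016 i) (t0_8024 i) (Nat.ble (nat_lit 8024) i)) (Nat.ble (nat_lit 8016) i)) (Bool.rec (Bool.rec (t0_8032 i) (t0_8040 i) (Nat.ble (nat_lit 8040) i)) (Bool.rec (t0_8048 i) (t0_8056 i) (Nat.ble (nat_lit 8056) i)) (Nat.ble (nat_lit 8048) i)) (Nat.ble (nat_lit 8032) i))
noncomputable def t1_1008 (i : ℕ) : ℕ := (Bool.rec (Bool.rec (Bool.rec (t0_8064 i) (t0_8072 i) (Nat.ble (nat_lit 8072) i)) (Bool.rec (t0_8080 i) (t0_8088 i) (Nat.ble (nat_lit 8088) i)) (Nat.ble (nat_lit 8080) i)) (Bool.rec (Bool.rec (t0_8096 i) (t0_8104 i) (Nat.ble (nat_lit 8104) i)) (Bool.rec (t0_8112 i) (t0_8120 i) (Nat.ble (nat_lit 8120) i)) (Nat.ble (nat_lit 8112) i)) (Nat.ble (nat_lit 8096) i))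
noncomputable def t1_1016 (i : ℕ) : ℕ := (Bool.rec (Bool.rec (Bool.rec (t0_8128 i) (t0_8136 i) (Nat.ble (nat_lit 8136) i)) (Bool.rec (t0_8144 i) (t0_8152 i) (Nat.ble (nat_lit 8152) i)) (Nat.ble (nat_lit 8144) i)) (Bool.rec (Bool.rec (t0_8160 i) (t0_8168 i) (Nat.ble (nat_lit 8168) i)) (Bool.rec (t0_8176 i) (t0_8184 i) (Nat.ble (nat_lit 8184) i)) (Nat.ble (nat_lit 8176) i)) (Nat.ble (nat_lit 8160) i))
noncomputable def t1_1024 (i : ℕ) : ℕ := (Bool.rec (Bool.rec (Bool.rec (t0_8192 i) (t0_8200 i) (Nat.ble (nat_lit 8200) i)) (Bool.rec (t0_8208 i) (t0_8216 i) (Nat.ble (nat_lit 8216) i)) (Nat.ble (nat_lit 8208) i)) (Bool.rec (Bool.rec (t0_8224 i) (t0_8232 i) (Nat.ble (nat_lit 8232) i)) (Bool.rec (t0_8240 i) (t0_8248 i) (Nat.ble (nat_lit 8248) i)) (Nat.ble (nat_lit 8240) i)) (Nat.ble (nat_lit 8224) i))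
noncomputable def t1_1032 (i : ℕ) : ℕ := (Bool.rec (Bool.rec (Bool.rec (t0_8256 i) (t0_8264 i) (Nat.ble (nat_lit 8264) i)) (Bool.rec (t0_8272 i) (t0_8280 i) (Nat.ble (nat_lit 8280) i)) (Nat.ble (nat_lit 8272) i)) (Bool.rec (Bool.rec (t0_8288 i) (t0_8296 i) (Nat.ble (nat_lit 8296) i)) (Bool.rec (t0_8304 i) (t0_8312 i) (Nat.ble (nat_lit 8312) i)) (Nat.ble (nat_lit 8304) i)) (Nat.ble (nat_lit 8288) i))
noncomputable def t1_1040 (i : ℕ) : ℕ := (Bool.rec (Bool.rec (Bool.rec (t0_8320 i) (t0_8328 i) (Nat.ble (nat_lit 8328) i)) (Bool.rec (t0_8336 i) (t0_8344 i) (Nat.ble (nat_lit 8344) i)) (Nat.ble (nat_lit 8336) i)) (Bool.rec (Bool.rec (t0_8352 i) (t0_8360 i) (Nat.ble (nat_lit 8360) i)) (Bool.rec (t0_8368 i) (t0_8376 i) (Nat.ble (nat_lit 8376) i)) (Nat.ble (nat_lit 8368) i)) (Nat.ble (nat_lit 8352) i))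
noncomputable def t1_1048 (i : ℕ) : ℕ := (Bool.rec (Bool.rec (Bool.rec (t0_8384 i) (t0_8392 i) (Nat.ble (nat_lit 8392) i)) (Bool.rec (t0_8400 i) (t0_8408 i) (Nat.ble (nat_lit 8408) i)) (Nat.ble (nat_lit 8400) i)) (Bool.rec (Bool.rec (t0_8416 i) (t0_8424 i) (Nat.ble (nat_lit 8424) i)) (Bool.rec (t0_8432 i) (t0_8440 i) (Nat.ble (nat_lit 8440) i)) (Nat.ble (nat_lit 8432) i)) (Nat.ble (nat_lit 8416) i))
noncomputable def t1_1056 (i : ℕ) : ℕ := (Bool.rec (Bool.rec (Bool.rec (t0_8448 i) (t0_8456 i) (Nat.ble (nat_lit 8456) i)) (Bool.rec (t0_8464 i) (t0_8472 i) (Nat.ble (nat_lit 8472) i)) (Nat.ble (nat_lit 8464) i)) (Bool.rec (Bool.rec (t0_8480 i) (t0_8488 i) (Nat.ble (nat_lit 8488) i)) (Bool.rec (t0_8496 i) (t0_8504 i) (Nat.ble (nat_lit 8504) i)) (Nat.ble (nat_lit 8496) i)) (Nat.ble (nat_lit 8480) i))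
noncomputable def t1_1064 (i : ℕ) : ℕ := (Bool.rec (Bool.rec (Bool.rec (t0_8512 i) (t0_8520 i) (Nat.ble (nat_lit 8520) i)) (Bool.rec (t0_8528 i) (t0_8536 i) (Nat.ble (nat_lit 8536) i)) (Nat.ble (nat_lit 8528) i)) (Bool.rec (Bool.rec (t0_8544 i) (t0_8552 i) (Nat.ble (nat_lit 8552) i)) (Bool.rec (t0_8560 i) (t0_8568 i) (Nat.ble (nat_lit 8568) i)) (Nat.ble (nat_lit 8560) i)) (Nat.ble (nat_lit 8544) i))
noncomputable def t1_1072 (i : ℕ) : ℕ := (Bool.rec (Bool.rec (Bool.rec (t0_8576 i) (t0_8584 i) (Nat.ble (nat_lit 8584) i)) (Bool.rec (t0_8592 i) (t0_8600 i) (Nat.ble (nat_lit 8600) i)) (Nat.ble (nat_lit 8592) i)) (Bool.rec (Bool.rec (t0_8608 i) (t0_8616 i) (Nat.ble (nat_lit 8616) i)) (Bool.rec (t0_8624 i) (t0_8632 i) (Nat.ble (nat_lit 8632) i)) (Nat.ble (nat_lit 8624) i)) (Nat.ble (nat_lit 8608) i))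
noncomputable def t1_1080 (i : ℕ) : ℕ := (Bool.rec (Bool.rec (Bool.rec (t0_8640 i) (t0_8648 i) (Nat.ble (nat_lit 8648) i)) (Bool.rec (t0_8656 i) (t0_8664 i) (Nat.ble (nat_lit 8664) i)) (Nat.ble (nat_lit 8656) i)) (Bool.rec (Bool.rec (t0_8672 i) (t0_8680 i) (Nat.ble (nat_lit 8680) i)) (Bool.rec (t0_8688 i) (t0_8696 i) (Nat.ble (nat_lit 8696) i)) (Nat.ble (nat_lit 8688) i)) (Nat.ble (nat_lit 8672) i))
noncomputable def t1_1088 (i : ℕ) : ℕ := (Bool.rec (Bool.rec (Bool.rec (t0_8704 i) (t0_8712 i) (Nat.ble (nat_lit 8712) i)) (Bool.rec (t0_8720 i) (t0_8728 i) (Nat.ble (nat_lit 8728) i)) (Nat.ble (nat_lit 8720) i)) (Bool.rec (Bool.rec (t0_8736 i) (t0_8744 i) (Nat.ble (nat_lit 8744) i)) (Bool.rec (t0_8752 i) (t0_8760 i) (Nat.ble (nat_lit 8760) i)) (Nat.ble (nat_lit 8752) i)) (Nat.ble (nat_lit 8736) i))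
noncomputable def t1_1096 (i : ℕ) : ℕ := (Bool.rec (Bool.rec (Bool.rec (t0_8768 i) (t0_8776 i) (Nat.ble (nat_lit 8776) i)) (Bool.rec (t0_8784 i) (t0_8792 i) (Nat.ble (nat_lit 8792) i)) (Nat.ble (nat_lit 8784) i)) (Bool.rec (Bool.rec (t0_8800 i) (t0_8808 i) (Nat.ble (nat_lit 8808) i)) (Bool.rec (t0_8816 i) (t0_8824 i) (Nat.ble (nat_lit 8824) i)) (Nat.ble (nat_lit 8816) i)) (Nat.ble (nat_lit 8800) i))
noncomputable def t1_1104 (i : ℕ) : ℕ := (Bool.rec (Bool.rec (Bool.rec (t0_8832 i) (t0_8840 i) (Nat.ble (nat_lit 8840) i)) (Bool.rec (t0_8848 i) (t0_8856 i) (Nat.ble (nat_lit 8856) i)) (Nat.ble (nat_lit 8848) i)) (Bool.rec (Bool.rec (t0_8864 i) (t0_8872 i) (Nat.ble (nat_lit 8872) i)) (Bool.rec (t0_8880 i) (t0_8888 i) (Nat.ble (nat_lit 8888) i)) (Nat.ble (nat_lit 8880) i)) (Nat.ble (nat_lit 8864) i))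
noncomputable def t1_1112 (i : ℕ) : ℕ := (Bool.rec (Bool.rec (Bool.rec (t0_8896 i) (t0_8904 i) (Nat.ble (nat_lit 8904) i)) (Bool.rec (t0_8912 i) (t0_8920 i) (Nat.ble (nat_lit 8920) i)) (Nat.ble (nat_lit 8912) i)) (Bool.rec (Bool.rec (t0_8928 i) (t0_8936 i) (Nat.ble (nat_lit 8936) i)) (Bool.rec (t0_8944 i) (t0_8952 i) (Nat.ble (nat_lit 8952) i)) (Nat.ble (nat_lit 8944) i)) (Nat.ble (nat_lit 8928) i))
noncomputable def t1_1120 (i : ℕ) : ℕ := (Bool.rec (Bool.rec (Bool.rec (t0_8960 i) (t0_8968 i) (Nat.ble (nat_lit 8968) i)) (Bool.rec (t0_8976 i) (t0_8984 i) (Nat.ble (nat_lit 8984) i)) (Nat.ble (nat_lit 8976) i)) (Bool.rec (Bool.rec (t0_8992 i) (t0_9000 i) (Nat.ble (nat_lit 9000) i)) (Bool.rec (t0_9008 i) (t0_9016 i) (Nat.ble (nat_lit 9016) i)) (Nat.ble (nat_lit 9008) i)) (Nat.ble (nat_lit 8992) i))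
noncomputable def t1_1128 (i : ℕ) : ℕ := (Bool.rec (Bool.rec (Bool.rec (t0_9024 i) (t0_9032 i) (Nat.ble (nat_lit 9032) i)) (Bool.rec (t0_9040 i) (t0_9048 i) (Nat.ble (nat_lit 9048) i)) (Nat.ble (nat_lit 9040) i)) (Bool.rec (Bool.rec (t0_9056 i) (t0_9064 i) (Nat.ble (nat_lit 9064) i)) (Bool.rec (t0_9072 i) (t0_9080 i) (Nat.ble (nat_lit 9080) i)) (Nat.ble (nat_lit 9072) i)) (Nat.ble (nat_lit 9056) i))
noncomputable def t1_1136 (i : ℕ) : ℕ := (Bool.rec (Bool.rec (Bool.rec (t0_9088 i) (t0_9096 i) (Nat.ble (nat_lit 9096) i)) (Bool.rec (t0_9104 i) (t0_9112 i) (Nat.ble (nat_lit 9112) i)) (Nat.ble (nat_lit 9104) i)) (Bool.rec (Bool.rec (t0_9120 i) (t0_9128 i) (Nat.ble (nat_lit 9128) i)) (Bool.rec (t0_9136 i) (t0_9144 i) (Nat.ble (nat_lit 9144) i)) (Nat.ble (nat_lit 9136) i)) (Nat.ble (nat_lit 9120) i))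
noncomputable def t1_1144 (i : ℕ) : ℕ := (Bool.rec (Bool.rec (Bool.rec (t0_9152 i) (t0_9160 i) (Nat.ble (nat_lit 9160) i)) (Bool.rec (t0_9168 i) (t0_9176 i) (Nat.ble (nat_lit 9176) i)) (Nat.ble (nat_lit 9168) i)) (Bool.rec (Bool.rec (t0_9184 i) (t0_9192 i) (Nat.ble (nat_lit 9192) i)) (Bool.rec (t0_9200 i) (t0_9208 i) (Nat.ble (nat_lit 9208) i)) (Nat.ble (nat_lit 9200) i)) (Nat.ble (nat_lit 9184) i))
noncomputable def t1_1152 (i : ℕ) : ℕ := (Bool.rec (Bool.rec (Bool.rec (t0_9216 i) (t0_9224 i) (Nat.ble (nat_lit 9224) i)) (Bool.rec (t0_9232 i) (t0_9240 i) (Nat.ble (nat_lit 9240) i)) (Nat.ble (nat_lit 9232) i)) (Bool.rec (Bool.rec (t0_9248 i) (t0_9256 i) (Nat.ble (nat_lit 9256) i)) (Bool.rec (t0_9264 i) (t0_9272 i) (Nat.ble (nat_lit 9272) i)) (Nat.ble (nat_lit 9264) i)) (Nat.ble (nat_lit 9248) i))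
noncomputable def t1_1160 (i : ℕ) : ℕ := (Bool.rec (Bool.rec (Bool.rec (t0_9280 i) (t0_9288 i) (Nat.ble (nat_lit 9288) i)) (Bool.rec (t0_9296 i) (t0_9304 i) (Nat.ble (nat_lit 9304) i)) (Nat.ble (nat_lit 9296) i)) (Bool.rec (Bool.rec (t0_9312 i) (t0_9320 i) (Nat.ble (nat_lit 9320) i)) (Bool.rec (t0_9328 i) (t0_9336 i) (Nat.ble (nat_lit 9336) i)) (Nat.ble (nat_lit 9328) i)) (Nat.ble (nat_lit 9312) i))
noncomputable def t1_1168 (i : ℕ) : ℕ := (Bool.rec (Bool.rec (Bool.rec (t0_9344 i) (t0_9352 i) (Nat.ble (nat_lit 9352) i)) (Bool.rec (t0_9360 i) (t0_9368 i) (Nat.ble (nat_lit 9368) i)) (Nat.ble (nat_lit 9360) i)) (Bool.rec (Bool.rec (t0_9376 i) (t0_9384 i) (Nat.ble (nat_lit 9384) i)) (Bool.rec (t0_9392 i) (t0_9400 i) (Nat.ble (nat_lit 9400) i)) (Nat.ble (nat_lit 9392) i)) (Nat.ble (nat_lit 9376) i))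
noncomputable def t1_1176 (i : ℕ) : ℕ := (Bool.rec (Bool.rec (Bool.rec (t0_9408 i) (t0_9416 i) (Nat.ble (nat_lit 9416) i)) (Bool.rec (t0_9424 i) (t0_9432 i) (Nat.ble (nat_lit 9432) i)) (Nat.ble (nat_lit 9424) i)) (Bool.rec (Bool.rec (t0_9440 i) (t0_9448 i) (Nat.ble (nat_lit 9448) i)) (Bool.rec (t0_9456 i) (t0_9464 i) (Nat.ble (nat_lit 9464) i)) (Nat.ble (nat_lit 9456) i)) (Nat.ble (nat_lit 9440) i))
noncomputable def t1_1184 (i : ℕ) : ℕ := (Bool.rec (Bool.rec (Bool.rec (t0_9472 i) (t0_9480 i) (Nat.ble (nat_lit 9480) i)) (Bool.rec (t0_9488 i) (t0_9496 i) (Nat.ble (nat_lit 9496) i)) (Nat.ble (nat_lit 9488) i)) (Bool.rec (Bool.rec (t0_9504 i) (t0_9512 i) (Nat.ble (nat_lit 9512) i)) (Bool.rec (t0_9520 i) (t0_9528 i) (Nat.ble (nat_lit 9528) i)) (Nat.ble (nat_lit 9520) i)) (Nat.ble (nat_lit 9504) i))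
noncomputable def t1_1192 (i : ℕ) : ℕ := (Bool.rec (Bool.rec (Bool.rec (t0_9536 i) (t0_9544 i) (Nat.ble (nat_lit 9544) i)) (Bool.rec (t0_9552 i) (t0_9560 i) (Nat.ble (nat_lit 9560) i)) (Nat.ble (nat_lit 9552) i)) (Bool.rec (Bool.rec (t0_9568 i) (t0_9576 i) (Nat.ble (nat_lit 9576) i)) (Bool.rec (t0_9584 i) (t0_9592 i) (Nat.ble (nat_lit 9592) i)) (Nat.ble (nat_lit 9584) i)) (Nat.ble (nat_lit 9568) i))
noncomputable def t1_1200 (i : ℕ) : ℕ := (Bool.rec (Bool.rec (Bool.rec (t0_9600 i) (t0_9608 i) (Nat.ble (nat_lit 9608) i)) (Bool.rec (t0_9616 i) (t0_9624 i) (Nat.ble (nat_lit 9624) i)) (Nat.ble (nat_lit 9616) i)) (Bool.rec (Bool.rec (t0_9632 i) (t0_9640 i) (Nat.ble (nat_lit 9640) i)) (Bool.rec (t0_9648 i) (t0_9656 i) (Nat.ble (nat_lit 9656) i)) (Nat.ble (nat_lit 9648) i)) (Nat.ble (nat_lit 9632) i))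
noncomputable def t1_1208 (i : ℕ) : ℕ := (Bool.rec (Bool.rec (Bool.rec (t0_9664 i) (t0_9672 i) (Nat.ble (nat_lit 9672) i)) (Bool.rec (t0_9680 i) (t0_9688 i) (Nat.ble (nat_lit 9688) i)) (Nat.ble (nat_lit 9680) i)) (Bool.rec (Bool.rec (t0_9696 i) (t0_9704 i) (Nat.ble (nat_lit 9704) i)) (Bool.rec (t0_9712 i) (t0_9720 i) (Nat.ble (nat_lit 9720) i)) (Nat.ble (nat_lit 9712) i)) (Nat.ble (nat_lit 9696) i))
noncomputable def t1_1216 (i : ℕ) : ℕ := (Bool.rec (Bool.rec (Bool.rec (t0_9728 i) (t0_9736 i) (Nat.ble (nat_lit 9736) i)) (Bool.rec (t0_9744 i) (t0_9752 i) (Nat.ble (nat_lit 9752) i)) (Nat.ble (nat_lit 9744) i)) (Bool.rec (Bool.rec (t0_9760 i) (t0_9768 i) (Nat.ble (nat_lit 9768) i)) (Bool.rec (t0_9776 i) (t0_9784 i) (Nat.ble (nat_lit 9784) i)) (Nat.ble (nat_lit 9776) i)) (Nat.ble (nat_lit 9760) i))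
noncomputable def t1_1224 (i : ℕ) : ℕ := (Bool.rec (Bool.rec (Bool.rec (t0_9792 i) (t0_9800 i) (Nat.ble (nat_lit 9800) i)) (Bool.rec (t0_9808 i) (t0_9816 i) (Nat.ble (nat_lit 9816) i)) (Nat.ble (nat_lit 9808) i)) (Bool.rec (Bool.rec (t0_9824 i) (t0_9832 i) (Nat.ble (nat_lit 9832) i)) (Bool.rec (t0_9840 i) (t0_9848 i) (Nat.ble (nat_lit 9848) i)) (Nat.ble (nat_lit 9840) i)) (Nat.ble (nat_lit 9824) i))
noncomputable def t1_1232 (i : ℕ) : ℕ := (Bool.rec (Bool.rec (Bool.rec (t0_9856 i) (t0_9864 i) (Nat.ble (nat_lit 9864) i)) (Bool.rec (t0_9872 i) (t0_9880 i) (Nat.ble (nat_lit 9880) i)) (Nat.ble (nat_lit 9872) i)) (Bool.rec (Bool.rec (t0_9888 i) (t0_9896 i) (Nat.ble (nat_lit 9896) i)) (Bool.rec (t0_9904 i) (t0_9912 i) (Nat.ble (nat_lit 9912) i)) (Nat.ble (nat_lit 9904) i)) (Nat.ble (nat_lit 9888) i))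
noncomputable def t1_1240 (i : ℕ) : ℕ := (Bool.rec (Bool.rec (Bool.rec (t0_9920 i) (t0_9928 i) (Nat.ble (nat_lit 9928) i)) (Bool.rec (t0_9936 i) (t0_9944 i) (Nat.ble (nat_lit 9944) i)) (Nat.ble (nat_lit 9936) i)) (Bool.rec (Bool.rec (t0_9952 i) (t0_9960 i) (Nat.ble (nat_lit 9960) i)) (Bool.rec (t0_9968 i) (t0_9976 i) (Nat.ble (nat_lit 9976) i)) (Nat.ble (nat_lit 9968) i)) (Nat.ble (nat_lit 9952) i))
noncomputable def t1_1248 (i : ℕ) : ℕ := (Bool.rec (Bool.rec (Bool.rec (t0_9984 i) (t0_9992 i) (Nat.ble (nat_lit 9992) i)) (Bool.rec (t0_10000 i) (t0_10008 i) (Nat.ble (nat_lit 10008) i)) (Nat.ble (nat_lit 10000) i)) (Bool.rec (Bool.rec (t0_10016 i) (t0_10024 i) (Nat.ble (nat_lit 10024) i)) (Bool.rec (t0_10032 i) (t0_10040 i) (Nat.ble (nat_lit 10040) i)) (Nat.ble (nat_lit 10032) i)) (Nat.ble (nat_lit 10016) i))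
noncomputable def t1_1256 (i : ℕ) : ℕ := (Bool.rec (Bool.rec (Bool.rec (t0_10048 i) (t0_10056 i) (Nat.ble (nat_lit 10056) i)) (Bool.rec (t0_10064 i) (t0_10072 i) (Nat.ble (nat_lit 10072) i)) (Nat.ble (nat_lit 10064) i)) (Bool.rec (Bool.rec (t0_10080 i) (t0_10088 i) (Nat.ble (nat_lit 10088) i)) (Bool.rec (t0_10096 i) (t0_10104 i) (Nat.ble (nat_lit 10104) i)) (Nat.ble (nat_lit 10096) i)) (Nat.ble (nat_lit 10080) i))
noncomputable def t1_1264 (i : ℕ) : ℕ := (Bool.rec (Bool.rec (Bool.rec (t0_10112 i) (t0_10120 i) (Nat.ble (nat_lit 10120) i)) (Bool.rec (t0_10128 i) (t0_10136 i) (Nat.ble (nat_lit 10136) i)) (Nat.ble (nat_lit 10128) i)) (Bool.rec (Bool.rec (t0_10144 i) (t0_10152 i) (Nat.ble (nat_lit 10152) i)) (Bool.rec (t0_10160 i) (t0_10168 i) (Nat.ble (nat_lit 10168) i)) (Nat.ble (nat_lit 10160) i)) (Nat.ble (nat_lit 10144) i))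
noncomputable def t1_1272 (i : ℕ) : ℕ := (Bool.rec (Bool.rec (Bool.rec (t0_10176 i) (t0_10184 i) (Nat.ble (nat_lit 10184) i)) (Bool.rec (t0_10192 i) (t0_10200 i) (Nat.ble (nat_lit 10200) i)) (Nat.ble (nat_lit 10192) i)) (Bool.rec (Bool.rec (t0_10208 i) (t0_10216 i) (Nat.ble (nat_lit 10216) i)) (Bool.rec (t0_10224 i) (t0_10232 i) (Nat.ble (nat_lit 10232) i)) (Nat.ble (nat_lit 10224) i)) (Nat.ble (nat_lit 10208) i))
noncomputable def t1_1280 (i : ℕ) : ℕ := (Bool.rec (Bool.rec (Bool.rec (t0_10240 i) (t0_10248 i) (Nat.ble (nat_lit 10248) i)) (Bool.rec (t0_10256 i) (t0_10264 i) (Nat.ble (nat_lit 10264) i)) (Nat.ble (nat_lit 10256) i)) (Bool.rec (Bool.rec (t0_10272 i) (t0_10280 i) (Nat.ble (nat_lit 10280) i)) (Bool.rec (t0_10288 i) (t0_10296 i) (Nat.ble (nat_lit 10296) i)) (Nat.ble (nat_lit 10288) i)) (Nat.ble (nat_lit 10272) i))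
noncomputable def t1_1288 (i : ℕ) : ℕ := (Bool.rec (Bool.rec (Bool.rec (t0_10304 i) (t0_10312 i) (Nat.ble (nat_lit 10312) i)) (Bool.rec (t0_10320 i) (t0_10328 i) (Nat.ble (nat_lit 10328) i)) (Nat.ble (nat_lit 10320) i)) (Bool.rec (Bool.rec (t0_10336 i) (t0_10344 i) (Nat.ble (nat_lit 10344) i)) (Bool.rec (t0_10352 i) (t0_10360 i) (Nat.ble (nat_lit 10360) i)) (Nat.ble (nat_lit 10352) i)) (Nat.ble (nat_lit 10336) i))
noncomputable def t1_1296 (i : ℕ) : ℕ := (Bool.rec (Bool.rec (Bool.rec (t0_10368 i) (t0_10376 i) (Nat.ble (nat_lit 10376) i)) (Bool.rec (t0_10384 i) (t0_10392 i) (Nat.ble (nat_lit 10392) i)) (Nat.ble (nat_lit 10384) i)) (Bool.rec (Bool.rec (t0_10400 i) (t0_10408 i) (Nat.ble (nat_lit 10408) i)) (Bool.rec (t0_10416 i) (t0_10424 i) (Nat.ble (nat_lit 10424) i)) (Nat.ble (nat_lit 10416) i)) (Nat.ble (nat_lit 10400) i))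
noncomputable def t1_1304 (i : ℕ) : ℕ := (Bool.rec (Bool.rec (Bool.rec (t0_10432 i) (t0_10440 i) (Nat.ble (nat_lit 10440) i)) (Bool.rec (t0_10448 i) (t0_10456 i) (Nat.ble (nat_lit 10456) i)) (Nat.ble (nat_lit 10448) i)) (Bool.rec (Bool.rec (t0_10464 i) (t0_10472 i) (Nat.ble (nat_lit 10472) i)) (Bool.rec (t0_10480 i) (t0_10488 i) (Nat.ble (nat_lit 10488) i)) (Nat.ble (nat_lit 10480) i)) (Nat.ble (nat_lit 10464) i))
noncomputable def t1_1312 (i : ℕ) : ℕ := (Bool.rec (Bool.rec (Bool.rec (t0_10496 i) (t0_10504 i) (Nat.ble (nat_lit 10504) i)) (Bool.rec (t0_10512 i) (t0_10520 i) (Nat.ble (nat_lit 10520) i)) (Nat.ble (nat_lit 10512) i)) (Bool.rec (Bool.rec (t0_10528 i) (t0_10536 i) (Nat.ble (nat_lit 10536) i)) (Bool.rec (t0_10544 i) (t0_10552 i) (Nat.ble (nat_lit 10552) i)) (Nat.ble (nat_lit 10544) i)) (Nat.ble (nat_lit 10528) i))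
noncomputable def t1_1320 (i : ℕ) : ℕ := (Bool.rec (Bool.rec (Bool.rec (t0_10560 i) (t0_10568 i) (Nat.ble (nat_lit 10568) i)) (Bool.rec (t0_10576 i) (t0_10584 i) (Nat.ble (nat_lit 10584) i)) (Nat.ble (nat_lit 10576) i)) (Bool.rec (Bool.rec (t0_10592 i) (t0_10600 i) (Nat.ble (nat_lit 10600) i)) (Bool.rec (t0_10608 i) (t0_10616 i) (Nat.ble (nat_lit 10616) i)) (Nat.ble (nat_lit 10608) i)) (Nat.ble (nat_lit 10592) i))
noncomputable def t1_1328 (i : ℕ) : ℕ := (Bool.rec (Bool.rec (Bool.rec (t0_10624 i) (t0_10632 i) (Nat.ble (nat_lit 10632) i)) (Bool.rec (t0_10640 i) (t0_10648 i) (Nat.ble (nat_lit 10648) i)) (Nat.ble (nat_lit 10640) i)) (Bool.rec (Bool.rec (t0_10656 i) (t0_10664 i) (Nat.ble (nat_lit 10664) i)) (Bool.rec (t0_10672 i) (t0_10680 i) (Nat.ble (nat_lit 10680) i)) (Nat.ble (nat_lit 10672) i)) (Nat.ble (nat_lit 10656) i))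
noncomputable def t1_1336 (i : ℕ) : ℕ := (Bool.rec (Bool.rec (Bool.rec (t0_10688 i) (t0_10696 i) (Nat.ble (nat_lit 10696) i)) (Bool.rec (t0_10704 i) (t0_10712 i) (Nat.ble (nat_lit 10712) i)) (Nat.ble (nat_lit 10704) i)) (Bool.rec (Bool.rec (t0_10720 i) (t0_10728 i) (Nat.ble (nat_lit 10728) i)) (Bool.rec (t0_10736 i) (t0_10744 i) (Nat.ble (nat_lit 10744) i)) (Nat.ble (nat_lit 10736) i)) (Nat.ble (nat_lit 10720) i))
noncomputable def t1_1344 (i : ℕ) : ℕ := (Bool.rec (Bool.rec (Bool.rec (t0_10752 i) (t0_10760 i) (Nat.ble (nat_lit 10760) i)) (Bool.rec (t0_10768 i) (t0_10776 i) (Nat.ble (nat_lit 10776) i)) (Nat.ble (nat_lit 10768) i)) (Bool.rec (Bool.rec (t0_10784 i) (t0_10792 i) (Nat.ble (nat_lit 10792) i)) (Bool.rec (t0_10800 i) (t0_10808 i) (Nat.ble (nat_lit 10808) i)) (Nat.ble (nat_lit 10800) i)) (Nat.ble (nat_lit 10784) i))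
noncomputable def t1_1352 (i : ℕ) : ℕ := (t0_10816 i)
noncomputable def t2_0 (i : ℕ) : ℕ := (Bool.rec (Bool.rec (Bool.rec (t1_0 i) (t1_8 i) (Nat.ble (nat_lit 64) i)) (Bool.rec (t1_16 i) (t1_24 i) (Nat.ble (nat_lit 192) i)) (Nat.ble (nat_lit 128) i)) (Bool.rec (Bool.rec (t1_32 i) (t1_40 i) (Nat.ble (nat_lit 320) i)) (Bool.rec (t1_48 i) (t1_56 i) (Nat.ble (nat_lit 448) i)) (Nat.ble (nat_lit 384) i)) (Nat.ble (nat_lit 256) i))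
noncomputable def t2_8 (i : ℕ) : ℕ := (Bool.rec (Bool.rec (Bool.rec (t1_64 i) (t1_72 i) (Nat.ble (nat_lit 576) i)) (Bool.rec (t1_80 i) (t1_88 i) (Nat.ble (nat_lit 704) i)) (Nat.ble (nat_lit 640) i)) (Bool.rec (Bool.rec (t1_96 i) (t1_104 i) (Nat.ble (nat_lit 832) i)) (Bool.rec (t1_112 i) (t1_120 i) (Nat.ble (nat_lit 960) i)) (Nat.ble (nat_lit 896) i)) (Nat.ble (nat_lit 768) i))
noncomputable def t2_16 (i : ℕ) : ℕ := (Bool.rec (Bool.rec (Bool.rec (t1_128 i) (t1_136 i) (Nat.ble (nat_lit 1088) i)) (Bool.rec (t1_144 i) (t1_152 i) (Nat.ble (nat_lit 1216) i)) (Nat.ble (nat_lit 1152) i)) (Bool.rec (Bool.rec (t1_160 i) (t1_168 i) (Nat.ble (nat_lit 1344) i)) (Bool.rec (t1_176 i) (t1_184 i) (Nat.ble (nat_lit 1472) i)) (Nat.ble (nat_lit 1408) i)) (Nat.ble (nat_lit 1280) i))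
noncomputable def t2_24 (i : ℕ) : ℕ := (Bool.rec (Bool.rec (Bool.rec (t1_192 i) (t1_200 i) (Nat.ble (nat_lit 1600) i)) (Bool.rec (t1_208 i) (t1_216 i) (Nat.ble (nat_lit 1728) i)) (Nat.ble (nat_lit 1664) i)) (Bool.rec (Bool.rec (t1_224 i) (t1_232 i) (Nat.ble (nat_lit 1856) i)) (Bool.rec (t1_240 i) (t1_248 i) (Nat.ble (nat_lit 1984) i)) (Nat.ble (nat_lit 1920) i)) (Nat.ble (nat_lit 1792) i))
noncomputable def t2_32 (i : ℕ) : ℕ := (Bool.rec (Bool.rec (Bool.rec (t1_256 i) (t1_264 i) (Nat.ble (nat_lit 2112) i)) (Bool.rec (t1_272 i) (t1_280 i) (Nat.ble (nat_lit 2240) i)) (Nat.ble (nat_lit 2176) i)) (Bool.rec (Bool.rec (t1_288 i) (t1_296 i) (Nat.ble (nat_lit 2368) i)) (Bool.rec (t1_304 i) (t1_312 i) (Nat.ble (nat_lit 2496) i)) (Nat.ble (nat_lit 2432) i)) (Nat.ble (nat_lit 2304) i))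
noncomputable def t2_40 (i : ℕ) : ℕ := (Bool.rec (Bool.rec (Bool.rec (t1_320 i) (t1_328 i) (Nat.ble (nat_lit 2624) i)) (Bool.rec (t1_336 i) (t1_344 i) (Nat.ble (nat_lit 2752) i)) (Nat.ble (nat_lit 2688) i)) (Bool.rec (Bool.rec (t1_352 i) (t1_360 i) (Nat.ble (nat_lit 2880) i)) (Bool.rec (t1_368 i) (t1_376 i) (Nat.ble (nat_lit 3008) i)) (Nat.ble (nat_lit 2944) i)) (Nat.ble (nat_lit 2816) i))
noncomputable def t2_48 (i : ℕ) : ℕ := (Bool.rec (Bool.rec (Bool.rec (t1_384 i) (t1_392 i) (Nat.ble (nat_lit 3136) i)) (Bool.rec (t1_400 i) (t1_408 i) (Nat.ble (nat_lit 3264) i)) (Nat.ble (nat_lit 3200) i)) (Bool.rec (Bool.rec (t1_416 i) (t1_424 i) (Nat.ble (nat_lit 3392) i)) (Bool.rec (t1_432 i) (t1_440 i) (Nat.ble (nat_lit 3520) i)) (Nat.ble (nat_lit 3456) i)) (Nat.ble (nat_lit 3328) i))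
noncomputable def t2_56 (i : ℕ) : ℕ := (Bool.rec (Bool.rec (Bool.rec (t1_448 i) (t1_456 i) (Nat.ble (nat_lit 3648) i)) (Bool.rec (t1_464 i) (t1_472 i) (Nat.ble (nat_lit 3776) i)) (Nat.ble (nat_lit 3712) i)) (Bool.rec (Bool.rec (t1_480 i) (t1_488 i) (Nat.ble (nat_lit 3904) i)) (Bool.rec (t1_496 i) (t1_504 i) (Nat.ble (nat_lit 4032) i)) (Nat.ble (nat_lit 3968) i)) (Nat.ble (nat_lit 3840) i))
noncomputable def t2_64 (i : ℕ) : ℕ := (Bool.rec (Bool.rec (Bool.rec (t1_512 i) (t1_520 i) (Nat.ble (nat_lit 4160) i)) (Bool.rec (t1_528 i) (t1_536 i) (Nat.ble (nat_lit 4288) i)) (Nat.ble (nat_lit 4224) i)) (Bool.rec (Bool.rec (t1_544 i) (t1_552 i) (Nat.ble (nat_lit 4416) i)) (Bool.rec (t1_560 i) (t1_568 i) (Nat.ble (nat_lit 4544) i)) (Nat.ble (nat_lit 4480) i)) (Nat.ble (nat_lit 4352) i))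
noncomputable def t2_72 (i : ℕ) : ℕ := (Bool.rec (Bool.rec (Bool.rec (t1_576 i) (t1_584 i) (Nat.ble (nat_lit 4672) i)) (Bool.rec (t1_592 i) (t1_600 i) (Nat.ble (nat_lit 4800) i)) (Nat.ble (nat_lit 4736) i)) (Bool.rec (Bool.rec (t1_608 i) (t1_616 i) (Nat.ble (nat_lit 4928) i)) (Bool.rec (t1_624 i) (t1_632 i) (Nat.ble (nat_lit 5056) i)) (Nat.ble (nat_lit 4992) i)) (Nat.ble (nat_lit 4864) i))
noncomputable def t2_80 (i : ℕ) : ℕ := (Bool.rec (Bool.rec (Bool.rec (t1_640 i) (t1_648 i) (Nat.ble (nat_lit 5184) i)) (Bool.rec (t1_656 i) (t1_664 i) (Nat.ble (nat_lit 5312) i)) (Nat.ble (nat_lit 5248) i)) (Bool.rec (Bool.rec (t1_672 i) (t1_680 i) (Nat.ble (nat_lit 5440) i)) (Bool.rec (t1_688 i) (t1_696 i) (Nat.ble (nat_lit 5568) i)) (Nat.ble (nat_lit 5504) i)) (Nat.ble (nat_lit 5376) i))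
noncomputable def t2_88 (i : ℕ) : ℕ := (Bool.rec (Bool.rec (Bool.rec (t1_704 i) (t1_712 i) (Nat.ble (nat_lit 5696) i)) (Bool.rec (t1_720 i) (t1_728 i) (Nat.ble (nat_lit 5824) i)) (Nat.ble (nat_lit 5760) i)) (Bool.rec (Bool.rec (t1_736 i) (t1_744 i) (Nat.ble (nat_lit 5952) i)) (Bool.rec (t1_752 i) (t1_760 i) (Nat.ble (nat_lit 6080) i)) (Nat.ble (nat_lit 6016) i)) (Nat.ble (nat_lit 5888) i))
noncomputable def t2_96 (i : ℕ) : ℕ := (Bool.rec (Bool.rec (Bool.rec (t1_768 i) (t1_776 i) (Nat.ble (nat_lit 6208) i)) (Bool.rec (t1_784 i) (t1_792 i) (Nat.ble (nat_lit 6336) i)) (Nat.ble (nat_lit 6272) i)) (Bool.rec (Bool.rec (t1_800 i) (t1_808 i) (Nat.ble (nat_lit 6464) i)) (Bool.rec (t1_816 i) (t1_824 i) (Nat.ble (nat_lit 6592) i)) (Nat.ble (nat_lit 6528) i)) (Nat.ble (nat_lit 6400) i))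
noncomputable def t2_104 (i : ℕ) : ℕ := (Bool.rec (Bool.rec (Bool.rec (t1_832 i) (t1_840 i) (Nat.ble (nat_lit 6720) i)) (Bool.rec (t1_848 i) (t1_856 i) (Nat.ble (nat_lit 6848) i)) (Nat.ble (nat_lit 6784) i)) (Bool.rec (Bool.rec (t1_864 i) (t1_872 i) (Nat.ble (nat_lit 6976) i)) (Bool.rec (t1_880 i) (t1_888 i) (Nat.ble (nat_lit 7104) i)) (Nat.ble (nat_lit 7040) i)) (Nat.ble (nat_lit 6912) i))
noncomputable def t2_112 (i : ℕ) : ℕ := (Bool.rec (Bool.rec (Bool.rec (t1_896 i) (t1_904 i) (Nat.ble (nat_lit 7232) i)) (Bool.rec (t1_912 i) (t1_920 i) (Nat.ble (nat_lit 7360) i)) (Nat.ble (nat_lit 7296) i)) (Bool.rec (Bool.rec (t1_928 i) (t1_936 i) (Nat.ble (nat_lit 7488) i)) (Bool.rec (t1_944 i) (t1_952 i) (Nat.ble (nat_lit 7616) i)) (Nat.ble (nat_lit 7552) i)) (Nat.ble (nat_lit 7424) i))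
noncomputable def t2_120 (i : ℕ) : ℕ := (Bool.rec (Bool.rec (Bool.rec (t1_960 i) (t1_968 i) (Nat.ble (nat_lit 7744) i)) (Bool.rec (t1_976 i) (t1_984 i) (Nat.ble (nat_lit 7872) i)) (Nat.ble (nat_lit 7808) i)) (Bool.rec (Bool.rec (t1_992 i) (t1_1000 i) (Nat.ble (nat_lit 8000) i)) (Bool.rec (t1_1008 i) (t1_1016 i) (Nat.ble (nat_lit 8128) i)) (Nat.ble (nat_lit 8064) i)) (Nat.ble (nat_lit 7936) i))
noncomputable def t2_128 (i : ℕ) : ℕ := (Bool.rec (Bool.rec (Bool.rec (t1_1024 i) (t1_1032 i) (Nat.ble (nat_lit 8256) i)) (Bool.rec (t1_1040 i) (t1_1048 i) (Nat.ble (nat_lit 8384) i)) (Nat.ble (nat_lit 8320) i)) (Bool.rec (Bool.rec (t1_1056 i) (t1_1064 i) (Nat.ble (nat_lit 8512) i)) (Bool.rec (t1_1072 i) (t1_1080 i) (Nat.ble (nat_lit 8640) i)) (Nat.ble (nat_lit 8576) i)) (Nat.ble (nat_lit 8448) i))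
noncomputable def t2_136 (i : ℕ) : ℕ := (Bool.rec (Bool.rec (Bool.rec (t1_1088 i) (t1_1096 i) (Nat.ble (nat_lit 8768) i)) (Bool.rec (t1_1104 i) (t1_1112 i) (Nat.ble (nat_lit 8896) i)) (Nat.ble (nat_lit 8832) i)) (Bool.rec (Bool.rec (t1_1120 i) (t1_1128 i) (Nat.ble (nat_lit 9024) i)) (Bool.rec (t1_1136 i) (t1_1144 i) (Nat.ble (nat_lit 9152) i)) (Nat.ble (nat_lit 9088) i)) (Nat.ble (nat_lit 8960) i))
noncomputable def t2_144 (i : ℕ) : ℕ := (Bool.rec (Bool.rec (Bool.rec (t1_1152 i) (t1_1160 i) (Nat.ble (nat_lit 9280) i)) (Bool.rec (t1_1168 i) (t1_1176 i) (Nat.ble (nat_lit 9408) i)) (Nat.ble (nat_lit 9344) i)) (Bool.rec (Bool.rec (t1_1184 i) (t1_1192 i) (Nat.ble (nat_lit 9536) i)) (Bool.rec (t1_1200 i) (t1_1208 i) (Nat.ble (nat_lit 9664) i)) (Nat.ble (nat_lit 9600) i)) (Nat.ble (nat_lit 9472) i))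
noncomputable def t2_152 (i : ℕ) : ℕ := (Bool.rec (Bool.rec (Bool.rec (t1_1216 i) (t1_1224 i) (Nat.ble (nat_lit 9792) i)) (Bool.rec (t1_1232 i) (t1_1240 i) (Nat.ble (nat_lit 9920) i)) (Nat.ble (nat_lit 9856) i)) (Bool.rec (Bool.rec (t1_1248 i) (t1_1256 i) (Nat.ble (nat_lit 10048) i)) (Bool.rec (t1_1264 i) (t1_1272 i) (Nat.ble (nat_lit 10176) i)) (Nat.ble (nat_lit 10112) i)) (Nat.ble (nat_lit 9984) i))
noncomputable def t2_160 (i : ℕ) : ℕ := (Bool.rec (Bool.rec (Bool.rec (t1_1280 i) (t1_1288 i) (Nat.ble (nat_lit 10304) i)) (Bool.rec (t1_1296 i) (t1_1304 i) (Nat.ble (nat_lit 10432) i)) (Nat.ble (nat_lit 10368) i)) (Bool.rec (Bool.rec (t1_1312 i) (t1_1320 i) (Nat.ble (nat_lit 10560) i)) (Bool.rec (t1_1328 i) (t1_1336 i) (Nat.ble (nat_lit 10688) i)) (Nat.ble (nat_lit 10624) i)) (Nat.ble (nat_lit 10496) i))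
noncomputable def t2_168 (i : ℕ) : ℕ := (Bool.rec (t1_1344 i) (t1_1352 i) (Nat.ble (nat_lit 10816) i))
noncomputable def t3_0 (i : ℕ) : ℕ := (Bool.rec (Bool.rec (Bool.rec (t2_0 i) (t2_8 i) (Nat.ble (nat_lit 512) i)) (Bool.rec (t2_16 i) (t2_24 i) (Nat.ble (nat_lit 1536) i)) (Nat.ble (nat_lit 1024) i)) (Bool.rec (Bool.rec (t2_32 i) (t2_40 i) (Nat.ble (nat_lit 2560) i)) (Bool.rec (t2_48 i) (t2_56 i) (Nat.ble (nat_lit 3584) i)) (Nat.ble (nat_lit 3072) i)) (Nat.ble (nat_lit 2048) i))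
noncomputable def t3_8 (i : ℕ) : ℕ := (Bool.rec (Bool.rec (Bool.rec (t2_64 i) (t2_72 i) (Nat.ble (nat_lit 4608) i)) (Bool.rec (t2_80 i) (t2_88 i) (Nat.ble (nat_lit 5632) i)) (Nat.ble (nat_lit 5120) i)) (Bool.rec (Bool.rec (t2_96 i) (t2_104 i) (Nat.ble (nat_lit 6656) i)) (Bool.rec (t2_112 i) (t2_120 i) (Nat.ble (nat_lit 7680) i)) (Nat.ble (nat_lit 7168) i)) (Nat.ble (nat_lit 6144) i))
noncomputable def t3_16 (i : ℕ) : ℕ := (Bool.rec (Bool.rec (t2_128 i) (Bool.rec (t2_136 i) (t2_144 i) (Nat.ble (nat_lit 9216) i)) (Nat.ble (nat_lit 8704) i)) (Bool.rec (t2_152 i) (Bool.rec (t2_160 i) (t2_168 i) (Nat.ble (nat_lit 10752) i)) (Nat.ble (nat_lit 10240) i)) (Nat.ble (nat_lit 9728) i))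
noncomputable def t4_0 (i : ℕ) : ℕ := (Bool.rec (t3_0 i) (Bool.rec (t3_8 i) (t3_16 i) (Nat.ble (nat_lit 8192) i)) (Nat.ble (nat_lit 4096) i))
noncomputable def blk (i : ℕ) : ℕ := (t4_0 i)
noncomputable def row (x : ℕ) : ℕ := frcN (Nat.shiftRight x (nat_lit 5)) fun b =>
  Nat.land (Nat.shiftRight (blk b) (Nat.mul (Nat.land x (nat_lit 31)) (nat_lit 420))) (nat_lit 0xfffffffffffffffffffffffffffffffffffffffffffffffffffffffffffffffffffffffffffffffffffffffffffffffffffffffff)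
noncomputable def lk (x l : ℕ) : ℕ :=
  Nat.land (Nat.shiftRight (row x) (Nat.mul l (nat_lit 28))) (nat_lit 268435455)
noncomputable def ap (x l : ℕ) : ℕ :=
  Nat.land (Nat.shiftRight (row x) (Nat.mul l (nat_lit 28))) (nat_lit 524287)
noncomputable def wt : Wt := (.node (nat_lit 103) (.node (nat_lit 51) (.node (nat_lit 25) (.node (nat_lit 12) (.node (nat_lit 6) (.node (nat_lit 3) (.node (nat_lit 1) (.leaf [nat_lit 1, nat_lit 10, nat_lit 1, nat_lit 10]) (.node (nat_lit 2) (.leaf [nat_lit 2, nat_lit 10, nat_lit 2, nat_lit 10]) (.leaf [nat_lit 3, nat_lit 10, nat_lit 3, nat_lit 10]))) (.node (nat_lit 4) (.leaf [nat_lit 4, nat_lit 10, nat_lit 4, nat_lit 10]) (.node (nat_lit 5) (.leaf [nat_lit 5, nat_lit 10, nat_lit 5, nat_lit 10]) (.leaf [nat_lit 6, nat_lit 10, nat_lit 6, nat_lit 10])))) (.node (nat_lit 9) (.node (nat_lit 7) (.leaf [nat_lit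 7, nat_lit 10, nat_lit 7, nat_lit 10]) (.node (nat_lit 8) (.leaf [nat_lit 8, nat_lit 10, nat_lit 8, nat_lit 10]) (.leaf [nat_lit 9, nat_lit 10, nat_lit 9, nat_lit 10]))) (.node (nat_lit 10) (.leaf [nat_lit 2, nat_lit 0, nat_lit 2, nat_lit 0]) (.node (nat_lit 11) (.leaf [nat_lit 3, nat_lit 0, nat_lit 3, nat_lit 0]) (.leaf [nat_lit 4, nat_lit 0, nat_lit 4, nat_lit 0]))))) (.node (nat_lit 18) (.node (nat_lit 15) (.node (nat_lit 13) (.leaf [nat_lit 5, nat_lit 0, nat_lit 5, nat_lit 0]) (.node (nat_lit 14) (.leaf [nat_lit 6, nat_lit 0, nat_lit 6, nat_lit 0]) (.leaf [nat_lit 7, nat_lit 0, nat_lit 7, nat_lit 0]))) (.node (nat_lit 16) (.leaf [nat_lit 8, nat_lit 0, nat_lit 8, nat_lit 0]) (.node (nat_lit 17) (.leaf [nat_lit 9, nat_lit 0, nat_lit 9, nat_lit 0]) (.leaf [nat_lit 10, nat_lit 0, nat_lit 10, nat_lit 0, nat_lit 10, nat_lit 0])))) (.node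 (nat_lit 21) (.node (nat_lit 19) (.leaf [nat_lit 1, nat_lit 11, nat_lit 1, nat_lit 11]) (.node (nat_lit 20) (.leaf [nat_lit 2, nat_lit 11, nat_lit 2, nat_lit 11]) (.leaf [nat_lit 3, nat_lit 11, nat_lit 3, nat_lit 11]))) (.node (nat_lit 23) (.node (nat_lit 22) (.leaf [nat_lit 4, nat_lit 11, nat_lit 4, nat_lit 11]) (.leaf [nat_lit 5, nat_lit 11, nat_lit 5, nat_lit 11])) (.node (nat_lit 24) (.leaf [nat_lit 6, nat_lit 11, nat_lit 6, nat_lit 11]) (.leaf [nat_lit 7, nat_lit 11, nat_lit 7, nat_lit 11])))))) (.node (nat_lit 38) (.node (nat_lit 31) (.node (nat_lit 28) (.node (nat_lit 26) (.leaf [nat_lit 8, nat_lit 11, nat_lit 8, nat_lit 11]) (.node (nat_lit 27) (.leaf [nat_lit 9, nat_lit 11, nat_lit 9, nat_lit 11]) (.leaf [nat_lit 10, nat_lit 11, nat_lit 10, nat_lit 11, nat_lit 10, nat_lit 11]))) (.node (nat_lit 29) (.leaf [nat_lit 3, nat_lit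 1, nat_lit 3, nat_lit 1]) (.node (nat_lit 30) (.leaf [nat_lit 4, nat_lit 1, nat_lit 4, nat_lit 1]) (.leaf [nat_lit 5, nat_lit 1, nat_lit 5, nat_lit 1])))) (.node (nat_lit 34) (.node (nat_lit 32) (.leaf [nat_lit 6, nat_lit 1, nat_lit 6, nat_lit 1]) (.node (nat_lit 33) (.leaf [nat_lit 7, nat_lit 1, nat_lit 7, nat_lit 1]) (.leaf [nat_lit 8, nat_lit 1, nat_lit 8, nat_lit 1]))) (.node (nat_lit 36) (.node (nat_lit 35) (.leaf [nat_lit 9, nat_lit 1, nat_lit 9, nat_lit 1]) (.leaf [nat_lit 10, nat_lit 1, nat_lit 10, nat_lit 1])) (.node (nat_lit 37) (.leaf [nat_lit 0, nat_lit 1, nat_lit 0, nat_lit 1, nat_lit 0, nat_lit 1]) (.leaf [nat_lit 0, nat_lit 11, nat_lit 0, nat_lit 11]))))) (.node (nat_lit 44) (.node (nat_lit 41) (.node (nat_lit 39) (.leaf [nat_lit 0, nat_lit 0]) (.node (nat_lit 40) (.leaf [nat_lit 0, nat_lit 2, nat_lit 0, nat_lit 2])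 (.leaf [nat_lit 4, nat_lit 2, nat_lit 4, nat_lit 2]))) (.node (nat_lit 42) (.leaf [nat_lit 5, nat_lit 2, nat_lit 5, nat_lit 2]) (.node (nat_lit 43) (.leaf [nat_lit 6, nat_lit 2, nat_lit 6, nat_lit 2]) (.leaf [nat_lit 7, nat_lit 2, nat_lit 7, nat_lit 2])))) (.node (nat_lit 47) (.node (nat_lit 45) (.leaf [nat_lit 8, nat_lit 2, nat_lit 8, nat_lit 2]) (.node (nat_lit 46) (.leaf [nat_lit 9, nat_lit 2, nat_lit 9, nat_lit 2]) (.leaf [nat_lit 10, nat_lit 2, nat_lit 10, nat_lit 2]))) (.node (nat_lit 49) (.node (nat_lit 48) (.leaf [nat_lit 1, nat_lit 2, nat_lit 1, nat_lit 2, nat_lit 1, nat_lit 2]) (.leaf [nat_lit 1, nat_lit 1])) (.node (nat_lit 50) (.leaf [nat_lit 0, nat_lit 10, nat_lit 0, nat_lit 10, nat_lit 0, nat_lit 10]) (.leaf [nat_lit 11, nat_lit 10, nat_lit 11, nat_lit 10, nat_lit 11, nat_lit 10]))))))) (.node (nat_lit 77) (.node (nat_lit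 64) (.node (nat_lit 57) (.node (nat_lit 54) (.node (nat_lit 52) (.leaf [nat_lit 0, nat_lit 3, nat_lit 0, nat_lit 3]) (.node (nat_lit 53) (.leaf [nat_lit 1, nat_lit 3, nat_lit 1, nat_lit 3]) (.leaf [nat_lit 5, nat_lit 3, nat_lit 5, nat_lit 3]))) (.node (nat_lit 55) (.leaf [nat_lit 6, nat_lit 3, nat_lit 6, nat_lit 3]) (.node (nat_lit 56) (.leaf [nat_lit 8, nat_lit 3, nat_lit 8, nat_lit 3]) (.leaf [nat_lit 9, nat_lit 3, nat_lit 9, nat_lit 3])))) (.node (nat_lit 60) (.node (nat_lit 58) (.leaf [nat_lit 10, nat_lit 3, nat_lit 10, nat_lit 3]) (.node (nat_lit 59) (.leaf [nat_lit 2, nat_lit 3, nat_lit 2, nat_lit 3, nat_lit 2, nat_lit 3]) (.leaf [nat_lit 2, nat_lit 2]))) (.node (nat_lit 62) (.node (nat_lit 61) (.leaf [nat_lit 0, nat_lit 4, nat_lit 0, nat_lit 4]) (.leaf [nat_lit 1, nat_lit 4, nat_lit 1, nat_lit 4])) (.node (nat_lit 63) (.leaf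 [nat_lit 2, nat_lit 4, nat_lit 2, nat_lit 4]) (.leaf [nat_lit 6, nat_lit 4, nat_lit 6, nat_lit 4]))))) (.node (nat_lit 70) (.node (nat_lit 67) (.node (nat_lit 65) (.leaf [nat_lit 8, nat_lit 4, nat_lit 8, nat_lit 4]) (.node (nat_lit 66) (.leaf [nat_lit 9, nat_lit 4, nat_lit 9, nat_lit 4]) (.leaf [nat_lit 10, nat_lit 4, nat_lit 10, nat_lit 4]))) (.node (nat_lit 68) (.leaf [nat_lit 3, nat_lit 4, nat_lit 3, nat_lit 4, nat_lit 3, nat_lit 4]) (.node (nat_lit 69) (.leaf [nat_lit 0, nat_lit 7, nat_lit 0, nat_lit 7]) (.leaf [nat_lit 1, nat_lit 7, nat_lit 1, nat_lit 7])))) (.node (nat_lit 73) (.node (nat_lit 71) (.leaf [nat_lit 2, nat_lit 7, nat_lit 2, nat_lit 7]) (.node (nat_lit 72) (.leaf [nat_lit 5, nat_lit 7, nat_lit 5, nat_lit 7]) (.leaf [nat_lit 6, nat_lit 7, nat_lit 6, nat_lit 7]))) (.node (nat_lit 75) (.node (nat_lit 74) (.leaf [nat_lit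 9, nat_lit 7, nat_lit 9, nat_lit 7]) (.leaf [nat_lit 10, nat_lit 7, nat_lit 10, nat_lit 7])) (.node (nat_lit 76) (.leaf [nat_lit 3, nat_lit 7, nat_lit 3, nat_lit 7, nat_lit 3, nat_lit 7]) (.leaf [nat_lit 3, nat_lit 3])))))) (.node (nat_lit 90) (.node (nat_lit 83) (.node (nat_lit 80) (.node (nat_lit 78) (.leaf [nat_lit 11, nat_lit 0, nat_lit 11, nat_lit 0]) (.node (nat_lit 79) (.leaf [nat_lit 1, nat_lit 0, nat_lit 1, nat_lit 0, nat_lit 1, nat_lit 0]) (.leaf [nat_lit 0, nat_lit 5, nat_lit 0, nat_lit 5]))) (.node (nat_lit 81) (.leaf [nat_lit 1, nat_lit 5, nat_lit 1, nat_lit 5]) (.node (nat_lit 82) (.leaf [nat_lit 2, nat_lit 5, nat_lit 2, nat_lit 5]) (.leaf [nat_lit 3, nat_lit 5, nat_lit 3, nat_lit 5])))) (.node (nat_lit 86) (.node (nat_lit 84) (.leaf [nat_lit 8, nat_lit 5, nat_lit 8, nat_lit 5]) (.node (nat_lit 85) (.leaf [nat_lit 9,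 nat_lit 5, nat_lit 9, nat_lit 5]) (.leaf [nat_lit 10, nat_lit 5, nat_lit 10, nat_lit 5]))) (.node (nat_lit 88) (.node (nat_lit 87) (.leaf [nat_lit 4, nat_lit 5, nat_lit 4, nat_lit 5, nat_lit 4, nat_lit 5]) (.leaf [nat_lit 4, nat_lit 7, nat_lit 4, nat_lit 7])) (.node (nat_lit 89) (.leaf [nat_lit 4, nat_lit 4]) (.leaf [nat_lit 0, nat_lit 8, nat_lit 0, nat_lit 8]))))) (.node (nat_lit 96) (.node (nat_lit 93) (.node (nat_lit 91) (.leaf [nat_lit 1, nat_lit 8, nat_lit 1, nat_lit 8]) (.node (nat_lit 92) (.leaf [nat_lit 2, nat_lit 8, nat_lit 2, nat_lit 8]) (.leaf [nat_lit 3, nat_lit 8, nat_lit 3, nat_lit 8]))) (.node (nat_lit 94) (.leaf [nat_lit 5, nat_lit 8, nat_lit 5, nat_lit 8]) (.node (nat_lit 95) (.leaf [nat_lit 6, nat_lit 8, nat_lit 6, nat_lit 8]) (.leaf [nat_lit 9, nat_lit 8, nat_lit 9, nat_lit 8])))) (.node (nat_lit 99) (.node (nat_lit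 97) (.leaf [nat_lit 10, nat_lit 8, nat_lit 10, nat_lit 8]) (.node (nat_lit 98) (.leaf [nat_lit 7, nat_lit 8, nat_lit 7, nat_lit 8, nat_lit 7, nat_lit 8]) (.leaf [nat_lit 7, nat_lit 7]))) (.node (nat_lit 101) (.node (nat_lit 100) (.leaf [nat_lit 0, nat_lit 6, nat_lit 0, nat_lit 6]) (.leaf [nat_lit 1, nat_lit 6, nat_lit 1, nat_lit 6])) (.node (nat_lit 102) (.leaf [nat_lit 2, nat_lit 6, nat_lit 2, nat_lit 6]) (.leaf [nat_lit 3, nat_lit 6, nat_lit 3, nat_lit 6])))))))) (.node (nat_lit 155) (.node (nat_lit 129) (.node (nat_lit 116) (.node (nat_lit 109) (.node (nat_lit 106) (.node (nat_lit 104) (.leaf [nat_lit 4, nat_lit 6, nat_lit 4, nat_lit 6]) (.node (nat_lit 105) (.leaf [nat_lit 8, nat_lit 6, nat_lit 8, nat_lit 6]) (.leaf [nat_lit 10, nat_lit 6, nat_lit 10, nat_lit 6]))) (.node (nat_lit 107) (.leaf [nat_lit 5, nat_lit 6, nat_lit 5, nat_lit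 6, nat_lit 5, nat_lit 6]) (.node (nat_lit 108) (.leaf [nat_lit 5, nat_lit 5]) (.leaf [nat_lit 4, nat_lit 3, nat_lit 4, nat_lit 3, nat_lit 4, nat_lit 3])))) (.node (nat_lit 112) (.node (nat_lit 110) (.leaf [nat_lit 7, nat_lit 3, nat_lit 7, nat_lit 3, nat_lit 7, nat_lit 3]) (.node (nat_lit 111) (.leaf [nat_lit 4, nat_lit 8, nat_lit 4, nat_lit 8]) (.leaf [nat_lit 8, nat_lit 8]))) (.node (nat_lit 114) (.node (nat_lit 113) (.leaf [nat_lit 11, nat_lit 1, nat_lit 11, nat_lit 1]) (.leaf [nat_lit 2, nat_lit 1, nat_lit 2, nat_lit 1, nat_lit 2, nat_lit 1])) (.node (nat_lit 115) (.leaf [nat_lit 6, nat_lit 6]) (.leaf [nat_lit 0, nat_lit 9, nat_lit 0, nat_lit 9]))))) (.node (nat_lit 122) (.node (nat_lit 119) (.node (nat_lit 117) (.leaf [nat_lit 1, nat_lit 9, nat_lit 1, nat_lit 9]) (.node (nat_lit 118) (.leaf [nat_lit 2, nat_lit 9, nat_lit 2, nat_lit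 9]) (.leaf [nat_lit 3, nat_lit 9, nat_lit 3, nat_lit 9]))) (.node (nat_lit 120) (.leaf [nat_lit 4, nat_lit 9, nat_lit 4, nat_lit 9]) (.node (nat_lit 121) (.leaf [nat_lit 5, nat_lit 9, nat_lit 5, nat_lit 9]) (.leaf [nat_lit 8, nat_lit 9, nat_lit 8, nat_lit 9])))) (.node (nat_lit 125) (.node (nat_lit 123) (.leaf [nat_lit 10, nat_lit 9, nat_lit 10, nat_lit 9]) (.node (nat_lit 124) (.leaf [nat_lit 6, nat_lit 9, nat_lit 6, nat_lit 9, nat_lit 6, nat_lit 9]) (.leaf [nat_lit 3, nat_lit 2, nat_lit 3, nat_lit 2, nat_lit 3, nat_lit 2]))) (.node (nat_lit 127) (.node (nat_lit 126) (.leaf [nat_lit 7, nat_lit 9, nat_lit 7, nat_lit 9]) (.leaf [nat_lit 9, nat_lit 9])) (.node (nat_lit 128) (.leaf [nat_lit 7, nat_lit 4, nat_lit 7, nat_lit 4]) (.leaf [nat_lit 5, nat_lit 4, nat_lit 5, nat_lit 4, nat_lit 5, nat_lit 4])))))) (.node (nat_lit 142) (.node (nat_lit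 135) (.node (nat_lit 132) (.node (nat_lit 130) (.leaf [nat_lit 8, nat_lit 7, nat_lit 8, nat_lit 7, nat_lit 8, nat_lit 7]) (.node (nat_lit 131) (.leaf [nat_lit 11, nat_lit 2, nat_lit 11, nat_lit 2]) (.leaf [nat_lit 7, nat_lit 5, nat_lit 7, nat_lit 5]))) (.node (nat_lit 133) (.leaf [nat_lit 6, nat_lit 5, nat_lit 6, nat_lit 5, nat_lit 6, nat_lit 5]) (.node (nat_lit 134) (.leaf [nat_lit 11, nat_lit 3, nat_lit 11, nat_lit 3]) (.leaf [nat_lit 7, nat_lit 6, nat_lit 7, nat_lit 6])))) (.node (nat_lit 138) (.node (nat_lit 136) (.leaf [nat_lit 9, nat_lit 6, nat_lit 9, nat_lit 6, nat_lit 9, nat_lit 6]) (.node (nat_lit 137) (.leaf [nat_lit 11, nat_lit 4, nat_lit 11, nat_lit 4]) (.leaf [nat_lit 11, nat_lit 7, nat_lit 11, nat_lit 7]))) (.node (nat_lit 140) (.node (nat_lit 139) (.leaf [nat_lit 1, nat_lit 0, nat_lit 7, nat_lit 5, nat_lit 4, nat_lit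 3, nat_lit 2, nat_lit 1, nat_lit 0, nat_lit 7, nat_lit 5, nat_lit 4, nat_lit 3, nat_lit 2, nat_lit 1, nat_lit 0, nat_lit 7, nat_lit 5, nat_lit 4, nat_lit 3, nat_lit 2, nat_lit 1, nat_lit 0, nat_lit 7, nat_lit 5, nat_lit 4, nat_lit 3, nat_lit 2, nat_lit 1, nat_lit 0, nat_lit 7, nat_lit 5, nat_lit 4, nat_lit 3, nat_lit 2, nat_lit 1, nat_lit 0, nat_lit 7, nat_lit 5, nat_lit 4, nat_lit 3, nat_lit 2, nat_lit 1, nat_lit 0, nat_lit 7, nat_lit 5, nat_lit 4, nat_lit 3, nat_lit 2, nat_lit 1, nat_lit 0, nat_lit 7, nat_lit 5, nat_lit 4, nat_lit 3, nat_lit 2, nat_lit 1, nat_lit 0, nat_lit 11, nat_lit 7, nat_lit 5, nat_lit 4, nat_lit 3, nat_lit 2]) (.leaf [nat_lit 11, nat_lit 11])) (.node (nat_lit 141) (.leaf [nat_lit 11, nat_lit 7, nat_lit 5, nat_lit 4, nat_lit 3, nat_lit 2, nat_lit 1, nat_lit 0, nat_lit 7, nat_lit 5, nat_lit 4, nat_lit 3, nat_lit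 2, nat_lit 1, nat_lit 0, nat_lit 7, nat_lit 5, nat_lit 4, nat_lit 3, nat_lit 2, nat_lit 1, nat_lit 0, nat_lit 7, nat_lit 5, nat_lit 4, nat_lit 3, nat_lit 2, nat_lit 1, nat_lit 0, nat_lit 7, nat_lit 5, nat_lit 4, nat_lit 3, nat_lit 2, nat_lit 1, nat_lit 0, nat_lit 7, nat_lit 5, nat_lit 4, nat_lit 3, nat_lit 2, nat_lit 1, nat_lit 0, nat_lit 7, nat_lit 5, nat_lit 4, nat_lit 3, nat_lit 2, nat_lit 1, nat_lit 0, nat_lit 7, nat_lit 5, nat_lit 4, nat_lit 3, nat_lit 2, nat_lit 1, nat_lit 0, nat_lit 7, nat_lit 5, nat_lit 4, nat_lit 3, nat_lit 2, nat_lit 1, nat_lit 0]) (.leaf [nat_lit 10, nat_lit 10]))))) (.node (nat_lit 148) (.node (nat_lit 145) (.node (nat_lit 143) (.leaf [nat_lit 11, nat_lit 6, nat_lit 11, nat_lit 6]) (.node (nat_lit 144) (.leaf [nat_lit 11, nat_lit 8, nat_lit 11, nat_lit 8]) (.leaf [nat_lit 11, nat_lit 5, nat_lit 11, nat_lit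 5]))) (.node (nat_lit 146) (.leaf [nat_lit 11, nat_lit 9, nat_lit 11, nat_lit 9]) (.node (nat_lit 147) (.leaf [nat_lit 7, nat_lit 5, nat_lit 4, nat_lit 3, nat_lit 2, nat_lit 1, nat_lit 0, nat_lit 7, nat_lit 5, nat_lit 4, nat_lit 3, nat_lit 2, nat_lit 1, nat_lit 0, nat_lit 7, nat_lit 5, nat_lit 4, nat_lit 3, nat_lit 2, nat_lit 1, nat_lit 0, nat_lit 7, nat_lit 5, nat_lit 4, nat_lit 3, nat_lit 2, nat_lit 1, nat_lit 0, nat_lit 7, nat_lit 5, nat_lit 4, nat_lit 3, nat_lit 2, nat_lit 1, nat_lit 0, nat_lit 7, nat_lit 5, nat_lit 4, nat_lit 3, nat_lit 2, nat_lit 1, nat_lit 0, nat_lit 7, nat_lit 5, nat_lit 4, nat_lit 3, nat_lit 2, nat_lit 1, nat_lit 0, nat_lit 7, nat_lit 5, nat_lit 4, nat_lit 3, nat_lit 2, nat_lit 1, nat_lit 0, nat_lit 11, nat_lit 7, nat_lit 5, nat_lit 4, nat_lit 3, nat_lit 2, nat_lit 1, nat_lit 0]) (.leaf [nat_lit 5, nat_lit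 4, nat_lit 3, nat_lit 2, nat_lit 1, nat_lit 0, nat_lit 7, nat_lit 5, nat_lit 4, nat_lit 3, nat_lit 2, nat_lit 1, nat_lit 0, nat_lit 7, nat_lit 5, nat_lit 4, nat_lit 3, nat_lit 2, nat_lit 1, nat_lit 0, nat_lit 7, nat_lit 5, nat_lit 4, nat_lit 3, nat_lit 2, nat_lit 1, nat_lit 0, nat_lit 7, nat_lit 5, nat_lit 4, nat_lit 3, nat_lit 2, nat_lit 1, nat_lit 0, nat_lit 7, nat_lit 5, nat_lit 4, nat_lit 3, nat_lit 2, nat_lit 1, nat_lit 0, nat_lit 11, nat_lit 7, nat_lit 5, nat_lit 4, nat_lit 3, nat_lit 2, nat_lit 1, nat_lit 0, nat_lit 7, nat_lit 5, nat_lit 4, nat_lit 3, nat_lit 2, nat_lit 1, nat_lit 0, nat_lit 7, nat_lit 5, nat_lit 4, nat_lit 3, nat_lit 2, nat_lit 1, nat_lit 0, nat_lit 7])))) (.node (nat_lit 151) (.node (nat_lit 149) (.leaf [nat_lit 2, nat_lit 1, nat_lit 0, nat_lit 7, nat_lit 5, nat_lit 4, nat_lit 3, nat_lit 2, nat_lit 1, nat_lit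 0, nat_lit 7, nat_lit 5, nat_lit 4, nat_lit 3, nat_lit 2, nat_lit 1, nat_lit 0, nat_lit 7, nat_lit 5, nat_lit 4, nat_lit 3, nat_lit 2, nat_lit 1, nat_lit 0, nat_lit 7, nat_lit 5, nat_lit 4, nat_lit 3, nat_lit 2, nat_lit 1, nat_lit 0, nat_lit 7, nat_lit 5, nat_lit 4, nat_lit 3, nat_lit 2, nat_lit 1, nat_lit 0, nat_lit 7, nat_lit 5, nat_lit 4, nat_lit 3, nat_lit 2, nat_lit 1, nat_lit 0, nat_lit 7, nat_lit 5, nat_lit 4, nat_lit 3, nat_lit 2, nat_lit 1, nat_lit 0, nat_lit 7, nat_lit 5, nat_lit 4, nat_lit 3, nat_lit 2, nat_lit 1, nat_lit 0, nat_lit 11, nat_lit 7, nat_lit 5, nat_lit 4, nat_lit 3]) (.node (nat_lit 150) (.leaf [nat_lit 3, nat_lit 2, nat_lit 1, nat_lit 0, nat_lit 7, nat_lit 5, nat_lit 4, nat_lit 3, nat_lit 2, nat_lit 1, nat_lit 0, nat_lit 7, nat_lit 5, nat_lit 4, nat_lit 3, nat_lit 2, nat_lit 1, nat_lit 0, nat_lit 7, nat_lit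 5, nat_lit 4, nat_lit 3, nat_lit 2, nat_lit 1, nat_lit 0, nat_lit 7, nat_lit 5, nat_lit 4, nat_lit 3, nat_lit 2, nat_lit 1, nat_lit 0, nat_lit 7, nat_lit 5, nat_lit 4, nat_lit 3, nat_lit 2, nat_lit 1, nat_lit 0, nat_lit 7, nat_lit 5, nat_lit 4, nat_lit 3, nat_lit 2, nat_lit 1, nat_lit 0, nat_lit 7, nat_lit 5, nat_lit 4, nat_lit 3, nat_lit 2, nat_lit 1, nat_lit 0, nat_lit 7, nat_lit 5, nat_lit 4, nat_lit 3, nat_lit 2, nat_lit 1, nat_lit 0, nat_lit 11, nat_lit 7, nat_lit 5, nat_lit 4]) (.leaf [nat_lit 0, nat_lit 11, nat_lit 7, nat_lit 5, nat_lit 4, nat_lit 3, nat_lit 2, nat_lit 1, nat_lit 0, nat_lit 7, nat_lit 5, nat_lit 4, nat_lit 3, nat_lit 2, nat_lit 1, nat_lit 0, nat_lit 7, nat_lit 5, nat_lit 4, nat_lit 3, nat_lit 2, nat_lit 1, nat_lit 0, nat_lit 7, nat_lit 5, nat_lit 4, nat_lit 3, nat_lit 2, nat_lit 1, nat_lit 0, nat_lit 7, nat_lit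 5, nat_lit 4, nat_lit 3, nat_lit 2, nat_lit 1, nat_lit 0, nat_lit 7, nat_lit 5, nat_lit 4, nat_lit 3, nat_lit 2, nat_lit 1, nat_lit 0, nat_lit 7, nat_lit 5, nat_lit 4, nat_lit 3, nat_lit 2, nat_lit 1, nat_lit 0, nat_lit 7, nat_lit 5, nat_lit 4, nat_lit 3, nat_lit 2, nat_lit 1, nat_lit 0, nat_lit 7, nat_lit 5, nat_lit 4, nat_lit 3, nat_lit 2, nat_lit 1]))) (.node (nat_lit 153) (.node (nat_lit 152) (.leaf [nat_lit 2, nat_lit 3, nat_lit 4, nat_lit 5, nat_lit 7, nat_lit 0, nat_lit 1, nat_lit 2, nat_lit 3, nat_lit 4, nat_lit 5, nat_lit 7, nat_lit 0, nat_lit 1, nat_lit 2, nat_lit 3, nat_lit 4, nat_lit 5, nat_lit 7, nat_lit 0, nat_lit 1, nat_lit 2, nat_lit 3, nat_lit 4, nat_lit 5, nat_lit 7, nat_lit 0, nat_lit 1, nat_lit 2, nat_lit 3, nat_lit 4, nat_lit 5, nat_lit 7, nat_lit 0, nat_lit 1, nat_lit 2, nat_lit 3, nat_lit 4, nat_lit 5, nat_lit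 7, nat_lit 0, nat_lit 1, nat_lit 2, nat_lit 3, nat_lit 4, nat_lit 5, nat_lit 7, nat_lit 0, nat_lit 1, nat_lit 2, nat_lit 3, nat_lit 4, nat_lit 5, nat_lit 7, nat_lit 0, nat_lit 1, nat_lit 2, nat_lit 3, nat_lit 4, nat_lit 5, nat_lit 7, nat_lit 11, nat_lit 0, nat_lit 1]) (.leaf [nat_lit 11, nat_lit 0, nat_lit 1, nat_lit 2, nat_lit 3, nat_lit 4, nat_lit 5, nat_lit 7, nat_lit 0, nat_lit 1, nat_lit 2, nat_lit 3, nat_lit 4, nat_lit 5, nat_lit 7, nat_lit 0, nat_lit 1, nat_lit 2, nat_lit 3, nat_lit 4, nat_lit 5, nat_lit 7, nat_lit 0, nat_lit 1, nat_lit 2, nat_lit 3, nat_lit 4, nat_lit 5, nat_lit 7, nat_lit 0, nat_lit 1, nat_lit 2, nat_lit 3, nat_lit 4, nat_lit 5, nat_lit 7, nat_lit 0, nat_lit 1, nat_lit 2, nat_lit 3, nat_lit 4, nat_lit 5, nat_lit 7, nat_lit 0, nat_lit 1, nat_lit 2, nat_lit 3, nat_lit 4, nat_lit 5, nat_lit 7, nat_lit 0, nat_lit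 1, nat_lit 2, nat_lit 3, nat_lit 4, nat_lit 5, nat_lit 7, nat_lit 0, nat_lit 1, nat_lit 2, nat_lit 3, nat_lit 4, nat_lit 5, nat_lit 7])) (.node (nat_lit 154) (.leaf [nat_lit 5, nat_lit 7, nat_lit 0, nat_lit 1, nat_lit 2, nat_lit 3, nat_lit 4, nat_lit 5, nat_lit 7, nat_lit 0, nat_lit 1, nat_lit 2, nat_lit 3, nat_lit 4, nat_lit 5, nat_lit 7, nat_lit 0, nat_lit 1, nat_lit 2, nat_lit 3, nat_lit 4, nat_lit 5, nat_lit 7, nat_lit 0, nat_lit 1, nat_lit 2, nat_lit 3, nat_lit 4, nat_lit 5, nat_lit 7, nat_lit 0, nat_lit 1, nat_lit 2, nat_lit 3, nat_lit 4, nat_lit 5, nat_lit 7, nat_lit 0, nat_lit 1, nat_lit 2, nat_lit 3, nat_lit 4, nat_lit 5, nat_lit 7, nat_lit 0, nat_lit 1, nat_lit 2, nat_lit 3, nat_lit 4, nat_lit 5, nat_lit 7, nat_lit 0, nat_lit 1, nat_lit 2, nat_lit 3, nat_lit 4, nat_lit 5, nat_lit 7, nat_lit 11, nat_lit 0, nat_lit 1, nat_lit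 2, nat_lit 3, nat_lit 4]) (.leaf [nat_lit 4, nat_lit 3, nat_lit 2, nat_lit 1, nat_lit 0, nat_lit 11, nat_lit 7, nat_lit 5, nat_lit 4, nat_lit 3, nat_lit 2, nat_lit 1, nat_lit 0, nat_lit 7, nat_lit 5, nat_lit 4, nat_lit 3, nat_lit 2, nat_lit 1, nat_lit 0, nat_lit 7, nat_lit 5, nat_lit 4, nat_lit 3, nat_lit 2, nat_lit 1, nat_lit 0, nat_lit 7, nat_lit 5, nat_lit 4, nat_lit 3, nat_lit 2, nat_lit 1, nat_lit 0, nat_lit 7, nat_lit 5, nat_lit 4, nat_lit 3, nat_lit 2, nat_lit 1, nat_lit 0, nat_lit 7, nat_lit 5, nat_lit 4, nat_lit 3, nat_lit 2, nat_lit 1, nat_lit 0, nat_lit 7, nat_lit 5, nat_lit 4, nat_lit 3, nat_lit 2, nat_lit 1, nat_lit 0, nat_lit 7, nat_lit 5, nat_lit 4, nat_lit 3, nat_lit 2, nat_lit 1, nat_lit 0, nat_lit 7, nat_lit 5]))))))) (.node (nat_lit 181) (.node (nat_lit 168) (.node (nat_lit 161) (.node (nat_lit 158) (.node (nat_lit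 156) (.leaf [nat_lit 3, nat_lit 4, nat_lit 5, nat_lit 7, nat_lit 0, nat_lit 1, nat_lit 2, nat_lit 3, nat_lit 4, nat_lit 5, nat_lit 7, nat_lit 0, nat_lit 1, nat_lit 2, nat_lit 3, nat_lit 4, nat_lit 5, nat_lit 7, nat_lit 0, nat_lit 1, nat_lit 2, nat_lit 3, nat_lit 4, nat_lit 5, nat_lit 7, nat_lit 0, nat_lit 1, nat_lit 2, nat_lit 3, nat_lit 4, nat_lit 5, nat_lit 7, nat_lit 0, nat_lit 1, nat_lit 2, nat_lit 3, nat_lit 4, nat_lit 5, nat_lit 7, nat_lit 0, nat_lit 1, nat_lit 2, nat_lit 3, nat_lit 4, nat_lit 5, nat_lit 7, nat_lit 0, nat_lit 1, nat_lit 2, nat_lit 3, nat_lit 4, nat_lit 5, nat_lit 7, nat_lit 0, nat_lit 1, nat_lit 2, nat_lit 3, nat_lit 4, nat_lit 5, nat_lit 7, nat_lit 11, nat_lit 0, nat_lit 1, nat_lit 2]) (.node (nat_lit 157) (.leaf [nat_lit 3, nat_lit 4, nat_lit 5, nat_lit 7, nat_lit 11, nat_lit 0, nat_lit 1, nat_lit 2, nat_lit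 3, nat_lit 4, nat_lit 5, nat_lit 7, nat_lit 0, nat_lit 1, nat_lit 2, nat_lit 3, nat_lit 4, nat_lit 5, nat_lit 7, nat_lit 0, nat_lit 1, nat_lit 2, nat_lit 3, nat_lit 4, nat_lit 5, nat_lit 7, nat_lit 0, nat_lit 1, nat_lit 2, nat_lit 3, nat_lit 4, nat_lit 5, nat_lit 7, nat_lit 0, nat_lit 1, nat_lit 2, nat_lit 3, nat_lit 4, nat_lit 5, nat_lit 7, nat_lit 0, nat_lit 1, nat_lit 2, nat_lit 3, nat_lit 4, nat_lit 5, nat_lit 7, nat_lit 0, nat_lit 1, nat_lit 2, nat_lit 3, nat_lit 4, nat_lit 5, nat_lit 7, nat_lit 0, nat_lit 1, nat_lit 2, nat_lit 3, nat_lit 4, nat_lit 5, nat_lit 7, nat_lit 0, nat_lit 1, nat_lit 2]) (.leaf [nat_lit 4, nat_lit 5, nat_lit 7, nat_lit 11, nat_lit 0, nat_lit 1, nat_lit 2, nat_lit 3, nat_lit 4, nat_lit 5, nat_lit 7, nat_lit 0, nat_lit 1, nat_lit 2, nat_lit 3, nat_lit 4, nat_lit 5, nat_lit 7, nat_lit 0, nat_lit 1, nat_lit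 2, nat_lit 3, nat_lit 4, nat_lit 5, nat_lit 7, nat_lit 0, nat_lit 1, nat_lit 2, nat_lit 3, nat_lit 4, nat_lit 5, nat_lit 7, nat_lit 0, nat_lit 1, nat_lit 2, nat_lit 3, nat_lit 4, nat_lit 5, nat_lit 7, nat_lit 0, nat_lit 1, nat_lit 2, nat_lit 3, nat_lit 4, nat_lit 5, nat_lit 7, nat_lit 0, nat_lit 1, nat_lit 2, nat_lit 3, nat_lit 4, nat_lit 5, nat_lit 7, nat_lit 0, nat_lit 1, nat_lit 2, nat_lit 3, nat_lit 4, nat_lit 5, nat_lit 7, nat_lit 0, nat_lit 1, nat_lit 2, nat_lit 3]))) (.node (nat_lit 159) (.leaf [nat_lit 1, nat_lit 2, nat_lit 3, nat_lit 4, nat_lit 5, nat_lit 7, nat_lit 0, nat_lit 1, nat_lit 2, nat_lit 3, nat_lit 4, nat_lit 5, nat_lit 7, nat_lit 0, nat_lit 1, nat_lit 2, nat_lit 3, nat_lit 4, nat_lit 5, nat_lit 7, nat_lit 0, nat_lit 1, nat_lit 2, nat_lit 3, nat_lit 4, nat_lit 5, nat_lit 7, nat_lit 0, nat_lit 1, nat_lit 2, nat_lit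 3, nat_lit 4, nat_lit 5, nat_lit 7, nat_lit 0, nat_lit 1, nat_lit 2, nat_lit 3, nat_lit 4, nat_lit 5, nat_lit 7, nat_lit 0, nat_lit 1, nat_lit 2, nat_lit 3, nat_lit 4, nat_lit 5, nat_lit 7, nat_lit 0, nat_lit 1, nat_lit 2, nat_lit 3, nat_lit 4, nat_lit 5, nat_lit 7, nat_lit 0, nat_lit 1, nat_lit 2, nat_lit 3, nat_lit 4, nat_lit 5, nat_lit 7, nat_lit 11, nat_lit 0]) (.node (nat_lit 160) (.leaf [nat_lit 1, nat_lit 2, nat_lit 3, nat_lit 4, nat_lit 5, nat_lit 7, nat_lit 0, nat_lit 1, nat_lit 2, nat_lit 3, nat_lit 4, nat_lit 5, nat_lit 7, nat_lit 0, nat_lit 1, nat_lit 2, nat_lit 3, nat_lit 4, nat_lit 5, nat_lit 7, nat_lit 0, nat_lit 1, nat_lit 2, nat_lit 3, nat_lit 4, nat_lit 5, nat_lit 7, nat_lit 11, nat_lit 0, nat_lit 1, nat_lit 2, nat_lit 3, nat_lit 4, nat_lit 5, nat_lit 7, nat_lit 0, nat_lit 1, nat_lit 2, nat_lit 3, nat_lit 4, nat_lit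 5, nat_lit 7, nat_lit 0, nat_lit 1, nat_lit 2, nat_lit 3, nat_lit 4, nat_lit 5, nat_lit 7, nat_lit 0, nat_lit 1, nat_lit 2, nat_lit 3, nat_lit 4, nat_lit 5, nat_lit 7, nat_lit 0, nat_lit 1, nat_lit 2, nat_lit 3, nat_lit 4, nat_lit 5, nat_lit 7, nat_lit 0]) (.leaf [nat_lit 7, nat_lit 5, nat_lit 4, nat_lit 3, nat_lit 2, nat_lit 1, nat_lit 0, nat_lit 11, nat_lit 7, nat_lit 5, nat_lit 4, nat_lit 3, nat_lit 2, nat_lit 1, nat_lit 0, nat_lit 7, nat_lit 5, nat_lit 4, nat_lit 3, nat_lit 2, nat_lit 1, nat_lit 0, nat_lit 7, nat_lit 5, nat_lit 4, nat_lit 3, nat_lit 2, nat_lit 1, nat_lit 0, nat_lit 7, nat_lit 5, nat_lit 4, nat_lit 3, nat_lit 2, nat_lit 1, nat_lit 0, nat_lit 7, nat_lit 5, nat_lit 4, nat_lit 3, nat_lit 2, nat_lit 1, nat_lit 0, nat_lit 7, nat_lit 5, nat_lit 4, nat_lit 3, nat_lit 2, nat_lit 1, nat_lit 0, nat_lit 7, nat_lit 5, nat_lit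 4, nat_lit 3, nat_lit 2, nat_lit 1, nat_lit 0, nat_lit 7, nat_lit 5, nat_lit 4, nat_lit 3, nat_lit 2, nat_lit 1, nat_lit 0])))) (.node (nat_lit 164) (.node (nat_lit 162) (.leaf [nat_lit 4, nat_lit 3, nat_lit 2, nat_lit 1, nat_lit 0, nat_lit 7, nat_lit 5, nat_lit 4, nat_lit 3, nat_lit 2, nat_lit 1, nat_lit 0, nat_lit 7, nat_lit 5, nat_lit 4, nat_lit 3, nat_lit 2, nat_lit 1, nat_lit 0, nat_lit 7, nat_lit 5, nat_lit 4, nat_lit 3, nat_lit 2, nat_lit 1, nat_lit 0, nat_lit 7, nat_lit 5, nat_lit 4, nat_lit 3, nat_lit 2, nat_lit 1, nat_lit 0, nat_lit 7, nat_lit 5, nat_lit 4, nat_lit 3, nat_lit 2, nat_lit 1, nat_lit 0, nat_lit 7, nat_lit 5, nat_lit 4, nat_lit 3, nat_lit 2, nat_lit 1, nat_lit 0, nat_lit 7, nat_lit 5, nat_lit 4, nat_lit 3, nat_lit 2, nat_lit 1, nat_lit 0, nat_lit 7, nat_lit 5, nat_lit 4, nat_lit 3, nat_lit 2, nat_lit 1, nat_lit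 0, nat_lit 11, nat_lit 7, nat_lit 5]) (.node (nat_lit 163) (.leaf [nat_lit 5, nat_lit 4, nat_lit 3, nat_lit 2, nat_lit 1, nat_lit 0, nat_lit 7, nat_lit 5, nat_lit 4, nat_lit 3, nat_lit 2, nat_lit 1, nat_lit 0, nat_lit 7, nat_lit 5, nat_lit 4, nat_lit 3, nat_lit 2, nat_lit 1, nat_lit 0, nat_lit 7, nat_lit 5, nat_lit 4, nat_lit 3, nat_lit 2, nat_lit 1, nat_lit 0, nat_lit 7, nat_lit 5, nat_lit 4, nat_lit 3, nat_lit 2, nat_lit 1, nat_lit 0, nat_lit 7, nat_lit 5, nat_lit 4, nat_lit 3, nat_lit 2, nat_lit 1, nat_lit 0, nat_lit 7, nat_lit 5, nat_lit 4, nat_lit 3, nat_lit 2, nat_lit 1, nat_lit 0, nat_lit 7, nat_lit 5, nat_lit 4, nat_lit 3, nat_lit 2, nat_lit 1, nat_lit 0, nat_lit 11, nat_lit 7, nat_lit 5, nat_lit 4, nat_lit 3, nat_lit 2, nat_lit 1, nat_lit 0, nat_lit 7]) (.leaf [nat_lit 4, nat_lit 5, nat_lit 7, nat_lit 0, nat_lit 1, nat_lit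 2, nat_lit 3, nat_lit 4, nat_lit 5, nat_lit 7, nat_lit 0, nat_lit 1, nat_lit 2, nat_lit 3, nat_lit 4, nat_lit 5, nat_lit 7, nat_lit 0, nat_lit 1, nat_lit 2, nat_lit 3, nat_lit 4, nat_lit 5, nat_lit 7, nat_lit 0, nat_lit 1, nat_lit 2, nat_lit 3, nat_lit 4, nat_lit 5, nat_lit 7, nat_lit 0, nat_lit 1, nat_lit 2, nat_lit 3, nat_lit 4, nat_lit 5, nat_lit 7, nat_lit 0, nat_lit 1, nat_lit 2, nat_lit 3, nat_lit 4, nat_lit 5, nat_lit 7, nat_lit 0, nat_lit 1, nat_lit 2, nat_lit 3, nat_lit 4, nat_lit 5, nat_lit 7, nat_lit 0, nat_lit 1, nat_lit 2, nat_lit 3, nat_lit 4, nat_lit 5, nat_lit 7, nat_lit 11, nat_lit 0, nat_lit 1, nat_lit 2, nat_lit 3]))) (.node (nat_lit 166) (.node (nat_lit 165) (.leaf [nat_lit 7, nat_lit 5, nat_lit 4, nat_lit 3, nat_lit 2, nat_lit 1, nat_lit 0, nat_lit 7, nat_lit 5, nat_lit 4, nat_lit 3, nat_lit 2, nat_lit 1, nat_lit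 0, nat_lit 7, nat_lit 5, nat_lit 4, nat_lit 3, nat_lit 2, nat_lit 1, nat_lit 0, nat_lit 7, nat_lit 5, nat_lit 4, nat_lit 3, nat_lit 2, nat_lit 1, nat_lit 0, nat_lit 7, nat_lit 5, nat_lit 4, nat_lit 3, nat_lit 2, nat_lit 1, nat_lit 0, nat_lit 7, nat_lit 5, nat_lit 4, nat_lit 3, nat_lit 2, nat_lit 1, nat_lit 0, nat_lit 7, nat_lit 5, nat_lit 4, nat_lit 3, nat_lit 2, nat_lit 1, nat_lit 0, nat_lit 7, nat_lit 5, nat_lit 4, nat_lit 3, nat_lit 2, nat_lit 1, nat_lit 0, nat_lit 7, nat_lit 5, nat_lit 4, nat_lit 3, nat_lit 2, nat_lit 1, nat_lit 0, nat_lit 11]) (.leaf [nat_lit 1, nat_lit 2, nat_lit 3, nat_lit 4, nat_lit 5, nat_lit 7, nat_lit 0, nat_lit 1, nat_lit 2, nat_lit 3, nat_lit 4, nat_lit 5, nat_lit 7, nat_lit 0, nat_lit 1, nat_lit 2, nat_lit 3, nat_lit 4, nat_lit 5, nat_lit 7, nat_lit 0, nat_lit 1, nat_lit 2, nat_lit 3, nat_lit 4, nat_lit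 5, nat_lit 7, nat_lit 0, nat_lit 1, nat_lit 2, nat_lit 3, nat_lit 4, nat_lit 5, nat_lit 7, nat_lit 0, nat_lit 1, nat_lit 2, nat_lit 3, nat_lit 4, nat_lit 5, nat_lit 7, nat_lit 0, nat_lit 1, nat_lit 2, nat_lit 3, nat_lit 4, nat_lit 5, nat_lit 7, nat_lit 11, nat_lit 0, nat_lit 1, nat_lit 2, nat_lit 3, nat_lit 4, nat_lit 5, nat_lit 7, nat_lit 0, nat_lit 1, nat_lit 2, nat_lit 3, nat_lit 4, nat_lit 5, nat_lit 7, nat_lit 0])) (.node (nat_lit 167) (.leaf [nat_lit 2, nat_lit 1, nat_lit 0, nat_lit 7, nat_lit 5, nat_lit 4, nat_lit 3, nat_lit 2, nat_lit 1, nat_lit 0, nat_lit 7, nat_lit 5, nat_lit 4, nat_lit 3, nat_lit 2, nat_lit 1, nat_lit 0, nat_lit 11, nat_lit 7, nat_lit 5, nat_lit 4, nat_lit 3, nat_lit 2, nat_lit 1, nat_lit 0, nat_lit 7, nat_lit 5, nat_lit 4, nat_lit 3, nat_lit 2, nat_lit 1, nat_lit 0, nat_lit 7, nat_lit 5, nat_lit 4, nat_lit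 3, nat_lit 2, nat_lit 1, nat_lit 0, nat_lit 7, nat_lit 5, nat_lit 4, nat_lit 3, nat_lit 2, nat_lit 1, nat_lit 0, nat_lit 7, nat_lit 5, nat_lit 4, nat_lit 3, nat_lit 2, nat_lit 1, nat_lit 0, nat_lit 7, nat_lit 5, nat_lit 4, nat_lit 3, nat_lit 2, nat_lit 1, nat_lit 0, nat_lit 7, nat_lit 5, nat_lit 4, nat_lit 3]) (.leaf [nat_lit 0, nat_lit 1, nat_lit 2, nat_lit 3, nat_lit 4, nat_lit 5, nat_lit 7, nat_lit 0, nat_lit 1, nat_lit 2, nat_lit 3, nat_lit 4, nat_lit 5, nat_lit 7, nat_lit 0, nat_lit 1, nat_lit 2, nat_lit 3, nat_lit 4, nat_lit 5, nat_lit 7, nat_lit 0, nat_lit 1, nat_lit 2, nat_lit 3, nat_lit 4, nat_lit 5, nat_lit 7, nat_lit 0, nat_lit 1, nat_lit 2, nat_lit 3, nat_lit 4, nat_lit 5, nat_lit 7, nat_lit 0, nat_lit 1, nat_lit 2, nat_lit 3, nat_lit 4, nat_lit 5, nat_lit 7, nat_lit 0, nat_lit 1, nat_lit 2, nat_lit 3, nat_lit 4, nat_lit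 5, nat_lit 7, nat_lit 0, nat_lit 1, nat_lit 2, nat_lit 3, nat_lit 4, nat_lit 5, nat_lit 7, nat_lit 11, nat_lit 0, nat_lit 1, nat_lit 2, nat_lit 3, nat_lit 4, nat_lit 5, nat_lit 7]))))) (.node (nat_lit 174) (.node (nat_lit 171) (.node (nat_lit 169) (.leaf [nat_lit 5, nat_lit 4, nat_lit 3, nat_lit 2, nat_lit 1, nat_lit 0, nat_lit 7, nat_lit 5, nat_lit 4, nat_lit 3, nat_lit 2, nat_lit 1, nat_lit 0, nat_lit 7, nat_lit 5, nat_lit 4, nat_lit 3, nat_lit 2, nat_lit 1, nat_lit 0, nat_lit 7, nat_lit 5, nat_lit 4, nat_lit 3, nat_lit 2, nat_lit 1, nat_lit 0, nat_lit 7, nat_lit 5, nat_lit 4, nat_lit 3, nat_lit 2, nat_lit 1, nat_lit 0, nat_lit 11, nat_lit 7, nat_lit 5, nat_lit 4, nat_lit 3, nat_lit 2, nat_lit 1, nat_lit 0, nat_lit 7, nat_lit 5, nat_lit 4, nat_lit 3, nat_lit 2, nat_lit 1, nat_lit 0, nat_lit 7, nat_lit 5, nat_lit 4, nat_lit 3, nat_lit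 2, nat_lit 1, nat_lit 0, nat_lit 7, nat_lit 5, nat_lit 4, nat_lit 3, nat_lit 2, nat_lit 1, nat_lit 0, nat_lit 7]) (.node (nat_lit 170) (.leaf [nat_lit 4, nat_lit 5, nat_lit 7, nat_lit 0, nat_lit 1, nat_lit 2, nat_lit 3, nat_lit 4, nat_lit 5, nat_lit 7, nat_lit 0, nat_lit 1, nat_lit 2, nat_lit 3, nat_lit 4, nat_lit 5, nat_lit 7, nat_lit 0, nat_lit 1, nat_lit 2, nat_lit 3, nat_lit 4, nat_lit 5, nat_lit 7, nat_lit 0, nat_lit 1, nat_lit 2, nat_lit 3, nat_lit 4, nat_lit 5, nat_lit 7, nat_lit 11, nat_lit 0, nat_lit 1, nat_lit 2, nat_lit 3, nat_lit 4, nat_lit 5, nat_lit 7, nat_lit 0, nat_lit 1, nat_lit 2, nat_lit 3, nat_lit 4, nat_lit 5, nat_lit 7, nat_lit 0, nat_lit 1, nat_lit 2, nat_lit 3, nat_lit 4, nat_lit 5, nat_lit 7, nat_lit 0, nat_lit 1, nat_lit 2, nat_lit 3, nat_lit 4, nat_lit 5, nat_lit 7, nat_lit 0, nat_lit 1, nat_lit 2, nat_lit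 3]) (.leaf [nat_lit 0, nat_lit 1, nat_lit 2, nat_lit 3, nat_lit 4, nat_lit 5, nat_lit 7, nat_lit 0, nat_lit 1, nat_lit 2, nat_lit 3, nat_lit 4, nat_lit 5, nat_lit 7, nat_lit 0, nat_lit 1, nat_lit 2, nat_lit 3, nat_lit 4, nat_lit 5, nat_lit 7, nat_lit 0, nat_lit 1, nat_lit 2, nat_lit 3, nat_lit 4, nat_lit 5, nat_lit 7, nat_lit 0, nat_lit 1, nat_lit 2, nat_lit 3, nat_lit 4, nat_lit 5, nat_lit 7, nat_lit 0, nat_lit 1, nat_lit 2, nat_lit 3, nat_lit 4, nat_lit 5, nat_lit 7, nat_lit 0, nat_lit 1, nat_lit 2, nat_lit 3, nat_lit 4, nat_lit 5, nat_lit 7, nat_lit 0, nat_lit 1, nat_lit 2, nat_lit 3, nat_lit 4, nat_lit 5, nat_lit 7, nat_lit 0, nat_lit 1, nat_lit 2, nat_lit 3, nat_lit 4, nat_lit 5, nat_lit 7, nat_lit 11]))) (.node (nat_lit 172) (.leaf [nat_lit 4, nat_lit 5, nat_lit 7, nat_lit 0, nat_lit 1, nat_lit 2, nat_lit 3, nat_lit 4, nat_lit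 5, nat_lit 7, nat_lit 0, nat_lit 1, nat_lit 2, nat_lit 3, nat_lit 4, nat_lit 5, nat_lit 7, nat_lit 0, nat_lit 1, nat_lit 2, nat_lit 3, nat_lit 4, nat_lit 5, nat_lit 7, nat_lit 0, nat_lit 1, nat_lit 2, nat_lit 3, nat_lit 4, nat_lit 5, nat_lit 7, nat_lit 0, nat_lit 1, nat_lit 2, nat_lit 3, nat_lit 4, nat_lit 5, nat_lit 7, nat_lit 0, nat_lit 1, nat_lit 2, nat_lit 3, nat_lit 4, nat_lit 5, nat_lit 7, nat_lit 0, nat_lit 1, nat_lit 2, nat_lit 3, nat_lit 4, nat_lit 5, nat_lit 7, nat_lit 11, nat_lit 0, nat_lit 1, nat_lit 2, nat_lit 3, nat_lit 4, nat_lit 5, nat_lit 7, nat_lit 0, nat_lit 1, nat_lit 2, nat_lit 3]) (.node (nat_lit 173) (.leaf [nat_lit 3, nat_lit 2, nat_lit 1, nat_lit 0, nat_lit 11, nat_lit 7, nat_lit 5, nat_lit 4, nat_lit 3, nat_lit 2, nat_lit 1, nat_lit 0, nat_lit 7, nat_lit 5, nat_lit 4, nat_lit 3, nat_lit 2, nat_lit 1, nat_lit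 0, nat_lit 7, nat_lit 5, nat_lit 4, nat_lit 3, nat_lit 2, nat_lit 1, nat_lit 0, nat_lit 7, nat_lit 5, nat_lit 4, nat_lit 3, nat_lit 2, nat_lit 1, nat_lit 0, nat_lit 7, nat_lit 5, nat_lit 4, nat_lit 3, nat_lit 2, nat_lit 1, nat_lit 0, nat_lit 7, nat_lit 5, nat_lit 4, nat_lit 3, nat_lit 2, nat_lit 1, nat_lit 0, nat_lit 7, nat_lit 5, nat_lit 4, nat_lit 3, nat_lit 2, nat_lit 1, nat_lit 0, nat_lit 7, nat_lit 5, nat_lit 4, nat_lit 3, nat_lit 2, nat_lit 1, nat_lit 0, nat_lit 7, nat_lit 5, nat_lit 4]) (.leaf [nat_lit 0, nat_lit 7, nat_lit 5, nat_lit 4, nat_lit 3, nat_lit 2, nat_lit 1, nat_lit 0, nat_lit 7, nat_lit 5, nat_lit 4, nat_lit 3, nat_lit 2, nat_lit 1, nat_lit 0, nat_lit 7, nat_lit 5, nat_lit 4, nat_lit 3, nat_lit 2, nat_lit 1, nat_lit 0, nat_lit 7, nat_lit 5, nat_lit 4, nat_lit 3, nat_lit 2, nat_lit 1, nat_lit 0, nat_lit 7, nat_lit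 5, nat_lit 4, nat_lit 3, nat_lit 2, nat_lit 1, nat_lit 0, nat_lit 7, nat_lit 5, nat_lit 4, nat_lit 3, nat_lit 2, nat_lit 1, nat_lit 0, nat_lit 7, nat_lit 5, nat_lit 4, nat_lit 3, nat_lit 2, nat_lit 1, nat_lit 0, nat_lit 7, nat_lit 5, nat_lit 4, nat_lit 3, nat_lit 2, nat_lit 1, nat_lit 0, nat_lit 11, nat_lit 7, nat_lit 5, nat_lit 4, nat_lit 3, nat_lit 2, nat_lit 1])))) (.node (nat_lit 177) (.node (nat_lit 175) (.leaf [nat_lit 1, nat_lit 2, nat_lit 3, nat_lit 4, nat_lit 5, nat_lit 7, nat_lit 0, nat_lit 1, nat_lit 2, nat_lit 3, nat_lit 4, nat_lit 5, nat_lit 7, nat_lit 0, nat_lit 1, nat_lit 2, nat_lit 3, nat_lit 4, nat_lit 5, nat_lit 7, nat_lit 0, nat_lit 1, nat_lit 2, nat_lit 3, nat_lit 4, nat_lit 5, nat_lit 7, nat_lit 0, nat_lit 1, nat_lit 2, nat_lit 3, nat_lit 4, nat_lit 5, nat_lit 7, nat_lit 11, nat_lit 0, nat_lit 1, nat_lit 2, nat_lit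 3, nat_lit 4, nat_lit 5, nat_lit 7, nat_lit 0, nat_lit 1, nat_lit 2, nat_lit 3, nat_lit 4, nat_lit 5, nat_lit 7, nat_lit 0, nat_lit 1, nat_lit 2, nat_lit 3, nat_lit 4, nat_lit 5, nat_lit 7, nat_lit 0, nat_lit 1, nat_lit 2, nat_lit 3, nat_lit 4, nat_lit 5, nat_lit 7, nat_lit 0]) (.node (nat_lit 176) (.leaf [nat_lit 0, nat_lit 7, nat_lit 5, nat_lit 4, nat_lit 3, nat_lit 2, nat_lit 1, nat_lit 0, nat_lit 7, nat_lit 5, nat_lit 4, nat_lit 3, nat_lit 2, nat_lit 1, nat_lit 0, nat_lit 7, nat_lit 5, nat_lit 4, nat_lit 3, nat_lit 2, nat_lit 1, nat_lit 0, nat_lit 7, nat_lit 5, nat_lit 4, nat_lit 3, nat_lit 2, nat_lit 1, nat_lit 0, nat_lit 7, nat_lit 5, nat_lit 4, nat_lit 3, nat_lit 2, nat_lit 1, nat_lit 0, nat_lit 7, nat_lit 5, nat_lit 4, nat_lit 3, nat_lit 2, nat_lit 1, nat_lit 0, nat_lit 7, nat_lit 5, nat_lit 4, nat_lit 3, nat_lit 2, nat_lit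 1, nat_lit 0, nat_lit 11, nat_lit 7, nat_lit 5, nat_lit 4, nat_lit 3, nat_lit 2, nat_lit 1, nat_lit 0, nat_lit 7, nat_lit 5, nat_lit 4, nat_lit 3, nat_lit 2, nat_lit 1]) (.leaf [nat_lit 7, nat_lit 0, nat_lit 1, nat_lit 2, nat_lit 3, nat_lit 4, nat_lit 5, nat_lit 7, nat_lit 0, nat_lit 1, nat_lit 2, nat_lit 3, nat_lit 4, nat_lit 5, nat_lit 7, nat_lit 0, nat_lit 1, nat_lit 2, nat_lit 3, nat_lit 4, nat_lit 5, nat_lit 7, nat_lit 0, nat_lit 1, nat_lit 2, nat_lit 3, nat_lit 4, nat_lit 5, nat_lit 7, nat_lit 0, nat_lit 1, nat_lit 2, nat_lit 3, nat_lit 4, nat_lit 5, nat_lit 7, nat_lit 0, nat_lit 1, nat_lit 2, nat_lit 3, nat_lit 4, nat_lit 5, nat_lit 7, nat_lit 0, nat_lit 1, nat_lit 2, nat_lit 3, nat_lit 4, nat_lit 5, nat_lit 7, nat_lit 0, nat_lit 1, nat_lit 2, nat_lit 3, nat_lit 4, nat_lit 5, nat_lit 7, nat_lit 11, nat_lit 0, nat_lit 1, nat_lit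 2, nat_lit 3, nat_lit 4, nat_lit 5]))) (.node (nat_lit 179) (.node (nat_lit 178) (.leaf [nat_lit 1, nat_lit 0, nat_lit 7, nat_lit 5, nat_lit 4, nat_lit 3, nat_lit 2, nat_lit 1, nat_lit 0, nat_lit 7, nat_lit 5, nat_lit 4, nat_lit 3, nat_lit 2, nat_lit 1, nat_lit 0, nat_lit 7, nat_lit 5, nat_lit 4, nat_lit 3, nat_lit 2, nat_lit 1, nat_lit 0, nat_lit 11, nat_lit 7, nat_lit 5, nat_lit 4, nat_lit 3, nat_lit 2, nat_lit 1, nat_lit 0, nat_lit 7, nat_lit 5, nat_lit 4, nat_lit 3, nat_lit 2, nat_lit 1, nat_lit 0, nat_lit 7, nat_lit 5, nat_lit 4, nat_lit 3, nat_lit 2, nat_lit 1, nat_lit 0, nat_lit 7, nat_lit 5, nat_lit 4, nat_lit 3, nat_lit 2, nat_lit 1, nat_lit 0, nat_lit 7, nat_lit 5, nat_lit 4, nat_lit 3, nat_lit 2, nat_lit 1, nat_lit 0, nat_lit 7, nat_lit 5, nat_lit 4, nat_lit 3, nat_lit 2]) (.leaf [nat_lit 1, nat_lit 2, nat_lit 3, nat_lit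 4, nat_lit 5, nat_lit 7, nat_lit 0, nat_lit 1, nat_lit 2, nat_lit 3, nat_lit 4, nat_lit 5, nat_lit 7, nat_lit 0, nat_lit 1, nat_lit 2, nat_lit 3, nat_lit 4, nat_lit 5, nat_lit 7, nat_lit 0, nat_lit 1, nat_lit 2, nat_lit 3, nat_lit 4, nat_lit 5, nat_lit 7, nat_lit 0, nat_lit 1, nat_lit 2, nat_lit 3, nat_lit 4, nat_lit 5, nat_lit 7, nat_lit 0, nat_lit 1, nat_lit 2, nat_lit 3, nat_lit 4, nat_lit 5, nat_lit 7, nat_lit 0, nat_lit 1, nat_lit 2, nat_lit 3, nat_lit 4, nat_lit 5, nat_lit 7, nat_lit 0, nat_lit 1, nat_lit 2, nat_lit 3, nat_lit 4, nat_lit 5, nat_lit 7, nat_lit 11, nat_lit 0, nat_lit 1, nat_lit 2, nat_lit 3, nat_lit 4, nat_lit 5, nat_lit 7, nat_lit 0])) (.node (nat_lit 180) (.leaf [nat_lit 2, nat_lit 1, nat_lit 0, nat_lit 10, nat_lit 11, nat_lit 3, nat_lit 4, nat_lit 5, nat_lit 6, nat_lit 9, nat_lit 3, nat_lit 7, nat_lit 8, nat_lit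 3, nat_lit 2, nat_lit 1, nat_lit 0, nat_lit 10, nat_lit 11, nat_lit 3, nat_lit 4, nat_lit 5, nat_lit 6, nat_lit 9, nat_lit 3, nat_lit 7, nat_lit 8, nat_lit 3, nat_lit 2, nat_lit 1, nat_lit 0, nat_lit 10, nat_lit 11, nat_lit 3, nat_lit 4, nat_lit 5, nat_lit 6, nat_lit 9, nat_lit 3, nat_lit 7, nat_lit 8, nat_lit 3, nat_lit 2, nat_lit 1, nat_lit 0, nat_lit 10, nat_lit 11, nat_lit 3, nat_lit 4, nat_lit 5, nat_lit 6, nat_lit 9, nat_lit 3, nat_lit 7, nat_lit 8, nat_lit 3, nat_lit 2, nat_lit 1, nat_lit 0, nat_lit 10, nat_lit 11, nat_lit 3, nat_lit 4, nat_lit 5, nat_lit 6, nat_lit 9, nat_lit 3, nat_lit 7, nat_lit 8, nat_lit 3, nat_lit 2, nat_lit 1, nat_lit 0, nat_lit 10, nat_lit 11, nat_lit 3, nat_lit 4, nat_lit 5, nat_lit 6, nat_lit 9, nat_lit 3, nat_lit 7, nat_lit 8, nat_lit 3, nat_lit 2, nat_lit 1, nat_lit 0, nat_lit 10, nat_lit 11, nat_lit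 3, nat_lit 4, nat_lit 5, nat_lit 6, nat_lit 9, nat_lit 3, nat_lit 7, nat_lit 8, nat_lit 3, nat_lit 2, nat_lit 1, nat_lit 0, nat_lit 10, nat_lit 11, nat_lit 3, nat_lit 4, nat_lit 5, nat_lit 6, nat_lit 9, nat_lit 3, nat_lit 7, nat_lit 8, nat_lit 3, nat_lit 2, nat_lit 1, nat_lit 0, nat_lit 10, nat_lit 11, nat_lit 3, nat_lit 4, nat_lit 5, nat_lit 6, nat_lit 9, nat_lit 3, nat_lit 7, nat_lit 8, nat_lit 3, nat_lit 2, nat_lit 1, nat_lit 0, nat_lit 10, nat_lit 11, nat_lit 3, nat_lit 4, nat_lit 5, nat_lit 6, nat_lit 9, nat_lit 3, nat_lit 7, nat_lit 8, nat_lit 3, nat_lit 2, nat_lit 1, nat_lit 0, nat_lit 10, nat_lit 11, nat_lit 3, nat_lit 4, nat_lit 5, nat_lit 6, nat_lit 9, nat_lit 3, nat_lit 7, nat_lit 8, nat_lit 3, nat_lit 2, nat_lit 1, nat_lit 0, nat_lit 10, nat_lit 11, nat_lit 3, nat_lit 4, nat_lit 5, nat_lit 6, nat_lit 9, nat_lit 3, nat_lit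 7, nat_lit 8, nat_lit 3, nat_lit 2, nat_lit 1, nat_lit 0, nat_lit 10, nat_lit 11, nat_lit 3, nat_lit 4, nat_lit 5, nat_lit 6, nat_lit 9, nat_lit 3, nat_lit 7, nat_lit 8, nat_lit 3, nat_lit 2, nat_lit 1, nat_lit 0, nat_lit 10, nat_lit 11, nat_lit 3, nat_lit 4, nat_lit 5, nat_lit 6, nat_lit 9, nat_lit 3, nat_lit 7, nat_lit 8, nat_lit 3, nat_lit 2, nat_lit 1, nat_lit 0, nat_lit 10, nat_lit 11, nat_lit 3, nat_lit 4, nat_lit 5, nat_lit 6, nat_lit 9, nat_lit 3, nat_lit 7, nat_lit 8, nat_lit 3, nat_lit 2, nat_lit 1, nat_lit 0, nat_lit 10, nat_lit 11, nat_lit 3, nat_lit 4, nat_lit 5, nat_lit 6, nat_lit 9, nat_lit 3, nat_lit 7, nat_lit 8, nat_lit 3, nat_lit 2, nat_lit 1, nat_lit 0, nat_lit 10, nat_lit 11, nat_lit 3, nat_lit 4, nat_lit 5, nat_lit 6, nat_lit 9, nat_lit 3, nat_lit 7, nat_lit 8, nat_lit 3]) (.leaf [nat_lit 1, nat_lit 2, nat_lit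 3, nat_lit 4, nat_lit 5, nat_lit 7, nat_lit 0, nat_lit 1, nat_lit 2, nat_lit 3, nat_lit 4, nat_lit 5, nat_lit 7, nat_lit 0, nat_lit 1, nat_lit 2, nat_lit 3, nat_lit 4, nat_lit 5, nat_lit 7, nat_lit 0, nat_lit 1, nat_lit 2, nat_lit 3, nat_lit 4, nat_lit 5, nat_lit 7, nat_lit 0, nat_lit 1, nat_lit 2, nat_lit 3, nat_lit 4, nat_lit 5, nat_lit 7, nat_lit 0, nat_lit 1, nat_lit 2, nat_lit 3, nat_lit 4, nat_lit 5, nat_lit 7, nat_lit 11, nat_lit 0, nat_lit 1, nat_lit 2, nat_lit 3, nat_lit 4, nat_lit 5, nat_lit 7, nat_lit 0, nat_lit 1, nat_lit 2, nat_lit 3, nat_lit 4, nat_lit 5, nat_lit 7, nat_lit 0, nat_lit 1, nat_lit 2, nat_lit 3, nat_lit 4, nat_lit 5, nat_lit 7, nat_lit 0])))))) (.node (nat_lit 194) (.node (nat_lit 187) (.node (nat_lit 184) (.node (nat_lit 182) (.leaf [nat_lit 5, nat_lit 7, nat_lit 11, nat_lit 0, nat_lit 1, nat_lit 2, nat_lit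 3, nat_lit 4, nat_lit 5, nat_lit 7, nat_lit 0, nat_lit 1, nat_lit 2, nat_lit 3, nat_lit 4, nat_lit 5, nat_lit 7, nat_lit 0, nat_lit 1, nat_lit 2, nat_lit 3, nat_lit 4, nat_lit 5, nat_lit 7, nat_lit 0, nat_lit 1, nat_lit 2, nat_lit 3, nat_lit 4, nat_lit 5, nat_lit 7, nat_lit 0, nat_lit 1, nat_lit 2, nat_lit 3, nat_lit 4, nat_lit 5, nat_lit 7, nat_lit 0, nat_lit 1, nat_lit 2, nat_lit 3, nat_lit 4, nat_lit 5, nat_lit 7, nat_lit 0, nat_lit 1, nat_lit 2, nat_lit 3, nat_lit 4, nat_lit 5, nat_lit 7, nat_lit 0, nat_lit 1, nat_lit 2, nat_lit 3, nat_lit 4, nat_lit 5, nat_lit 7, nat_lit 0, nat_lit 1, nat_lit 2, nat_lit 3, nat_lit 4]) (.node (nat_lit 183) (.leaf [nat_lit 7, nat_lit 11, nat_lit 0, nat_lit 1, nat_lit 2, nat_lit 3, nat_lit 4, nat_lit 5, nat_lit 7, nat_lit 0, nat_lit 1, nat_lit 2, nat_lit 3, nat_lit 4, nat_lit 5, nat_lit 7, nat_lit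 0, nat_lit 1, nat_lit 2, nat_lit 3, nat_lit 4, nat_lit 5, nat_lit 7, nat_lit 0, nat_lit 1, nat_lit 2, nat_lit 3, nat_lit 4, nat_lit 5, nat_lit 7, nat_lit 0, nat_lit 1, nat_lit 2, nat_lit 3, nat_lit 4, nat_lit 5, nat_lit 7, nat_lit 0, nat_lit 1, nat_lit 2, nat_lit 3, nat_lit 4, nat_lit 5, nat_lit 7, nat_lit 0, nat_lit 1, nat_lit 2, nat_lit 3, nat_lit 4, nat_lit 5, nat_lit 7, nat_lit 0, nat_lit 1, nat_lit 2, nat_lit 3, nat_lit 4, nat_lit 5, nat_lit 7, nat_lit 0, nat_lit 1, nat_lit 2, nat_lit 3, nat_lit 4, nat_lit 5]) (.leaf [nat_lit 11, nat_lit 3, nat_lit 4, nat_lit 5, nat_lit 6, nat_lit 9, nat_lit 3, nat_lit 7, nat_lit 8, nat_lit 3, nat_lit 2, nat_lit 1, nat_lit 0, nat_lit 10, nat_lit 11, nat_lit 3, nat_lit 4, nat_lit 5, nat_lit 6, nat_lit 9, nat_lit 3, nat_lit 7, nat_lit 8, nat_lit 3, nat_lit 2, nat_lit 1, nat_lit 0, nat_lit 10, nat_lit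 11, nat_lit 3, nat_lit 4, nat_lit 5, nat_lit 6, nat_lit 9, nat_lit 3, nat_lit 7, nat_lit 8, nat_lit 3, nat_lit 2, nat_lit 1, nat_lit 0, nat_lit 10, nat_lit 11, nat_lit 3, nat_lit 4, nat_lit 5, nat_lit 6, nat_lit 9, nat_lit 3, nat_lit 7, nat_lit 8, nat_lit 3, nat_lit 2, nat_lit 1, nat_lit 0, nat_lit 10, nat_lit 11, nat_lit 3, nat_lit 4, nat_lit 5, nat_lit 6, nat_lit 9, nat_lit 3, nat_lit 7, nat_lit 8, nat_lit 3, nat_lit 2, nat_lit 1, nat_lit 0, nat_lit 10, nat_lit 11, nat_lit 3, nat_lit 4, nat_lit 5, nat_lit 6, nat_lit 9, nat_lit 3, nat_lit 7, nat_lit 8, nat_lit 3, nat_lit 2, nat_lit 1, nat_lit 0, nat_lit 10, nat_lit 11, nat_lit 3, nat_lit 4, nat_lit 5, nat_lit 6, nat_lit 9, nat_lit 3, nat_lit 7, nat_lit 8, nat_lit 3, nat_lit 2, nat_lit 1, nat_lit 0, nat_lit 10, nat_lit 11, nat_lit 3, nat_lit 4, nat_lit 5, nat_lit 6, nat_lit 9, nat_lit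 3, nat_lit 7, nat_lit 8, nat_lit 3, nat_lit 2, nat_lit 1, nat_lit 0, nat_lit 10, nat_lit 11, nat_lit 3, nat_lit 4, nat_lit 5, nat_lit 6, nat_lit 9, nat_lit 3, nat_lit 7, nat_lit 8, nat_lit 3, nat_lit 2, nat_lit 1, nat_lit 0, nat_lit 10, nat_lit 11, nat_lit 3, nat_lit 4, nat_lit 5, nat_lit 6, nat_lit 9, nat_lit 3, nat_lit 7, nat_lit 8, nat_lit 3, nat_lit 2, nat_lit 1, nat_lit 0, nat_lit 10, nat_lit 11, nat_lit 3, nat_lit 4, nat_lit 5, nat_lit 6, nat_lit 9, nat_lit 3, nat_lit 7, nat_lit 8, nat_lit 3, nat_lit 2, nat_lit 1, nat_lit 0, nat_lit 10, nat_lit 11, nat_lit 3, nat_lit 4, nat_lit 5, nat_lit 6, nat_lit 9, nat_lit 3, nat_lit 7, nat_lit 8, nat_lit 3, nat_lit 2, nat_lit 1, nat_lit 0, nat_lit 10, nat_lit 11, nat_lit 3, nat_lit 4, nat_lit 5, nat_lit 6, nat_lit 9, nat_lit 3, nat_lit 7, nat_lit 8, nat_lit 3, nat_lit 2, nat_lit 1, nat_lit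 0, nat_lit 10, nat_lit 11, nat_lit 3, nat_lit 4, nat_lit 5, nat_lit 6, nat_lit 9, nat_lit 3, nat_lit 7, nat_lit 8, nat_lit 3, nat_lit 2, nat_lit 1, nat_lit 0, nat_lit 10, nat_lit 11, nat_lit 3, nat_lit 4, nat_lit 5, nat_lit 6, nat_lit 9, nat_lit 3, nat_lit 7, nat_lit 8, nat_lit 3, nat_lit 2, nat_lit 1, nat_lit 0, nat_lit 10, nat_lit 11, nat_lit 3, nat_lit 4, nat_lit 5, nat_lit 6, nat_lit 9, nat_lit 3, nat_lit 7, nat_lit 8, nat_lit 3, nat_lit 2, nat_lit 1, nat_lit 0, nat_lit 10, nat_lit 11, nat_lit 3, nat_lit 4, nat_lit 5, nat_lit 6, nat_lit 9, nat_lit 3, nat_lit 7, nat_lit 8, nat_lit 3, nat_lit 2, nat_lit 1, nat_lit 0, nat_lit 10]))) (.node (nat_lit 185) (.leaf [nat_lit 0, nat_lit 1, nat_lit 2, nat_lit 3, nat_lit 8, nat_lit 7, nat_lit 3, nat_lit 9, nat_lit 6, nat_lit 5, nat_lit 4, nat_lit 3, nat_lit 11, nat_lit 10, nat_lit 0, nat_lit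 1, nat_lit 2, nat_lit 3, nat_lit 8, nat_lit 7, nat_lit 3, nat_lit 9, nat_lit 6, nat_lit 5, nat_lit 4, nat_lit 3, nat_lit 11, nat_lit 10, nat_lit 0, nat_lit 1, nat_lit 2, nat_lit 3, nat_lit 8, nat_lit 7, nat_lit 3, nat_lit 9, nat_lit 6, nat_lit 5, nat_lit 4, nat_lit 3, nat_lit 11, nat_lit 10, nat_lit 0, nat_lit 1, nat_lit 2, nat_lit 3, nat_lit 8, nat_lit 7, nat_lit 3, nat_lit 9, nat_lit 6, nat_lit 5, nat_lit 4, nat_lit 3, nat_lit 11, nat_lit 10, nat_lit 0, nat_lit 1, nat_lit 2, nat_lit 3, nat_lit 8, nat_lit 7, nat_lit 3, nat_lit 9, nat_lit 6, nat_lit 5, nat_lit 4, nat_lit 3, nat_lit 11, nat_lit 10, nat_lit 0, nat_lit 1, nat_lit 2, nat_lit 3, nat_lit 8, nat_lit 7, nat_lit 3, nat_lit 9, nat_lit 6, nat_lit 5, nat_lit 4, nat_lit 3, nat_lit 11, nat_lit 10, nat_lit 0, nat_lit 1, nat_lit 2, nat_lit 3, nat_lit 8, nat_lit 7, nat_lit 3, nat_lit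 9, nat_lit 6, nat_lit 5, nat_lit 4, nat_lit 3, nat_lit 11, nat_lit 10, nat_lit 0, nat_lit 1, nat_lit 2, nat_lit 3, nat_lit 8, nat_lit 7, nat_lit 3, nat_lit 9, nat_lit 6, nat_lit 5, nat_lit 4, nat_lit 3, nat_lit 11, nat_lit 10, nat_lit 0, nat_lit 1, nat_lit 2, nat_lit 3, nat_lit 8, nat_lit 7, nat_lit 3, nat_lit 9, nat_lit 6, nat_lit 5, nat_lit 4, nat_lit 3, nat_lit 11, nat_lit 10, nat_lit 0, nat_lit 1, nat_lit 2, nat_lit 3, nat_lit 8, nat_lit 7, nat_lit 3, nat_lit 9, nat_lit 6, nat_lit 5, nat_lit 4, nat_lit 3, nat_lit 11, nat_lit 10, nat_lit 0, nat_lit 1, nat_lit 2, nat_lit 3, nat_lit 8, nat_lit 7, nat_lit 3, nat_lit 9, nat_lit 6, nat_lit 5, nat_lit 4, nat_lit 3, nat_lit 11, nat_lit 10, nat_lit 0, nat_lit 1, nat_lit 2, nat_lit 3, nat_lit 8, nat_lit 7, nat_lit 3, nat_lit 9, nat_lit 6, nat_lit 5, nat_lit 4, nat_lit 3, nat_lit 11, nat_lit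 10, nat_lit 0, nat_lit 1, nat_lit 2, nat_lit 3, nat_lit 8, nat_lit 7, nat_lit 3, nat_lit 9, nat_lit 6, nat_lit 5, nat_lit 4, nat_lit 3, nat_lit 11, nat_lit 10, nat_lit 0, nat_lit 1, nat_lit 2, nat_lit 3, nat_lit 8, nat_lit 7, nat_lit 3, nat_lit 9, nat_lit 6, nat_lit 5, nat_lit 4, nat_lit 3, nat_lit 11, nat_lit 10, nat_lit 0, nat_lit 1, nat_lit 2, nat_lit 3, nat_lit 8, nat_lit 7, nat_lit 3, nat_lit 9, nat_lit 6, nat_lit 5, nat_lit 4, nat_lit 3, nat_lit 11, nat_lit 10, nat_lit 0, nat_lit 1, nat_lit 2, nat_lit 3, nat_lit 8, nat_lit 7, nat_lit 3, nat_lit 9, nat_lit 6, nat_lit 5, nat_lit 4, nat_lit 3, nat_lit 11, nat_lit 10, nat_lit 0, nat_lit 1, nat_lit 2, nat_lit 3, nat_lit 8, nat_lit 7, nat_lit 3, nat_lit 9, nat_lit 6, nat_lit 5, nat_lit 4, nat_lit 3, nat_lit 11, nat_lit 10]) (.node (nat_lit 186) (.leaf [nat_lit 1, nat_lit 0, nat_lit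 11, nat_lit 7, nat_lit 5, nat_lit 4, nat_lit 3, nat_lit 2, nat_lit 1, nat_lit 0, nat_lit 7, nat_lit 5, nat_lit 4, nat_lit 3, nat_lit 2, nat_lit 1, nat_lit 0, nat_lit 7, nat_lit 5, nat_lit 4, nat_lit 3, nat_lit 2, nat_lit 1, nat_lit 0, nat_lit 7, nat_lit 5, nat_lit 4, nat_lit 3, nat_lit 2, nat_lit 1, nat_lit 0, nat_lit 7, nat_lit 5, nat_lit 4, nat_lit 3, nat_lit 2, nat_lit 1, nat_lit 0, nat_lit 7, nat_lit 5, nat_lit 4, nat_lit 3, nat_lit 2, nat_lit 1, nat_lit 0, nat_lit 7, nat_lit 5, nat_lit 4, nat_lit 3, nat_lit 2, nat_lit 1, nat_lit 0, nat_lit 7, nat_lit 5, nat_lit 4, nat_lit 3, nat_lit 2, nat_lit 1, nat_lit 0, nat_lit 7, nat_lit 5, nat_lit 4, nat_lit 3, nat_lit 2]) (.leaf [nat_lit 10, nat_lit 0, nat_lit 1, nat_lit 2, nat_lit 3, nat_lit 8, nat_lit 7, nat_lit 3, nat_lit 9, nat_lit 6, nat_lit 5, nat_lit 4, nat_lit 3, nat_lit 11, nat_lit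 10, nat_lit 0, nat_lit 1, nat_lit 2, nat_lit 3, nat_lit 8, nat_lit 7, nat_lit 3, nat_lit 9, nat_lit 6, nat_lit 5, nat_lit 4, nat_lit 3, nat_lit 11, nat_lit 10, nat_lit 0, nat_lit 1, nat_lit 2, nat_lit 3, nat_lit 8, nat_lit 7, nat_lit 3, nat_lit 9, nat_lit 6, nat_lit 5, nat_lit 4, nat_lit 3, nat_lit 11, nat_lit 10, nat_lit 0, nat_lit 1, nat_lit 2, nat_lit 3, nat_lit 8, nat_lit 7, nat_lit 3, nat_lit 9, nat_lit 6, nat_lit 5, nat_lit 4, nat_lit 3, nat_lit 11, nat_lit 10, nat_lit 0, nat_lit 1, nat_lit 2, nat_lit 3, nat_lit 8, nat_lit 7, nat_lit 3, nat_lit 9, nat_lit 6, nat_lit 5, nat_lit 4, nat_lit 3, nat_lit 11, nat_lit 10, nat_lit 0, nat_lit 1, nat_lit 2, nat_lit 3, nat_lit 8, nat_lit 7, nat_lit 3, nat_lit 9, nat_lit 6, nat_lit 5, nat_lit 4, nat_lit 3, nat_lit 11, nat_lit 10, nat_lit 0, nat_lit 1, nat_lit 2, nat_lit 3, nat_lit 8, nat_lit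 7, nat_lit 3, nat_lit 9, nat_lit 6, nat_lit 5, nat_lit 4, nat_lit 3, nat_lit 11, nat_lit 10, nat_lit 0, nat_lit 1, nat_lit 2, nat_lit 3, nat_lit 8, nat_lit 7, nat_lit 3, nat_lit 9, nat_lit 6, nat_lit 5, nat_lit 4, nat_lit 3, nat_lit 11, nat_lit 10, nat_lit 0, nat_lit 1, nat_lit 2, nat_lit 3, nat_lit 8, nat_lit 7, nat_lit 3, nat_lit 9, nat_lit 6, nat_lit 5, nat_lit 4, nat_lit 3, nat_lit 11, nat_lit 10, nat_lit 0, nat_lit 1, nat_lit 2, nat_lit 3, nat_lit 8, nat_lit 7, nat_lit 3, nat_lit 9, nat_lit 6, nat_lit 5, nat_lit 4, nat_lit 3, nat_lit 11, nat_lit 10, nat_lit 0, nat_lit 1, nat_lit 2, nat_lit 3, nat_lit 8, nat_lit 7, nat_lit 3, nat_lit 9, nat_lit 6, nat_lit 5, nat_lit 4, nat_lit 3, nat_lit 11, nat_lit 10, nat_lit 0, nat_lit 1, nat_lit 2, nat_lit 3, nat_lit 8, nat_lit 7, nat_lit 3, nat_lit 9, nat_lit 6, nat_lit 5, nat_lit 4, nat_lit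 3, nat_lit 11, nat_lit 10, nat_lit 0, nat_lit 1, nat_lit 2, nat_lit 3, nat_lit 8, nat_lit 7, nat_lit 3, nat_lit 9, nat_lit 6, nat_lit 5, nat_lit 4, nat_lit 3, nat_lit 11, nat_lit 10, nat_lit 0, nat_lit 1, nat_lit 2, nat_lit 3, nat_lit 8, nat_lit 7, nat_lit 3, nat_lit 9, nat_lit 6, nat_lit 5, nat_lit 4, nat_lit 3, nat_lit 11, nat_lit 10, nat_lit 0, nat_lit 1, nat_lit 2, nat_lit 3, nat_lit 8, nat_lit 7, nat_lit 3, nat_lit 9, nat_lit 6, nat_lit 5, nat_lit 4, nat_lit 3, nat_lit 11, nat_lit 10, nat_lit 0, nat_lit 1, nat_lit 2, nat_lit 3, nat_lit 8, nat_lit 7, nat_lit 3, nat_lit 9, nat_lit 6, nat_lit 5, nat_lit 4, nat_lit 3, nat_lit 11, nat_lit 10, nat_lit 0, nat_lit 1, nat_lit 2, nat_lit 3, nat_lit 8, nat_lit 7, nat_lit 3, nat_lit 9, nat_lit 6, nat_lit 5, nat_lit 4, nat_lit 3, nat_lit 11])))) (.node (nat_lit 190) (.node (nat_lit 188) (.leaf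 [nat_lit 5, nat_lit 7, nat_lit 0, nat_lit 1, nat_lit 2, nat_lit 3, nat_lit 4, nat_lit 5, nat_lit 7, nat_lit 0, nat_lit 1, nat_lit 2, nat_lit 3, nat_lit 4, nat_lit 5, nat_lit 7, nat_lit 0, nat_lit 1, nat_lit 2, nat_lit 3, nat_lit 4, nat_lit 5, nat_lit 7, nat_lit 0, nat_lit 1, nat_lit 2, nat_lit 3, nat_lit 4, nat_lit 5, nat_lit 7, nat_lit 0, nat_lit 1, nat_lit 2, nat_lit 3, nat_lit 4, nat_lit 5, nat_lit 7, nat_lit 0, nat_lit 1, nat_lit 2, nat_lit 3, nat_lit 4, nat_lit 5, nat_lit 7, nat_lit 0, nat_lit 1, nat_lit 2, nat_lit 3, nat_lit 4, nat_lit 5, nat_lit 7, nat_lit 11, nat_lit 0, nat_lit 1, nat_lit 2, nat_lit 3, nat_lit 4, nat_lit 5, nat_lit 7, nat_lit 0, nat_lit 1, nat_lit 2, nat_lit 3, nat_lit 4]) (.node (nat_lit 189) (.leaf [nat_lit 0, nat_lit 7, nat_lit 5, nat_lit 4, nat_lit 3, nat_lit 2, nat_lit 1, nat_lit 0, nat_lit 7, nat_lit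 5, nat_lit 4, nat_lit 3, nat_lit 2, nat_lit 1, nat_lit 0, nat_lit 11, nat_lit 7, nat_lit 5, nat_lit 4, nat_lit 3, nat_lit 2, nat_lit 1, nat_lit 0, nat_lit 7, nat_lit 5, nat_lit 4, nat_lit 3, nat_lit 2, nat_lit 1, nat_lit 0, nat_lit 7, nat_lit 5, nat_lit 4, nat_lit 3, nat_lit 2, nat_lit 1, nat_lit 0, nat_lit 7, nat_lit 5, nat_lit 4, nat_lit 3, nat_lit 2, nat_lit 1, nat_lit 0, nat_lit 7, nat_lit 5, nat_lit 4, nat_lit 3, nat_lit 2, nat_lit 1, nat_lit 0, nat_lit 7, nat_lit 5, nat_lit 4, nat_lit 3, nat_lit 2, nat_lit 1, nat_lit 0, nat_lit 7, nat_lit 5, nat_lit 4, nat_lit 3, nat_lit 2, nat_lit 1]) (.leaf [nat_lit 8, nat_lit 3, nat_lit 2, nat_lit 1, nat_lit 0, nat_lit 10, nat_lit 11, nat_lit 3, nat_lit 4, nat_lit 5, nat_lit 6, nat_lit 9, nat_lit 3, nat_lit 7, nat_lit 8, nat_lit 3, nat_lit 2, nat_lit 1, nat_lit 0, nat_lit 10, nat_lit 11, nat_lit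 3, nat_lit 4, nat_lit 5, nat_lit 6, nat_lit 9, nat_lit 3, nat_lit 7, nat_lit 8, nat_lit 3, nat_lit 2, nat_lit 1, nat_lit 0, nat_lit 10, nat_lit 11, nat_lit 3, nat_lit 4, nat_lit 5, nat_lit 6, nat_lit 9, nat_lit 3, nat_lit 7, nat_lit 8, nat_lit 3, nat_lit 2, nat_lit 1, nat_lit 0, nat_lit 10, nat_lit 11, nat_lit 3, nat_lit 4, nat_lit 5, nat_lit 6, nat_lit 9, nat_lit 3, nat_lit 7, nat_lit 8, nat_lit 3, nat_lit 2, nat_lit 1, nat_lit 0, nat_lit 10, nat_lit 11, nat_lit 3, nat_lit 4, nat_lit 5, nat_lit 6, nat_lit 9, nat_lit 3, nat_lit 7, nat_lit 8, nat_lit 3, nat_lit 2, nat_lit 1, nat_lit 0, nat_lit 10, nat_lit 11, nat_lit 3, nat_lit 4, nat_lit 5, nat_lit 6, nat_lit 9, nat_lit 3, nat_lit 7, nat_lit 8, nat_lit 3, nat_lit 2, nat_lit 1, nat_lit 0, nat_lit 10, nat_lit 11, nat_lit 3, nat_lit 4, nat_lit 5, nat_lit 6, nat_lit 9, nat_lit 3, nat_lit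 7, nat_lit 8, nat_lit 3, nat_lit 2, nat_lit 1, nat_lit 0, nat_lit 10, nat_lit 11, nat_lit 3, nat_lit 4, nat_lit 5, nat_lit 6, nat_lit 9, nat_lit 3, nat_lit 7, nat_lit 8, nat_lit 3, nat_lit 2, nat_lit 1, nat_lit 0, nat_lit 10, nat_lit 11, nat_lit 3, nat_lit 4, nat_lit 5, nat_lit 6, nat_lit 9, nat_lit 3, nat_lit 7, nat_lit 8, nat_lit 3, nat_lit 2, nat_lit 1, nat_lit 0, nat_lit 10, nat_lit 11, nat_lit 3, nat_lit 4, nat_lit 5, nat_lit 6, nat_lit 9, nat_lit 3, nat_lit 7, nat_lit 8, nat_lit 3, nat_lit 2, nat_lit 1, nat_lit 0, nat_lit 10, nat_lit 11, nat_lit 3, nat_lit 4, nat_lit 5, nat_lit 6, nat_lit 9, nat_lit 3, nat_lit 7, nat_lit 8, nat_lit 3, nat_lit 2, nat_lit 1, nat_lit 0, nat_lit 10, nat_lit 11, nat_lit 3, nat_lit 4, nat_lit 5, nat_lit 6, nat_lit 9, nat_lit 3, nat_lit 7, nat_lit 8, nat_lit 3, nat_lit 2, nat_lit 1, nat_lit 0, nat_lit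 10, nat_lit 11, nat_lit 3, nat_lit 4, nat_lit 5, nat_lit 6, nat_lit 9, nat_lit 3, nat_lit 7, nat_lit 8, nat_lit 3, nat_lit 2, nat_lit 1, nat_lit 0, nat_lit 10, nat_lit 11, nat_lit 3, nat_lit 4, nat_lit 5, nat_lit 6, nat_lit 9, nat_lit 3, nat_lit 7, nat_lit 8, nat_lit 3, nat_lit 2, nat_lit 1, nat_lit 0, nat_lit 10, nat_lit 11, nat_lit 3, nat_lit 4, nat_lit 5, nat_lit 6, nat_lit 9, nat_lit 3, nat_lit 7, nat_lit 8, nat_lit 3, nat_lit 2, nat_lit 1, nat_lit 0, nat_lit 10, nat_lit 11, nat_lit 3, nat_lit 4, nat_lit 5, nat_lit 6, nat_lit 9, nat_lit 3, nat_lit 7, nat_lit 8, nat_lit 3, nat_lit 2, nat_lit 1, nat_lit 0, nat_lit 10, nat_lit 11, nat_lit 3, nat_lit 4, nat_lit 5, nat_lit 6, nat_lit 9, nat_lit 3, nat_lit 7]))) (.node (nat_lit 192) (.node (nat_lit 191) (.leaf [nat_lit 7, nat_lit 3, nat_lit 9, nat_lit 6, nat_lit 5, nat_lit 4, nat_lit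 3, nat_lit 11, nat_lit 10, nat_lit 0, nat_lit 1, nat_lit 2, nat_lit 3, nat_lit 8, nat_lit 7, nat_lit 3, nat_lit 9, nat_lit 6, nat_lit 5, nat_lit 4, nat_lit 3, nat_lit 11, nat_lit 10, nat_lit 0, nat_lit 1, nat_lit 2, nat_lit 3, nat_lit 8, nat_lit 7, nat_lit 3, nat_lit 9, nat_lit 6, nat_lit 5, nat_lit 4, nat_lit 3, nat_lit 11, nat_lit 10, nat_lit 0, nat_lit 1, nat_lit 2, nat_lit 3, nat_lit 8, nat_lit 7, nat_lit 3, nat_lit 9, nat_lit 6, nat_lit 5, nat_lit 4, nat_lit 3, nat_lit 11, nat_lit 10, nat_lit 0, nat_lit 1, nat_lit 2, nat_lit 3, nat_lit 8, nat_lit 7, nat_lit 3, nat_lit 9, nat_lit 6, nat_lit 5, nat_lit 4, nat_lit 3, nat_lit 11, nat_lit 10, nat_lit 0, nat_lit 1, nat_lit 2, nat_lit 3, nat_lit 8, nat_lit 7, nat_lit 3, nat_lit 9, nat_lit 6, nat_lit 5, nat_lit 4, nat_lit 3, nat_lit 11, nat_lit 10, nat_lit 0, nat_lit 1, nat_lit 2, nat_lit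 3, nat_lit 8, nat_lit 7, nat_lit 3, nat_lit 9, nat_lit 6, nat_lit 5, nat_lit 4, nat_lit 3, nat_lit 11, nat_lit 10, nat_lit 0, nat_lit 1, nat_lit 2, nat_lit 3, nat_lit 8, nat_lit 7, nat_lit 3, nat_lit 9, nat_lit 6, nat_lit 5, nat_lit 4, nat_lit 3, nat_lit 11, nat_lit 10, nat_lit 0, nat_lit 1, nat_lit 2, nat_lit 3, nat_lit 8, nat_lit 7, nat_lit 3, nat_lit 9, nat_lit 6, nat_lit 5, nat_lit 4, nat_lit 3, nat_lit 11, nat_lit 10, nat_lit 0, nat_lit 1, nat_lit 2, nat_lit 3, nat_lit 8, nat_lit 7, nat_lit 3, nat_lit 9, nat_lit 6, nat_lit 5, nat_lit 4, nat_lit 3, nat_lit 11, nat_lit 10, nat_lit 0, nat_lit 1, nat_lit 2, nat_lit 3, nat_lit 8, nat_lit 7, nat_lit 3, nat_lit 9, nat_lit 6, nat_lit 5, nat_lit 4, nat_lit 3, nat_lit 11, nat_lit 10, nat_lit 0, nat_lit 1, nat_lit 2, nat_lit 3, nat_lit 8, nat_lit 7, nat_lit 3, nat_lit 9, nat_lit 6, nat_lit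 5, nat_lit 4, nat_lit 3, nat_lit 11, nat_lit 10, nat_lit 0, nat_lit 1, nat_lit 2, nat_lit 3, nat_lit 8, nat_lit 7, nat_lit 3, nat_lit 9, nat_lit 6, nat_lit 5, nat_lit 4, nat_lit 3, nat_lit 11, nat_lit 10, nat_lit 0, nat_lit 1, nat_lit 2, nat_lit 3, nat_lit 8, nat_lit 7, nat_lit 3, nat_lit 9, nat_lit 6, nat_lit 5, nat_lit 4, nat_lit 3, nat_lit 11, nat_lit 10, nat_lit 0, nat_lit 1, nat_lit 2, nat_lit 3, nat_lit 8, nat_lit 7, nat_lit 3, nat_lit 9, nat_lit 6, nat_lit 5, nat_lit 4, nat_lit 3, nat_lit 11, nat_lit 10, nat_lit 0, nat_lit 1, nat_lit 2, nat_lit 3, nat_lit 8, nat_lit 7, nat_lit 3, nat_lit 9, nat_lit 6, nat_lit 5, nat_lit 4, nat_lit 3, nat_lit 11, nat_lit 10, nat_lit 0, nat_lit 1, nat_lit 2, nat_lit 3, nat_lit 8, nat_lit 7, nat_lit 3, nat_lit 9, nat_lit 6, nat_lit 5, nat_lit 4, nat_lit 3, nat_lit 11, nat_lit 10, nat_lit 0, nat_lit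 1, nat_lit 2, nat_lit 3, nat_lit 8]) (.leaf [nat_lit 1, nat_lit 2, nat_lit 3, nat_lit 8, nat_lit 7, nat_lit 3, nat_lit 9, nat_lit 6, nat_lit 5, nat_lit 4, nat_lit 3, nat_lit 11, nat_lit 10, nat_lit 0, nat_lit 1, nat_lit 2, nat_lit 3, nat_lit 8, nat_lit 7, nat_lit 3, nat_lit 9, nat_lit 6, nat_lit 5, nat_lit 4, nat_lit 3, nat_lit 11, nat_lit 10, nat_lit 0, nat_lit 1, nat_lit 2, nat_lit 3, nat_lit 8, nat_lit 7, nat_lit 3, nat_lit 9, nat_lit 6, nat_lit 5, nat_lit 4, nat_lit 3, nat_lit 11, nat_lit 10, nat_lit 0, nat_lit 1, nat_lit 2, nat_lit 3, nat_lit 8, nat_lit 7, nat_lit 3, nat_lit 9, nat_lit 6, nat_lit 5, nat_lit 4, nat_lit 3, nat_lit 11, nat_lit 10, nat_lit 0, nat_lit 1, nat_lit 2, nat_lit 3, nat_lit 8, nat_lit 7, nat_lit 3, nat_lit 9, nat_lit 6, nat_lit 5, nat_lit 4, nat_lit 3, nat_lit 11, nat_lit 10, nat_lit 0, nat_lit 1, nat_lit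 2, nat_lit 3, nat_lit 8, nat_lit 7, nat_lit 3, nat_lit 9, nat_lit 6, nat_lit 5, nat_lit 4, nat_lit 3, nat_lit 11, nat_lit 10, nat_lit 0, nat_lit 1, nat_lit 2, nat_lit 3, nat_lit 8, nat_lit 7, nat_lit 3, nat_lit 9, nat_lit 6, nat_lit 5, nat_lit 4, nat_lit 3, nat_lit 11, nat_lit 10, nat_lit 0, nat_lit 1, nat_lit 2, nat_lit 3, nat_lit 8, nat_lit 7, nat_lit 3, nat_lit 9, nat_lit 6, nat_lit 5, nat_lit 4, nat_lit 3, nat_lit 11, nat_lit 10, nat_lit 0, nat_lit 1, nat_lit 2, nat_lit 3, nat_lit 8, nat_lit 7, nat_lit 3, nat_lit 9, nat_lit 6, nat_lit 5, nat_lit 4, nat_lit 3, nat_lit 11, nat_lit 10, nat_lit 0, nat_lit 1, nat_lit 2, nat_lit 3, nat_lit 8, nat_lit 7, nat_lit 3, nat_lit 9, nat_lit 6, nat_lit 5, nat_lit 4, nat_lit 3, nat_lit 11, nat_lit 10, nat_lit 0, nat_lit 1, nat_lit 2, nat_lit 3, nat_lit 8, nat_lit 7, nat_lit 3, nat_lit 9, nat_lit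 6, nat_lit 5, nat_lit 4, nat_lit 3, nat_lit 11, nat_lit 10, nat_lit 0, nat_lit 1, nat_lit 2, nat_lit 3, nat_lit 8, nat_lit 7, nat_lit 3, nat_lit 9, nat_lit 6, nat_lit 5, nat_lit 4, nat_lit 3, nat_lit 11, nat_lit 10, nat_lit 0, nat_lit 1, nat_lit 2, nat_lit 3, nat_lit 8, nat_lit 7, nat_lit 3, nat_lit 9, nat_lit 6, nat_lit 5, nat_lit 4, nat_lit 3, nat_lit 11, nat_lit 10, nat_lit 0, nat_lit 1, nat_lit 2, nat_lit 3, nat_lit 8, nat_lit 7, nat_lit 3, nat_lit 9, nat_lit 6, nat_lit 5, nat_lit 4, nat_lit 3, nat_lit 11, nat_lit 10, nat_lit 0, nat_lit 1, nat_lit 2, nat_lit 3, nat_lit 8, nat_lit 7, nat_lit 3, nat_lit 9, nat_lit 6, nat_lit 5, nat_lit 4, nat_lit 3, nat_lit 11, nat_lit 10, nat_lit 0, nat_lit 1, nat_lit 2, nat_lit 3, nat_lit 8, nat_lit 7, nat_lit 3, nat_lit 9, nat_lit 6, nat_lit 5, nat_lit 4, nat_lit 3, nat_lit 11, nat_lit 10, nat_lit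 0, nat_lit 1, nat_lit 2, nat_lit 3, nat_lit 8, nat_lit 7, nat_lit 3, nat_lit 9, nat_lit 6, nat_lit 5, nat_lit 4, nat_lit 3, nat_lit 11, nat_lit 10, nat_lit 0])) (.node (nat_lit 193) (.leaf [nat_lit 11, nat_lit 10, nat_lit 0, nat_lit 1, nat_lit 2, nat_lit 3, nat_lit 8, nat_lit 7, nat_lit 3, nat_lit 9, nat_lit 6, nat_lit 5, nat_lit 4, nat_lit 3, nat_lit 11, nat_lit 10, nat_lit 0, nat_lit 1, nat_lit 2, nat_lit 3, nat_lit 8, nat_lit 7, nat_lit 3, nat_lit 9, nat_lit 6, nat_lit 5, nat_lit 4, nat_lit 3, nat_lit 11, nat_lit 10, nat_lit 0, nat_lit 1, nat_lit 2, nat_lit 3, nat_lit 8, nat_lit 7, nat_lit 3, nat_lit 9, nat_lit 6, nat_lit 5, nat_lit 4, nat_lit 3, nat_lit 11, nat_lit 10, nat_lit 0, nat_lit 1, nat_lit 2, nat_lit 3, nat_lit 8, nat_lit 7, nat_lit 3, nat_lit 9, nat_lit 6, nat_lit 5, nat_lit 4, nat_lit 3, nat_lit 11, nat_lit 10, nat_lit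 0, nat_lit 1, nat_lit 2, nat_lit 3, nat_lit 8, nat_lit 7, nat_lit 3, nat_lit 9, nat_lit 6, nat_lit 5, nat_lit 4, nat_lit 3, nat_lit 11, nat_lit 10, nat_lit 0, nat_lit 1, nat_lit 2, nat_lit 3, nat_lit 8, nat_lit 7, nat_lit 3, nat_lit 9, nat_lit 6, nat_lit 5, nat_lit 4, nat_lit 3, nat_lit 11, nat_lit 10, nat_lit 0, nat_lit 1, nat_lit 2, nat_lit 3, nat_lit 8, nat_lit 7, nat_lit 3, nat_lit 9, nat_lit 6, nat_lit 5, nat_lit 4, nat_lit 3, nat_lit 11, nat_lit 10, nat_lit 0, nat_lit 1, nat_lit 2, nat_lit 3, nat_lit 8, nat_lit 7, nat_lit 3, nat_lit 9, nat_lit 6, nat_lit 5, nat_lit 4, nat_lit 3, nat_lit 11, nat_lit 10, nat_lit 0, nat_lit 1, nat_lit 2, nat_lit 3, nat_lit 8, nat_lit 7, nat_lit 3, nat_lit 9, nat_lit 6, nat_lit 5, nat_lit 4, nat_lit 3, nat_lit 11, nat_lit 10, nat_lit 0, nat_lit 1, nat_lit 2, nat_lit 3, nat_lit 8, nat_lit 7, nat_lit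 3, nat_lit 9, nat_lit 6, nat_lit 5, nat_lit 4, nat_lit 3, nat_lit 11, nat_lit 10, nat_lit 0, nat_lit 1, nat_lit 2, nat_lit 3, nat_lit 8, nat_lit 7, nat_lit 3, nat_lit 9, nat_lit 6, nat_lit 5, nat_lit 4, nat_lit 3, nat_lit 11, nat_lit 10, nat_lit 0, nat_lit 1, nat_lit 2, nat_lit 3, nat_lit 8, nat_lit 7, nat_lit 3, nat_lit 9, nat_lit 6, nat_lit 5, nat_lit 4, nat_lit 3, nat_lit 11, nat_lit 10, nat_lit 0, nat_lit 1, nat_lit 2, nat_lit 3, nat_lit 8, nat_lit 7, nat_lit 3, nat_lit 9, nat_lit 6, nat_lit 5, nat_lit 4, nat_lit 3, nat_lit 11, nat_lit 10, nat_lit 0, nat_lit 1, nat_lit 2, nat_lit 3, nat_lit 8, nat_lit 7, nat_lit 3, nat_lit 9, nat_lit 6, nat_lit 5, nat_lit 4, nat_lit 3, nat_lit 11, nat_lit 10, nat_lit 0, nat_lit 1, nat_lit 2, nat_lit 3, nat_lit 8, nat_lit 7, nat_lit 3, nat_lit 9, nat_lit 6, nat_lit 5, nat_lit 4, nat_lit 3, nat_lit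 11, nat_lit 10, nat_lit 0, nat_lit 1, nat_lit 2, nat_lit 3, nat_lit 8, nat_lit 7, nat_lit 3, nat_lit 9, nat_lit 6, nat_lit 5, nat_lit 4, nat_lit 3, nat_lit 11, nat_lit 10, nat_lit 0, nat_lit 1, nat_lit 2, nat_lit 3, nat_lit 8, nat_lit 7, nat_lit 3, nat_lit 9, nat_lit 6, nat_lit 5, nat_lit 4, nat_lit 3]) (.leaf [nat_lit 0, nat_lit 7, nat_lit 5, nat_lit 4, nat_lit 3, nat_lit 2, nat_lit 1, nat_lit 0, nat_lit 7, nat_lit 5, nat_lit 4, nat_lit 3, nat_lit 2, nat_lit 1, nat_lit 0, nat_lit 7, nat_lit 5, nat_lit 4, nat_lit 3, nat_lit 2, nat_lit 1, nat_lit 0, nat_lit 11, nat_lit 7, nat_lit 5, nat_lit 4, nat_lit 3, nat_lit 2, nat_lit 1, nat_lit 0, nat_lit 7, nat_lit 5, nat_lit 4, nat_lit 3, nat_lit 2, nat_lit 1, nat_lit 0, nat_lit 7, nat_lit 5, nat_lit 4, nat_lit 3, nat_lit 2, nat_lit 1, nat_lit 0, nat_lit 7, nat_lit 5, nat_lit 4, nat_lit 3, nat_lit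 2, nat_lit 1, nat_lit 0, nat_lit 7, nat_lit 5, nat_lit 4, nat_lit 3, nat_lit 2, nat_lit 1, nat_lit 0, nat_lit 7, nat_lit 5, nat_lit 4, nat_lit 3, nat_lit 2, nat_lit 1]))))) (.node (nat_lit 200) (.node (nat_lit 197) (.node (nat_lit 195) (.leaf [nat_lit 3, nat_lit 2, nat_lit 1, nat_lit 0, nat_lit 7, nat_lit 5, nat_lit 4, nat_lit 3, nat_lit 2, nat_lit 1, nat_lit 0, nat_lit 7, nat_lit 5, nat_lit 4, nat_lit 3, nat_lit 2, nat_lit 1, nat_lit 0, nat_lit 7, nat_lit 5, nat_lit 4, nat_lit 3, nat_lit 2, nat_lit 1, nat_lit 0, nat_lit 7, nat_lit 5, nat_lit 4, nat_lit 3, nat_lit 2, nat_lit 1, nat_lit 0, nat_lit 7, nat_lit 5, nat_lit 4, nat_lit 3, nat_lit 2, nat_lit 1, nat_lit 0, nat_lit 11, nat_lit 7, nat_lit 5, nat_lit 4, nat_lit 3, nat_lit 2, nat_lit 1, nat_lit 0, nat_lit 7, nat_lit 5, nat_lit 4, nat_lit 3, nat_lit 2, nat_lit 1, nat_lit 0, nat_lit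 7, nat_lit 5, nat_lit 4, nat_lit 3, nat_lit 2, nat_lit 1, nat_lit 0, nat_lit 7, nat_lit 5, nat_lit 4]) (.node (nat_lit 196) (.leaf [nat_lit 9, nat_lit 3, nat_lit 7, nat_lit 8, nat_lit 3, nat_lit 2, nat_lit 1, nat_lit 0, nat_lit 10, nat_lit 11, nat_lit 3, nat_lit 4, nat_lit 5, nat_lit 6, nat_lit 9, nat_lit 3, nat_lit 7, nat_lit 8, nat_lit 3, nat_lit 2, nat_lit 1, nat_lit 0, nat_lit 10, nat_lit 11, nat_lit 3, nat_lit 4, nat_lit 5, nat_lit 6, nat_lit 9, nat_lit 3, nat_lit 7, nat_lit 8, nat_lit 3, nat_lit 2, nat_lit 1, nat_lit 0, nat_lit 10, nat_lit 11, nat_lit 3, nat_lit 4, nat_lit 5, nat_lit 6, nat_lit 9, nat_lit 3, nat_lit 7, nat_lit 8, nat_lit 3, nat_lit 2, nat_lit 1, nat_lit 0, nat_lit 10, nat_lit 11, nat_lit 3, nat_lit 4, nat_lit 5, nat_lit 6, nat_lit 9, nat_lit 3, nat_lit 7, nat_lit 8, nat_lit 3, nat_lit 2, nat_lit 1, nat_lit 0,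 nat_lit 10, nat_lit 11, nat_lit 3, nat_lit 4, nat_lit 5, nat_lit 6, nat_lit 9, nat_lit 3, nat_lit 7, nat_lit 8, nat_lit 3, nat_lit 2, nat_lit 1, nat_lit 0, nat_lit 10, nat_lit 11, nat_lit 3, nat_lit 4, nat_lit 5, nat_lit 6, nat_lit 9, nat_lit 3, nat_lit 7, nat_lit 8, nat_lit 3, nat_lit 2, nat_lit 1, nat_lit 0, nat_lit 10, nat_lit 11, nat_lit 3, nat_lit 4, nat_lit 5, nat_lit 6, nat_lit 9, nat_lit 3, nat_lit 7, nat_lit 8, nat_lit 3, nat_lit 2, nat_lit 1, nat_lit 0, nat_lit 10, nat_lit 11, nat_lit 3, nat_lit 4, nat_lit 5, nat_lit 6, nat_lit 9, nat_lit 3, nat_lit 7, nat_lit 8, nat_lit 3, nat_lit 2, nat_lit 1, nat_lit 0, nat_lit 10, nat_lit 11, nat_lit 3, nat_lit 4, nat_lit 5, nat_lit 6, nat_lit 9, nat_lit 3, nat_lit 7, nat_lit 8, nat_lit 3, nat_lit 2, nat_lit 1, nat_lit 0, nat_lit 10, nat_lit 11, nat_lit 3, nat_lit 4, nat_lit 5, nat_lit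 6, nat_lit 9, nat_lit 3, nat_lit 7, nat_lit 8, nat_lit 3, nat_lit 2, nat_lit 1, nat_lit 0, nat_lit 10, nat_lit 11, nat_lit 3, nat_lit 4, nat_lit 5, nat_lit 6, nat_lit 9, nat_lit 3, nat_lit 7, nat_lit 8, nat_lit 3, nat_lit 2, nat_lit 1, nat_lit 0, nat_lit 10, nat_lit 11, nat_lit 3, nat_lit 4, nat_lit 5, nat_lit 6, nat_lit 9, nat_lit 3, nat_lit 7, nat_lit 8, nat_lit 3, nat_lit 2, nat_lit 1, nat_lit 0, nat_lit 10, nat_lit 11, nat_lit 3, nat_lit 4, nat_lit 5, nat_lit 6, nat_lit 9, nat_lit 3, nat_lit 7, nat_lit 8, nat_lit 3, nat_lit 2, nat_lit 1, nat_lit 0, nat_lit 10, nat_lit 11, nat_lit 3, nat_lit 4, nat_lit 5, nat_lit 6, nat_lit 9, nat_lit 3, nat_lit 7, nat_lit 8, nat_lit 3, nat_lit 2, nat_lit 1, nat_lit 0, nat_lit 10, nat_lit 11, nat_lit 3, nat_lit 4, nat_lit 5, nat_lit 6, nat_lit 9, nat_lit 3, nat_lit 7, nat_lit 8, nat_lit 3, nat_lit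 2, nat_lit 1, nat_lit 0, nat_lit 10, nat_lit 11, nat_lit 3, nat_lit 4, nat_lit 5, nat_lit 6, nat_lit 9, nat_lit 3, nat_lit 7, nat_lit 8, nat_lit 3, nat_lit 2, nat_lit 1, nat_lit 0, nat_lit 10, nat_lit 11, nat_lit 3, nat_lit 4, nat_lit 5, nat_lit 6]) (.leaf [nat_lit 4, nat_lit 5, nat_lit 7, nat_lit 0, nat_lit 1, nat_lit 2, nat_lit 3, nat_lit 4, nat_lit 5, nat_lit 7, nat_lit 11, nat_lit 0, nat_lit 1, nat_lit 2, nat_lit 3, nat_lit 4, nat_lit 5, nat_lit 7, nat_lit 0, nat_lit 1, nat_lit 2, nat_lit 3, nat_lit 4, nat_lit 5, nat_lit 7, nat_lit 0, nat_lit 1, nat_lit 2, nat_lit 3, nat_lit 4, nat_lit 5, nat_lit 7, nat_lit 0, nat_lit 1, nat_lit 2, nat_lit 3, nat_lit 4, nat_lit 5, nat_lit 7, nat_lit 0, nat_lit 1, nat_lit 2, nat_lit 3, nat_lit 4, nat_lit 5, nat_lit 7, nat_lit 0, nat_lit 1, nat_lit 2, nat_lit 3, nat_lit 4, nat_lit 5, nat_lit 7, nat_lit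 0, nat_lit 1, nat_lit 2, nat_lit 3, nat_lit 4, nat_lit 5, nat_lit 7, nat_lit 0, nat_lit 1, nat_lit 2, nat_lit 3]))) (.node (nat_lit 198) (.leaf [nat_lit 10, nat_lit 11, nat_lit 3, nat_lit 4, nat_lit 5, nat_lit 6, nat_lit 9, nat_lit 3, nat_lit 7, nat_lit 8, nat_lit 3, nat_lit 2, nat_lit 1, nat_lit 0, nat_lit 10, nat_lit 11, nat_lit 3, nat_lit 4, nat_lit 5, nat_lit 6, nat_lit 9, nat_lit 3, nat_lit 7, nat_lit 8, nat_lit 3, nat_lit 2, nat_lit 1, nat_lit 0, nat_lit 10, nat_lit 11, nat_lit 3, nat_lit 4, nat_lit 5, nat_lit 6, nat_lit 9, nat_lit 3, nat_lit 7, nat_lit 8, nat_lit 3, nat_lit 2, nat_lit 1, nat_lit 0, nat_lit 10, nat_lit 11, nat_lit 3, nat_lit 4, nat_lit 5, nat_lit 6, nat_lit 9, nat_lit 3, nat_lit 7, nat_lit 8, nat_lit 3, nat_lit 2, nat_lit 1, nat_lit 0, nat_lit 10, nat_lit 11, nat_lit 3, nat_lit 4, nat_lit 5, nat_lit 6, nat_lit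 9, nat_lit 3, nat_lit 7, nat_lit 8, nat_lit 3, nat_lit 2, nat_lit 1, nat_lit 0, nat_lit 10, nat_lit 11, nat_lit 3, nat_lit 4, nat_lit 5, nat_lit 6, nat_lit 9, nat_lit 3, nat_lit 7, nat_lit 8, nat_lit 3, nat_lit 2, nat_lit 1, nat_lit 0, nat_lit 10, nat_lit 11, nat_lit 3, nat_lit 4, nat_lit 5, nat_lit 6, nat_lit 9, nat_lit 3, nat_lit 7, nat_lit 8, nat_lit 3, nat_lit 2, nat_lit 1, nat_lit 0, nat_lit 10, nat_lit 11, nat_lit 3, nat_lit 4, nat_lit 5, nat_lit 6, nat_lit 9, nat_lit 3, nat_lit 7, nat_lit 8, nat_lit 3, nat_lit 2, nat_lit 1, nat_lit 0, nat_lit 10, nat_lit 11, nat_lit 3, nat_lit 4, nat_lit 5, nat_lit 6, nat_lit 9, nat_lit 3, nat_lit 7, nat_lit 8, nat_lit 3, nat_lit 2, nat_lit 1, nat_lit 0, nat_lit 10, nat_lit 11, nat_lit 3, nat_lit 4, nat_lit 5, nat_lit 6, nat_lit 9, nat_lit 3, nat_lit 7, nat_lit 8, nat_lit 3, nat_lit 2, nat_lit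 1, nat_lit 0, nat_lit 10, nat_lit 11, nat_lit 3, nat_lit 4, nat_lit 5, nat_lit 6, nat_lit 9, nat_lit 3, nat_lit 7, nat_lit 8, nat_lit 3, nat_lit 2, nat_lit 1, nat_lit 0, nat_lit 10, nat_lit 11, nat_lit 3, nat_lit 4, nat_lit 5, nat_lit 6, nat_lit 9, nat_lit 3, nat_lit 7, nat_lit 8, nat_lit 3, nat_lit 2, nat_lit 1, nat_lit 0, nat_lit 10, nat_lit 11, nat_lit 3, nat_lit 4, nat_lit 5, nat_lit 6, nat_lit 9, nat_lit 3, nat_lit 7, nat_lit 8, nat_lit 3, nat_lit 2, nat_lit 1, nat_lit 0, nat_lit 10, nat_lit 11, nat_lit 3, nat_lit 4, nat_lit 5, nat_lit 6, nat_lit 9, nat_lit 3, nat_lit 7, nat_lit 8, nat_lit 3, nat_lit 2, nat_lit 1, nat_lit 0, nat_lit 10, nat_lit 11, nat_lit 3, nat_lit 4, nat_lit 5, nat_lit 6, nat_lit 9, nat_lit 3, nat_lit 7, nat_lit 8, nat_lit 3, nat_lit 2, nat_lit 1, nat_lit 0, nat_lit 10, nat_lit 11, nat_lit 3, nat_lit 4, nat_lit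 5, nat_lit 6, nat_lit 9, nat_lit 3, nat_lit 7, nat_lit 8, nat_lit 3, nat_lit 2, nat_lit 1, nat_lit 0, nat_lit 10, nat_lit 11, nat_lit 3, nat_lit 4, nat_lit 5, nat_lit 6, nat_lit 9, nat_lit 3, nat_lit 7, nat_lit 8, nat_lit 3, nat_lit 2, nat_lit 1, nat_lit 0]) (.node (nat_lit 199) (.leaf [nat_lit 8, nat_lit 7, nat_lit 3, nat_lit 9, nat_lit 6, nat_lit 5, nat_lit 4, nat_lit 3, nat_lit 11, nat_lit 10, nat_lit 0, nat_lit 1, nat_lit 2, nat_lit 3, nat_lit 8, nat_lit 7, nat_lit 3, nat_lit 9, nat_lit 6, nat_lit 5, nat_lit 4, nat_lit 3, nat_lit 11, nat_lit 10, nat_lit 0, nat_lit 1, nat_lit 2, nat_lit 3, nat_lit 8, nat_lit 7, nat_lit 3, nat_lit 9, nat_lit 6, nat_lit 5, nat_lit 4, nat_lit 3, nat_lit 11, nat_lit 10, nat_lit 0, nat_lit 1, nat_lit 2, nat_lit 3, nat_lit 8, nat_lit 7, nat_lit 3, nat_lit 9, nat_lit 6, nat_lit 5, nat_lit 4, nat_lit 3,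 nat_lit 11, nat_lit 10, nat_lit 0, nat_lit 1, nat_lit 2, nat_lit 3, nat_lit 8, nat_lit 7, nat_lit 3, nat_lit 9, nat_lit 6, nat_lit 5, nat_lit 4, nat_lit 3, nat_lit 11, nat_lit 10, nat_lit 0, nat_lit 1, nat_lit 2, nat_lit 3, nat_lit 8, nat_lit 7, nat_lit 3, nat_lit 9, nat_lit 6, nat_lit 5, nat_lit 4, nat_lit 3, nat_lit 11, nat_lit 10, nat_lit 0, nat_lit 1, nat_lit 2, nat_lit 3, nat_lit 8, nat_lit 7, nat_lit 3, nat_lit 9, nat_lit 6, nat_lit 5, nat_lit 4, nat_lit 3, nat_lit 11, nat_lit 10, nat_lit 0, nat_lit 1, nat_lit 2, nat_lit 3, nat_lit 8, nat_lit 7, nat_lit 3, nat_lit 9, nat_lit 6, nat_lit 5, nat_lit 4, nat_lit 3, nat_lit 11, nat_lit 10, nat_lit 0, nat_lit 1, nat_lit 2, nat_lit 3, nat_lit 8, nat_lit 7, nat_lit 3, nat_lit 9, nat_lit 6, nat_lit 5, nat_lit 4, nat_lit 3, nat_lit 11, nat_lit 10, nat_lit 0, nat_lit 1, nat_lit 2, nat_lit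 3, nat_lit 8, nat_lit 7, nat_lit 3, nat_lit 9, nat_lit 6, nat_lit 5, nat_lit 4, nat_lit 3, nat_lit 11, nat_lit 10, nat_lit 0, nat_lit 1, nat_lit 2, nat_lit 3, nat_lit 8, nat_lit 7, nat_lit 3, nat_lit 9, nat_lit 6, nat_lit 5, nat_lit 4, nat_lit 3, nat_lit 11, nat_lit 10, nat_lit 0, nat_lit 1, nat_lit 2, nat_lit 3, nat_lit 8, nat_lit 7, nat_lit 3, nat_lit 9, nat_lit 6, nat_lit 5, nat_lit 4, nat_lit 3, nat_lit 11, nat_lit 10, nat_lit 0, nat_lit 1, nat_lit 2, nat_lit 3, nat_lit 8, nat_lit 7, nat_lit 3, nat_lit 9, nat_lit 6, nat_lit 5, nat_lit 4, nat_lit 3, nat_lit 11, nat_lit 10, nat_lit 0, nat_lit 1, nat_lit 2, nat_lit 3, nat_lit 8, nat_lit 7, nat_lit 3, nat_lit 9, nat_lit 6, nat_lit 5, nat_lit 4, nat_lit 3, nat_lit 11, nat_lit 10, nat_lit 0, nat_lit 1, nat_lit 2, nat_lit 3, nat_lit 8, nat_lit 7, nat_lit 3, nat_lit 9, nat_lit 6, nat_lit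 5, nat_lit 4, nat_lit 3, nat_lit 11, nat_lit 10, nat_lit 0, nat_lit 1, nat_lit 2, nat_lit 3, nat_lit 8, nat_lit 7, nat_lit 3, nat_lit 9, nat_lit 6, nat_lit 5, nat_lit 4, nat_lit 3, nat_lit 11, nat_lit 10, nat_lit 0, nat_lit 1, nat_lit 2, nat_lit 3, nat_lit 8, nat_lit 7, nat_lit 3, nat_lit 9, nat_lit 6, nat_lit 5, nat_lit 4, nat_lit 3, nat_lit 11, nat_lit 10, nat_lit 0, nat_lit 1, nat_lit 2, nat_lit 3]) (.leaf [nat_lit 9, nat_lit 6, nat_lit 5, nat_lit 4, nat_lit 3, nat_lit 11, nat_lit 10, nat_lit 0, nat_lit 1, nat_lit 2, nat_lit 3, nat_lit 8, nat_lit 7, nat_lit 3, nat_lit 9, nat_lit 6, nat_lit 5, nat_lit 4, nat_lit 3, nat_lit 11, nat_lit 10, nat_lit 0, nat_lit 1, nat_lit 2, nat_lit 3, nat_lit 8, nat_lit 7, nat_lit 3, nat_lit 9, nat_lit 6, nat_lit 5, nat_lit 4, nat_lit 3, nat_lit 11, nat_lit 10, nat_lit 0, nat_lit 1, nat_lit 2, nat_lit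 3, nat_lit 8, nat_lit 7, nat_lit 3, nat_lit 9, nat_lit 6, nat_lit 5, nat_lit 4, nat_lit 3, nat_lit 11, nat_lit 10, nat_lit 0, nat_lit 1, nat_lit 2, nat_lit 3, nat_lit 8, nat_lit 7, nat_lit 3, nat_lit 9, nat_lit 6, nat_lit 5, nat_lit 4, nat_lit 3, nat_lit 11, nat_lit 10, nat_lit 0, nat_lit 1, nat_lit 2, nat_lit 3, nat_lit 8, nat_lit 7, nat_lit 3, nat_lit 9, nat_lit 6, nat_lit 5, nat_lit 4, nat_lit 3, nat_lit 11, nat_lit 10, nat_lit 0, nat_lit 1, nat_lit 2, nat_lit 3, nat_lit 8, nat_lit 7, nat_lit 3, nat_lit 9, nat_lit 6, nat_lit 5, nat_lit 4, nat_lit 3, nat_lit 11, nat_lit 10, nat_lit 0, nat_lit 1, nat_lit 2, nat_lit 3, nat_lit 8, nat_lit 7, nat_lit 3, nat_lit 9, nat_lit 6, nat_lit 5, nat_lit 4, nat_lit 3, nat_lit 11, nat_lit 10, nat_lit 0, nat_lit 1, nat_lit 2, nat_lit 3, nat_lit 8, nat_lit 7, nat_lit 3, nat_lit 9, nat_lit 6, nat_lit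 5, nat_lit 4, nat_lit 3, nat_lit 11, nat_lit 10, nat_lit 0, nat_lit 1, nat_lit 2, nat_lit 3, nat_lit 8, nat_lit 7, nat_lit 3, nat_lit 9, nat_lit 6, nat_lit 5, nat_lit 4, nat_lit 3, nat_lit 11, nat_lit 10, nat_lit 0, nat_lit 1, nat_lit 2, nat_lit 3, nat_lit 8, nat_lit 7, nat_lit 3, nat_lit 9, nat_lit 6, nat_lit 5, nat_lit 4, nat_lit 3, nat_lit 11, nat_lit 10, nat_lit 0, nat_lit 1, nat_lit 2, nat_lit 3, nat_lit 8, nat_lit 7, nat_lit 3, nat_lit 9, nat_lit 6, nat_lit 5, nat_lit 4, nat_lit 3, nat_lit 11, nat_lit 10, nat_lit 0, nat_lit 1, nat_lit 2, nat_lit 3, nat_lit 8, nat_lit 7, nat_lit 3, nat_lit 9, nat_lit 6, nat_lit 5, nat_lit 4, nat_lit 3, nat_lit 11, nat_lit 10, nat_lit 0, nat_lit 1, nat_lit 2, nat_lit 3, nat_lit 8, nat_lit 7, nat_lit 3, nat_lit 9, nat_lit 6, nat_lit 5, nat_lit 4, nat_lit 3, nat_lit 11, nat_lit 10, nat_lit 0, nat_lit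 1, nat_lit 2, nat_lit 3, nat_lit 8, nat_lit 7, nat_lit 3, nat_lit 9, nat_lit 6, nat_lit 5, nat_lit 4, nat_lit 3, nat_lit 11, nat_lit 10, nat_lit 0, nat_lit 1, nat_lit 2, nat_lit 3, nat_lit 8, nat_lit 7, nat_lit 3, nat_lit 9, nat_lit 6, nat_lit 5, nat_lit 4, nat_lit 3, nat_lit 11, nat_lit 10, nat_lit 0, nat_lit 1, nat_lit 2, nat_lit 3, nat_lit 8, nat_lit 7, nat_lit 3, nat_lit 9, nat_lit 6, nat_lit 5, nat_lit 4, nat_lit 3, nat_lit 11, nat_lit 10, nat_lit 0, nat_lit 1, nat_lit 2, nat_lit 3, nat_lit 8, nat_lit 7, nat_lit 3])))) (.node (nat_lit 203) (.node (nat_lit 201) (.leaf [nat_lit 6, nat_lit 9, nat_lit 3, nat_lit 7, nat_lit 8, nat_lit 3, nat_lit 2, nat_lit 1, nat_lit 0, nat_lit 10, nat_lit 11, nat_lit 3, nat_lit 4, nat_lit 5, nat_lit 6, nat_lit 9, nat_lit 3, nat_lit 7, nat_lit 8, nat_lit 3, nat_lit 2, nat_lit 1, nat_lit 0, nat_lit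 10, nat_lit 11, nat_lit 3, nat_lit 4, nat_lit 5, nat_lit 6, nat_lit 9, nat_lit 3, nat_lit 7, nat_lit 8, nat_lit 3, nat_lit 2, nat_lit 1, nat_lit 0, nat_lit 10, nat_lit 11, nat_lit 3, nat_lit 4, nat_lit 5, nat_lit 6, nat_lit 9, nat_lit 3, nat_lit 7, nat_lit 8, nat_lit 3, nat_lit 2, nat_lit 1, nat_lit 0, nat_lit 10, nat_lit 11, nat_lit 3, nat_lit 4, nat_lit 5, nat_lit 6, nat_lit 9, nat_lit 3, nat_lit 7, nat_lit 8, nat_lit 3, nat_lit 2, nat_lit 1, nat_lit 0, nat_lit 10, nat_lit 11, nat_lit 3, nat_lit 4, nat_lit 5, nat_lit 6, nat_lit 9, nat_lit 3, nat_lit 7, nat_lit 8, nat_lit 3, nat_lit 2, nat_lit 1, nat_lit 0, nat_lit 10, nat_lit 11, nat_lit 3, nat_lit 4, nat_lit 5, nat_lit 6, nat_lit 9, nat_lit 3, nat_lit 7, nat_lit 8, nat_lit 3, nat_lit 2, nat_lit 1, nat_lit 0, nat_lit 10, nat_lit 11, nat_lit 3, nat_lit 4, nat_lit 5, nat_lit 6, nat_lit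 9, nat_lit 3, nat_lit 7, nat_lit 8, nat_lit 3, nat_lit 2, nat_lit 1, nat_lit 0, nat_lit 10, nat_lit 11, nat_lit 3, nat_lit 4, nat_lit 5, nat_lit 6, nat_lit 9, nat_lit 3, nat_lit 7, nat_lit 8, nat_lit 3, nat_lit 2, nat_lit 1, nat_lit 0, nat_lit 10, nat_lit 11, nat_lit 3, nat_lit 4, nat_lit 5, nat_lit 6, nat_lit 9, nat_lit 3, nat_lit 7, nat_lit 8, nat_lit 3, nat_lit 2, nat_lit 1, nat_lit 0, nat_lit 10, nat_lit 11, nat_lit 3, nat_lit 4, nat_lit 5, nat_lit 6, nat_lit 9, nat_lit 3, nat_lit 7, nat_lit 8, nat_lit 3, nat_lit 2, nat_lit 1, nat_lit 0, nat_lit 10, nat_lit 11, nat_lit 3, nat_lit 4, nat_lit 5, nat_lit 6, nat_lit 9, nat_lit 3, nat_lit 7, nat_lit 8, nat_lit 3, nat_lit 2, nat_lit 1, nat_lit 0, nat_lit 10, nat_lit 11, nat_lit 3, nat_lit 4, nat_lit 5, nat_lit 6, nat_lit 9, nat_lit 3, nat_lit 7, nat_lit 8, nat_lit 3, nat_lit 2, nat_lit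 1, nat_lit 0, nat_lit 10, nat_lit 11, nat_lit 3, nat_lit 4, nat_lit 5, nat_lit 6, nat_lit 9, nat_lit 3, nat_lit 7, nat_lit 8, nat_lit 3, nat_lit 2, nat_lit 1, nat_lit 0, nat_lit 10, nat_lit 11, nat_lit 3, nat_lit 4, nat_lit 5, nat_lit 6, nat_lit 9, nat_lit 3, nat_lit 7, nat_lit 8, nat_lit 3, nat_lit 2, nat_lit 1, nat_lit 0, nat_lit 10, nat_lit 11, nat_lit 3, nat_lit 4, nat_lit 5, nat_lit 6, nat_lit 9, nat_lit 3, nat_lit 7, nat_lit 8, nat_lit 3, nat_lit 2, nat_lit 1, nat_lit 0, nat_lit 10, nat_lit 11, nat_lit 3, nat_lit 4, nat_lit 5, nat_lit 6, nat_lit 9, nat_lit 3, nat_lit 7, nat_lit 8, nat_lit 3, nat_lit 2, nat_lit 1, nat_lit 0, nat_lit 10, nat_lit 11, nat_lit 3, nat_lit 4, nat_lit 5]) (.node (nat_lit 202) (.leaf [nat_lit 5, nat_lit 6, nat_lit 9, nat_lit 3, nat_lit 7, nat_lit 8, nat_lit 3, nat_lit 2, nat_lit 1, nat_lit 0, nat_lit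 10, nat_lit 11, nat_lit 3, nat_lit 4, nat_lit 5, nat_lit 6, nat_lit 9, nat_lit 3, nat_lit 7, nat_lit 8, nat_lit 3, nat_lit 2, nat_lit 1, nat_lit 0, nat_lit 10, nat_lit 11, nat_lit 3, nat_lit 4, nat_lit 5, nat_lit 6, nat_lit 9, nat_lit 3, nat_lit 7, nat_lit 8, nat_lit 3, nat_lit 2, nat_lit 1, nat_lit 0, nat_lit 10, nat_lit 11, nat_lit 3, nat_lit 4, nat_lit 5, nat_lit 6, nat_lit 9, nat_lit 3, nat_lit 7, nat_lit 8, nat_lit 3, nat_lit 2, nat_lit 1, nat_lit 0, nat_lit 10, nat_lit 11, nat_lit 3, nat_lit 4, nat_lit 5, nat_lit 6, nat_lit 9, nat_lit 3, nat_lit 7, nat_lit 8, nat_lit 3, nat_lit 2, nat_lit 1, nat_lit 0, nat_lit 10, nat_lit 11, nat_lit 3, nat_lit 4, nat_lit 5, nat_lit 6, nat_lit 9, nat_lit 3, nat_lit 7, nat_lit 8, nat_lit 3, nat_lit 2, nat_lit 1, nat_lit 0, nat_lit 10, nat_lit 11, nat_lit 3, nat_lit 4, nat_lit 5, nat_lit 6, nat_lit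 9, nat_lit 3, nat_lit 7, nat_lit 8, nat_lit 3, nat_lit 2, nat_lit 1, nat_lit 0, nat_lit 10, nat_lit 11, nat_lit 3, nat_lit 4, nat_lit 5, nat_lit 6, nat_lit 9, nat_lit 3, nat_lit 7, nat_lit 8, nat_lit 3, nat_lit 2, nat_lit 1, nat_lit 0, nat_lit 10, nat_lit 11, nat_lit 3, nat_lit 4, nat_lit 5, nat_lit 6, nat_lit 9, nat_lit 3, nat_lit 7, nat_lit 8, nat_lit 3, nat_lit 2, nat_lit 1, nat_lit 0, nat_lit 10, nat_lit 11, nat_lit 3, nat_lit 4, nat_lit 5, nat_lit 6, nat_lit 9, nat_lit 3, nat_lit 7, nat_lit 8, nat_lit 3, nat_lit 2, nat_lit 1, nat_lit 0, nat_lit 10, nat_lit 11, nat_lit 3, nat_lit 4, nat_lit 5, nat_lit 6, nat_lit 9, nat_lit 3, nat_lit 7, nat_lit 8, nat_lit 3, nat_lit 2, nat_lit 1, nat_lit 0, nat_lit 10, nat_lit 11, nat_lit 3, nat_lit 4, nat_lit 5, nat_lit 6, nat_lit 9, nat_lit 3, nat_lit 7, nat_lit 8, nat_lit 3, nat_lit 2, nat_lit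 1, nat_lit 0, nat_lit 10, nat_lit 11, nat_lit 3, nat_lit 4, nat_lit 5, nat_lit 6, nat_lit 9, nat_lit 3, nat_lit 7, nat_lit 8, nat_lit 3, nat_lit 2, nat_lit 1, nat_lit 0, nat_lit 10, nat_lit 11, nat_lit 3, nat_lit 4, nat_lit 5, nat_lit 6, nat_lit 9, nat_lit 3, nat_lit 7, nat_lit 8, nat_lit 3, nat_lit 2, nat_lit 1, nat_lit 0, nat_lit 10, nat_lit 11, nat_lit 3, nat_lit 4, nat_lit 5, nat_lit 6, nat_lit 9, nat_lit 3, nat_lit 7, nat_lit 8, nat_lit 3, nat_lit 2, nat_lit 1, nat_lit 0, nat_lit 10, nat_lit 11, nat_lit 3, nat_lit 4, nat_lit 5, nat_lit 6, nat_lit 9, nat_lit 3, nat_lit 7, nat_lit 8, nat_lit 3, nat_lit 2, nat_lit 1, nat_lit 0, nat_lit 10, nat_lit 11, nat_lit 3, nat_lit 4, nat_lit 5, nat_lit 6, nat_lit 9, nat_lit 3, nat_lit 7, nat_lit 8, nat_lit 3, nat_lit 2, nat_lit 1, nat_lit 0, nat_lit 10, nat_lit 11, nat_lit 3, nat_lit 4]) (.leaf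 [nat_lit 3, nat_lit 9, nat_lit 6, nat_lit 5, nat_lit 4, nat_lit 3, nat_lit 11, nat_lit 10, nat_lit 0, nat_lit 1, nat_lit 2, nat_lit 3, nat_lit 8, nat_lit 7, nat_lit 3, nat_lit 9, nat_lit 6, nat_lit 5, nat_lit 4, nat_lit 3, nat_lit 11, nat_lit 10, nat_lit 0, nat_lit 1, nat_lit 2, nat_lit 3, nat_lit 8, nat_lit 7, nat_lit 3, nat_lit 9, nat_lit 6, nat_lit 5, nat_lit 4, nat_lit 3, nat_lit 11, nat_lit 10, nat_lit 0, nat_lit 1, nat_lit 2, nat_lit 3, nat_lit 8, nat_lit 7, nat_lit 3, nat_lit 9, nat_lit 6, nat_lit 5, nat_lit 4, nat_lit 3, nat_lit 11, nat_lit 10, nat_lit 0, nat_lit 1, nat_lit 2, nat_lit 3, nat_lit 8, nat_lit 7, nat_lit 3, nat_lit 9, nat_lit 6, nat_lit 5, nat_lit 4, nat_lit 3, nat_lit 11, nat_lit 10, nat_lit 0, nat_lit 1, nat_lit 2, nat_lit 3, nat_lit 8, nat_lit 7, nat_lit 3, nat_lit 9, nat_lit 6, nat_lit 5, nat_lit 4, nat_lit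 3, nat_lit 11, nat_lit 10, nat_lit 0, nat_lit 1, nat_lit 2, nat_lit 3, nat_lit 8, nat_lit 7, nat_lit 3, nat_lit 9, nat_lit 6, nat_lit 5, nat_lit 4, nat_lit 3, nat_lit 11, nat_lit 10, nat_lit 0, nat_lit 1, nat_lit 2, nat_lit 3, nat_lit 8, nat_lit 7, nat_lit 3, nat_lit 9, nat_lit 6, nat_lit 5, nat_lit 4, nat_lit 3, nat_lit 11, nat_lit 10, nat_lit 0, nat_lit 1, nat_lit 2, nat_lit 3, nat_lit 8, nat_lit 7, nat_lit 3, nat_lit 9, nat_lit 6, nat_lit 5, nat_lit 4, nat_lit 3, nat_lit 11, nat_lit 10, nat_lit 0, nat_lit 1, nat_lit 2, nat_lit 3, nat_lit 8, nat_lit 7, nat_lit 3, nat_lit 9, nat_lit 6, nat_lit 5, nat_lit 4, nat_lit 3, nat_lit 11, nat_lit 10, nat_lit 0, nat_lit 1, nat_lit 2, nat_lit 3, nat_lit 8, nat_lit 7, nat_lit 3, nat_lit 9, nat_lit 6, nat_lit 5, nat_lit 4, nat_lit 3, nat_lit 11, nat_lit 10, nat_lit 0, nat_lit 1, nat_lit 2, nat_lit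 3, nat_lit 8, nat_lit 7, nat_lit 3, nat_lit 9, nat_lit 6, nat_lit 5, nat_lit 4, nat_lit 3, nat_lit 11, nat_lit 10, nat_lit 0, nat_lit 1, nat_lit 2, nat_lit 3, nat_lit 8, nat_lit 7, nat_lit 3, nat_lit 9, nat_lit 6, nat_lit 5, nat_lit 4, nat_lit 3, nat_lit 11, nat_lit 10, nat_lit 0, nat_lit 1, nat_lit 2, nat_lit 3, nat_lit 8, nat_lit 7, nat_lit 3, nat_lit 9, nat_lit 6, nat_lit 5, nat_lit 4, nat_lit 3, nat_lit 11, nat_lit 10, nat_lit 0, nat_lit 1, nat_lit 2, nat_lit 3, nat_lit 8, nat_lit 7, nat_lit 3, nat_lit 9, nat_lit 6, nat_lit 5, nat_lit 4, nat_lit 3, nat_lit 11, nat_lit 10, nat_lit 0, nat_lit 1, nat_lit 2, nat_lit 3, nat_lit 8, nat_lit 7, nat_lit 3, nat_lit 9, nat_lit 6, nat_lit 5, nat_lit 4, nat_lit 3, nat_lit 11, nat_lit 10, nat_lit 0, nat_lit 1, nat_lit 2, nat_lit 3, nat_lit 8, nat_lit 7, nat_lit 3, nat_lit 9, nat_lit 6, nat_lit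 5, nat_lit 4, nat_lit 3, nat_lit 11, nat_lit 10, nat_lit 0, nat_lit 1, nat_lit 2, nat_lit 3, nat_lit 8, nat_lit 7]))) (.node (nat_lit 205) (.node (nat_lit 204) (.leaf [nat_lit 3, nat_lit 11, nat_lit 10, nat_lit 0, nat_lit 1, nat_lit 2, nat_lit 3, nat_lit 8, nat_lit 7, nat_lit 3, nat_lit 9, nat_lit 6, nat_lit 5, nat_lit 4, nat_lit 3, nat_lit 11, nat_lit 10, nat_lit 0, nat_lit 1, nat_lit 2, nat_lit 3, nat_lit 8, nat_lit 7, nat_lit 3, nat_lit 9, nat_lit 6, nat_lit 5, nat_lit 4, nat_lit 3, nat_lit 11, nat_lit 10, nat_lit 0, nat_lit 1, nat_lit 2, nat_lit 3, nat_lit 8, nat_lit 7, nat_lit 3, nat_lit 9, nat_lit 6, nat_lit 5, nat_lit 4, nat_lit 3, nat_lit 11, nat_lit 10, nat_lit 0, nat_lit 1, nat_lit 2, nat_lit 3, nat_lit 8, nat_lit 7, nat_lit 3, nat_lit 9, nat_lit 6, nat_lit 5, nat_lit 4, nat_lit 3, nat_lit 11, nat_lit 10, nat_lit 0, nat_lit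 1, nat_lit 2, nat_lit 3, nat_lit 8, nat_lit 7, nat_lit 3, nat_lit 9, nat_lit 6, nat_lit 5, nat_lit 4, nat_lit 3, nat_lit 11, nat_lit 10, nat_lit 0, nat_lit 1, nat_lit 2, nat_lit 3, nat_lit 8, nat_lit 7, nat_lit 3, nat_lit 9, nat_lit 6, nat_lit 5, nat_lit 4, nat_lit 3, nat_lit 11, nat_lit 10, nat_lit 0, nat_lit 1, nat_lit 2, nat_lit 3, nat_lit 8, nat_lit 7, nat_lit 3, nat_lit 9, nat_lit 6, nat_lit 5, nat_lit 4, nat_lit 3, nat_lit 11, nat_lit 10, nat_lit 0, nat_lit 1, nat_lit 2, nat_lit 3, nat_lit 8, nat_lit 7, nat_lit 3, nat_lit 9, nat_lit 6, nat_lit 5, nat_lit 4, nat_lit 3, nat_lit 11, nat_lit 10, nat_lit 0, nat_lit 1, nat_lit 2, nat_lit 3, nat_lit 8, nat_lit 7, nat_lit 3, nat_lit 9, nat_lit 6, nat_lit 5, nat_lit 4, nat_lit 3, nat_lit 11, nat_lit 10, nat_lit 0, nat_lit 1, nat_lit 2, nat_lit 3, nat_lit 8, nat_lit 7, nat_lit 3, nat_lit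 9, nat_lit 6, nat_lit 5, nat_lit 4, nat_lit 3, nat_lit 11, nat_lit 10, nat_lit 0, nat_lit 1, nat_lit 2, nat_lit 3, nat_lit 8, nat_lit 7, nat_lit 3, nat_lit 9, nat_lit 6, nat_lit 5, nat_lit 4, nat_lit 3, nat_lit 11, nat_lit 10, nat_lit 0, nat_lit 1, nat_lit 2, nat_lit 3, nat_lit 8, nat_lit 7, nat_lit 3, nat_lit 9, nat_lit 6, nat_lit 5, nat_lit 4, nat_lit 3, nat_lit 11, nat_lit 10, nat_lit 0, nat_lit 1, nat_lit 2, nat_lit 3, nat_lit 8, nat_lit 7, nat_lit 3, nat_lit 9, nat_lit 6, nat_lit 5, nat_lit 4, nat_lit 3, nat_lit 11, nat_lit 10, nat_lit 0, nat_lit 1, nat_lit 2, nat_lit 3, nat_lit 8, nat_lit 7, nat_lit 3, nat_lit 9, nat_lit 6, nat_lit 5, nat_lit 4, nat_lit 3, nat_lit 11, nat_lit 10, nat_lit 0, nat_lit 1, nat_lit 2, nat_lit 3, nat_lit 8, nat_lit 7, nat_lit 3, nat_lit 9, nat_lit 6, nat_lit 5, nat_lit 4, nat_lit 3, nat_lit 11, nat_lit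 10, nat_lit 0, nat_lit 1, nat_lit 2, nat_lit 3, nat_lit 8, nat_lit 7, nat_lit 3, nat_lit 9, nat_lit 6, nat_lit 5, nat_lit 4, nat_lit 3, nat_lit 11, nat_lit 10, nat_lit 0, nat_lit 1, nat_lit 2, nat_lit 3, nat_lit 8, nat_lit 7, nat_lit 3, nat_lit 9, nat_lit 6, nat_lit 5, nat_lit 4]) (.leaf [nat_lit 0, nat_lit 7, nat_lit 5, nat_lit 4, nat_lit 3, nat_lit 2, nat_lit 1, nat_lit 0, nat_lit 11, nat_lit 7, nat_lit 5, nat_lit 4, nat_lit 3, nat_lit 2, nat_lit 1, nat_lit 0, nat_lit 7, nat_lit 5, nat_lit 4, nat_lit 3, nat_lit 2, nat_lit 1, nat_lit 0, nat_lit 7, nat_lit 5, nat_lit 4, nat_lit 3, nat_lit 2, nat_lit 1, nat_lit 0, nat_lit 7, nat_lit 5, nat_lit 4, nat_lit 3, nat_lit 2, nat_lit 1, nat_lit 0, nat_lit 7, nat_lit 5, nat_lit 4, nat_lit 3, nat_lit 2, nat_lit 1, nat_lit 0, nat_lit 7, nat_lit 5, nat_lit 4, nat_lit 3, nat_lit 2, nat_lit 1, nat_lit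 0, nat_lit 7, nat_lit 5, nat_lit 4, nat_lit 3, nat_lit 2, nat_lit 1, nat_lit 0, nat_lit 7, nat_lit 5, nat_lit 4, nat_lit 3, nat_lit 2, nat_lit 1])) (.node (nat_lit 206) (.leaf [nat_lit 3, nat_lit 2, nat_lit 1, nat_lit 0, nat_lit 7, nat_lit 5, nat_lit 4, nat_lit 3, nat_lit 2, nat_lit 1, nat_lit 0, nat_lit 7, nat_lit 5, nat_lit 4, nat_lit 3, nat_lit 2, nat_lit 1, nat_lit 0, nat_lit 7, nat_lit 5, nat_lit 4, nat_lit 3, nat_lit 2, nat_lit 1, nat_lit 0, nat_lit 7, nat_lit 5, nat_lit 4, nat_lit 3, nat_lit 2, nat_lit 1, nat_lit 0, nat_lit 7, nat_lit 5, nat_lit 4, nat_lit 3, nat_lit 2, nat_lit 1, nat_lit 0, nat_lit 7, nat_lit 5, nat_lit 4, nat_lit 3, nat_lit 2, nat_lit 1, nat_lit 0, nat_lit 7, nat_lit 5, nat_lit 4, nat_lit 3, nat_lit 2, nat_lit 1, nat_lit 0, nat_lit 11, nat_lit 7, nat_lit 5, nat_lit 4, nat_lit 3, nat_lit 2, nat_lit 1, nat_lit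 0, nat_lit 7, nat_lit 5, nat_lit 4]) (.leaf [nat_lit 7, nat_lit 8, nat_lit 3, nat_lit 2, nat_lit 1, nat_lit 0, nat_lit 10, nat_lit 11, nat_lit 3, nat_lit 4, nat_lit 5, nat_lit 6, nat_lit 9, nat_lit 3, nat_lit 7, nat_lit 8, nat_lit 3, nat_lit 2, nat_lit 1, nat_lit 0, nat_lit 10, nat_lit 11, nat_lit 3, nat_lit 4, nat_lit 5, nat_lit 6, nat_lit 9, nat_lit 3, nat_lit 7, nat_lit 8, nat_lit 3, nat_lit 2, nat_lit 1, nat_lit 0, nat_lit 10, nat_lit 11, nat_lit 3, nat_lit 4, nat_lit 5, nat_lit 6, nat_lit 9, nat_lit 3, nat_lit 7, nat_lit 8, nat_lit 3, nat_lit 2, nat_lit 1, nat_lit 0, nat_lit 10, nat_lit 11, nat_lit 3, nat_lit 4, nat_lit 5, nat_lit 6, nat_lit 9, nat_lit 3, nat_lit 7, nat_lit 8, nat_lit 3, nat_lit 2, nat_lit 1, nat_lit 0, nat_lit 10, nat_lit 11, nat_lit 3, nat_lit 4, nat_lit 5, nat_lit 6, nat_lit 9, nat_lit 3, nat_lit 7, nat_lit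 8, nat_lit 3, nat_lit 2, nat_lit 1, nat_lit 0, nat_lit 10, nat_lit 11, nat_lit 3, nat_lit 4, nat_lit 5, nat_lit 6, nat_lit 9, nat_lit 3, nat_lit 7, nat_lit 8, nat_lit 3, nat_lit 2, nat_lit 1, nat_lit 0, nat_lit 10, nat_lit 11, nat_lit 3, nat_lit 4, nat_lit 5, nat_lit 6, nat_lit 9, nat_lit 3, nat_lit 7, nat_lit 8, nat_lit 3, nat_lit 2, nat_lit 1, nat_lit 0, nat_lit 10, nat_lit 11, nat_lit 3, nat_lit 4, nat_lit 5, nat_lit 6, nat_lit 9, nat_lit 3, nat_lit 7, nat_lit 8, nat_lit 3, nat_lit 2, nat_lit 1, nat_lit 0, nat_lit 10, nat_lit 11, nat_lit 3, nat_lit 4, nat_lit 5, nat_lit 6, nat_lit 9, nat_lit 3, nat_lit 7, nat_lit 8, nat_lit 3, nat_lit 2, nat_lit 1, nat_lit 0, nat_lit 10, nat_lit 11, nat_lit 3, nat_lit 4, nat_lit 5, nat_lit 6, nat_lit 9, nat_lit 3, nat_lit 7, nat_lit 8, nat_lit 3, nat_lit 2, nat_lit 1, nat_lit 0, nat_lit 10, nat_lit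 11, nat_lit 3, nat_lit 4, nat_lit 5, nat_lit 6, nat_lit 9, nat_lit 3, nat_lit 7, nat_lit 8, nat_lit 3, nat_lit 2, nat_lit 1, nat_lit 0, nat_lit 10, nat_lit 11, nat_lit 3, nat_lit 4, nat_lit 5, nat_lit 6, nat_lit 9, nat_lit 3, nat_lit 7, nat_lit 8, nat_lit 3, nat_lit 2, nat_lit 1, nat_lit 0, nat_lit 10, nat_lit 11, nat_lit 3, nat_lit 4, nat_lit 5, nat_lit 6, nat_lit 9, nat_lit 3, nat_lit 7, nat_lit 8, nat_lit 3, nat_lit 2, nat_lit 1, nat_lit 0, nat_lit 10, nat_lit 11, nat_lit 3, nat_lit 4, nat_lit 5, nat_lit 6, nat_lit 9, nat_lit 3, nat_lit 7, nat_lit 8, nat_lit 3, nat_lit 2, nat_lit 1, nat_lit 0, nat_lit 10, nat_lit 11, nat_lit 3, nat_lit 4, nat_lit 5, nat_lit 6, nat_lit 9, nat_lit 3, nat_lit 7, nat_lit 8, nat_lit 3, nat_lit 2, nat_lit 1, nat_lit 0, nat_lit 10, nat_lit 11, nat_lit 3, nat_lit 4, nat_lit 5, nat_lit 6, nat_lit 9, nat_lit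 3, nat_lit 7, nat_lit 8, nat_lit 3, nat_lit 2, nat_lit 1, nat_lit 0, nat_lit 10, nat_lit 11, nat_lit 3, nat_lit 4, nat_lit 5, nat_lit 6, nat_lit 9, nat_lit 3])))))))))
noncomputable def P : TCP where
  lk := lk
  inv := (fun l => l)
  wt := wt.get
  gens := [nat_lit 0, nat_lit 1, nat_lit 2, nat_lit 3, nat_lit 4, nat_lit 5, nat_lit 6, nat_lit 7, nat_lit 8, nat_lit 9, nat_lit 10, nat_lit 11]
  N := nat_lit 346172
  n := nat_lit 306936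
  eps := nat_lit 12
  VM := nat_lit 524287
  Wv := nat_lit 19
  MAXB := nat_lit 267911168
  JM := nat_lit 511
  Wj := nat_lit 9
  Hm := nat_lit 3071
def ls : List Nat := [nat_lit 0, nat_lit 1, nat_lit 2, nat_lit 3, nat_lit 4, nat_lit 5, nat_lit 6, nat_lit 7, nat_lit 8, nat_lit 9, nat_lit 10, nat_lit 11, nat_lit 12]
def cl1 : Cl := (.gen (nat_lit 0) (.gen (nat_lit 1) (.gen (nat_lit 2) (.gen (nat_lit 3) (.gen (nat_lit 4) (.gen (nat_lit 5) (.gen (nat_lit 6) (.gen (nat_lit 7) (.gen (nat_lit 8) (.gen (nat_lit 9) (.gen (nat_lit 10) (.gen (nat_lit 11) (.opt (nat_lit 12) .nil)))))))))))))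
def cl2 : Cl := (.opt (nat_lit 0) (.opt (nat_lit 1) (.opt (nat_lit 2) (.opt (nat_lit 3) (.opt (nat_lit 4) (.opt (nat_lit 5) (.opt (nat_lit 6) (.opt (nat_lit 7) (.opt (nat_lit 8) (.opt (nat_lit 9) (.opt (nat_lit 10) (.opt (nat_lit 11) (.opt (nat_lit 12) .nil)))))))))))))
noncomputable def chk : ℕ → List ℕ → ℕ → Bool :=
  rows2 (nat_lit 306936) (parOk P) (cols2 lk (nat_lit 267911168) (nat_lit 306936) (nat_lit 346172) (ent1 (nat_lit 524287) (nat_lit 511) (nat_lit 9) (decJ wt.get)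
    (ent2 lk (nat_lit 524287) (special P) (slowE lk (fun l => l) (nat_lit 346172) (nat_lit 12) (nat_lit 524287) (nat_lit 21))))) cl1 cl2
theorem rg {x y : ℕ} (Js : List ℕ) (h : chk y Js x = true) : RowsGood P ls x y :=
  rowsGood_of2 (c1 := cl1) (c2 := cl2) (by decide +kernel) h
def bases : List (List Nat × Nat) := [([0, 0], 1), ([0, 1], 3), ([0, 2], 2), ([0, 3], 2), ([0, 4], 2), ([0, 5], 2), ([0, 6], 2), ([0, 7], 2), ([0, 8], 2), ([0, 9], 2), ([0, 10], 3), ([0, 11], 2), ([1, 1], 1), ([1, 2], 3), ([1, 3], 2), ([1, 4], 2), ([1, 5], 2), ([1, 6], 2), ([1, 7], 2), ([1, 8], 2), ([1, 9], 2), ([1, 10], 2), ([1, 11], 2), ([2, 2], 1), ([2, 3], 3), ([2, 4], 2), ([2, 5], 2), ([2, 6], 2), ([2, 7], 2), ([2, 8], 2), ([2, 9], 2), ([2, 10], 2), ([2, 11], 2), ([3, 3], 1), ([3, 4], 3), ([3, 5], 2), ([3, 6], 2), ([3, 7], 3), ([3, 8], 2), ([3, 9], 2),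 ([3, 10], 2), ([3, 11], 2), ([4, 4], 1), ([4, 5], 3), ([4, 6], 2), ([4, 7], 2), ([4, 8], 2), ([4, 9], 2), ([4, 10], 2), ([4, 11], 2), ([5, 5], 1), ([5, 6], 3), ([5, 7], 2), ([5, 8], 2), ([5, 9], 2), ([5, 10], 2), ([5, 11], 2), ([6, 6], 1), ([6, 7], 2), ([6, 8], 2), ([6, 9], 3), ([6, 10], 2), ([6, 11], 2), ([7, 7], 1), ([7, 8], 3), ([7, 9], 2), ([7, 10], 2), ([7, 11], 2), ([8, 8], 1), ([8, 9], 2), ([8, 10], 2), ([8, 11], 2), ([9, 9], 1), ([9, 10], 2), ([9, 11], 2), ([10, 10], 1), ([10, 11], 3), ([11, 11], 1), ([11, 7, 5, 4, 3, 2, 1, 0, 7, 5, 4, 3, 2, 1, 0, 7, 5, 4, 3, 2, 1, 0, 7, 5, 4, 3, 2, 1, 0, 7, 5, 4, 3, 2, 1, 0, 7, 5, 4, 3, 2, 1, 0, 7, 5, 4, 3, 2, 1, 0, 7, 5, 4, 3, 2, 1, 0, 7, 5, 4, 3, 2, 1, 0], 1), ([3, 2, 1, 0, 10, 11, 3, 4, 5, 6, 9, 3, 7, 8], 17)]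

end Cfsg.Agent.H15.F24a
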